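/-
²E₆(2) is generated by ten root involutions satisfying `Lift.Good` (the relators of the Baby Monster on `t2, …, t11`
together with all `E₇` relations).
-/
import Cfsg.Agent.TwoESix.Main
import Cfsg.Agent.TwoESix.Lift
import Cfsg.Agent.Prune
set_option linter.all false
prune_inst 0x7f00000000000000000000000000000000000000000000000000000000000000000000000000000000000000000000000000000000000000000000000000000000000000000000000000000000000000003fffffffffffffffffffffffffffbeffbdffffffff
open scoped Cfsg.Agent.FastGrp
set_option autoImplicit false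

namespace Cfsg.Agent.TwoESix.GoodInst

open Cfsg.Lie Cfsg.Agent.TwoESix.Main

theorem lab_three : ∀ i j : Fin 10, Cox10.lab i j = 3 → Rels.adj i j = true := by decide +kernel

theorem lab_two : ∀ i j : Fin 10, Cox10.lab i j = 2 → Rels.adj i j = false := by decide +kernel

theorem good_of_Y333 {G : Type*} [Group G] {t : Fin 10 → G} (h : Y333 t) : Lift.Good t where
  lift := by
    intro i j
    rw [Cox10.M10_apply]
    rcases Cox10.lab_cases i j with ⟨h1, rfl⟩ | h1 | h1
    · rw [h1, pow_one]; exact h.sq i
    · rw [h1, pow_two]
      have h2 := h.comm i j (lab_two i j h1)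
      calc t i * t j * (t i * t j) = t i * (t j * t i) * t j := by simp only [mul_assoc]
        _ = 1 := by rw [← h2, ← mul_assoc, h.sq, one_mul, h.sq]
    · rw [h1]
      have h2 := h.braid i j (lab_three i j h1)
      have h3 : (t i * t j) ^ 3 = (t i * t j * t i) * (t j * t i * t j) := by
        rw [pow_succ, pow_two]; simp only [mul_assoc]
      have h4 : t i * t j * t i * (t i * t j * t i) = t i * (t j * ((t i * t i) * t j)) * t i := by
        simp only [mul_assoc]
      rw [h3, ← h2, h4, h.sq, one_mul, h.sq, mul_one, h.sq]
  spider := by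
    have h1 := h.spider
    simpa only [Cox10.ev, Cox10.spider, List.map_cons, List.map_nil, List.prod_cons, List.prod_nil, mul_one,
      ← mul_assoc] using h1
  e321 := by
    have h1 := h.e7_c
    simpa only [Cox10.ev, Cox10.W321, List.map_cons, List.map_nil, List.prod_cons, List.prod_nil, mul_one,
      ← mul_assoc] using h1
  e231 := by
    have h1 := h.e7_a
    simpa only [Cox10.ev, Cox10.W231, List.map_cons, List.map_nil, List.prod_cons, List.prod_nil, mul_one,
      ← mul_assoc] using h1
  e213 := by
    have h1 := h.e7_b
    simpa only [Cox10.ev, Cox10.W213, List.map_cons, List.map_nil, List.prod_cons, List.prod_nil, mul_one,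
      ← mul_assoc] using h1

/-- ²E₆(2) is generated by ten root involutions with `Lift.Good`. -/
theorem exists_good (K : Type*) [Field K] [Fintype K] (hK : Fintype.card K = 4) :
    ∃ (e : Fin 10 → twistedE6 K 2) (r : twistedE6 K 2), Lift.Good e ∧ Subgroup.closure (Set.range e) = ⊤ ∧
      ((r : GL chevE6.Idx K) : Matrix chevE6.Idx chevE6.Idx K) = chevE6.x K e6p2 1 ∧
      (∀ i, e i ≠ 1) ∧ ∀ i, ∃ g, e i = g * r * g⁻¹ := by
  obtain ⟨t, r, h1, h2, h3, h4, h5⟩ := exists_gens K hK
  exact ⟨t, r, good_of_Y333 h1, h2, h3, h4, h5⟩

end Cfsg.Agent.TwoESix.GoodInst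

private theorem dce_f5827188a4ec : _root_.True := by
  try have : _root_.True := by simp only [_root_.Cfsg.Agent.TwoESix.Cox10.W321.eq_1]
  try have : _root_.True := by simp only [_root_.Cfsg.Agent.TwoESix.Cox10.spider.eq_1]
  try have : _root_.True := by simp only [_root_.Cfsg.Agent.TwoESix.Cox10.W213.eq_1]
  try have : _root_.True := by simp only [_root_.Cfsg.Agent.TwoESix.Cox10.W231.eq_1]
  exact _root_.True.intro
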