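import Cfsg.Agent.TwoESix.Cox10
import Cfsg.Agent.Prune
set_option linter.all false
prune_inst 0x7f00000000000000000000000000000000000000000000000000000000000000000000000000000000000000000000000000000000000000000000000000000000000000000000000000000000000000003fffffffffffffffffffffffffffbeffbdffffffff
open scoped Cfsg.Agent.FastGrp

set_option autoImplicit false

namespace Cfsg.Agent.TwoESix.CoxFast

/-! a faster evaluation of `Cox10.chk` -/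

/-- functions of the ten coordinates -/
def FvT : Type := ℤ → ℤ → ℤ → ℤ → ℤ → ℤ → ℤ → ℤ → ℤ → ℤ → List ℤ

/-- one reflection -/
noncomputable def fvStep (i : ℕ) (K : FvT) : FvT := fun a0 a1 a2 a3 a4 a5 a6 a7 a8 a9 =>
  (Bool.rec (motive := fun _ => List ℤ)
   (Bool.rec (motive := fun _ => List ℤ)
    (Bool.rec (motive := fun _ => List ℤ)
     (Bool.rec (motive := fun _ => List ℤ)
      (K a0 a1 a2 a3 a4 a5 a6 a7 a8 (Int.sub a8 a9))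
      (K a0 a1 a2 a3 a4 a5 a6 a7 (Int.sub (Int.add a7 a9) a8) a9) (Nat.blt i 9))
     (K a0 a1 a2 a3 a4 a5 a6 (Int.sub (Int.add a3 a8) a7) a8 a9) (Nat.blt i 8))
    (Bool.rec (motive := fun _ => List ℤ)
     (K a0 a1 a2 a3 a4 a5 (Int.sub a5 a6) a7 a8 a9)
     (K a0 a1 a2 a3 a4 (Int.sub (Int.add a4 a6) a5) a6 a7 a8 a9) (Nat.blt i 6)) (Nat.blt i 7))
   (Bool.rec (motive := fun _ => List ℤ)
    (Bool.rec (motive := fun _ => List ℤ)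
     (Bool.rec (motive := fun _ => List ℤ)
      (K a0 a1 a2 a3 (Int.sub (Int.add a3 a5) a4) a5 a6 a7 a8 a9)
      (K a0 a1 a2 (Int.sub (Int.add (Int.add a2 a4) a7) a3) a4 a5 a6 a7 a8 a9) (Nat.blt i 4))
     (K a0 a1 (Int.sub (Int.add a1 a3) a2) a3 a4 a5 a6 a7 a8 a9) (Nat.blt i 3))
    (Bool.rec (motive := fun _ => List ℤ)
     (K a0 (Int.sub (Int.add a0 a2) a1) a2 a3 a4 a5 a6 a7 a8 a9)
     (K (Int.sub a1 a0) a1 a2 a3 a4 a5 a6 a7 a8 a9) (Nat.blt i 1)) (Nat.blt i 2)) (Nat.blt i 5))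

/-- a word -/
noncomputable def fvAct (w : List (Fin 10)) : FvT → FvT :=
  List.rec (motive := fun _ => FvT → FvT) (fun K => K) (fun i _ ih K => ih (fvStep i.1 K)) w

theorem fv_rows : Cfsg.Agent.ChevalleyStructure.CoxeterWordCheck.rows Cfsg.Agent.TwoESix.Cox10.A10 =
    [[2, -1, 0, 0, 0, 0, 0, 0, 0, 0],
     [-1, 2, -1, 0, 0, 0, 0, 0, 0, 0],
     [0, -1, 2, -1, 0, 0, 0, 0, 0, 0],
     [0, 0, -1, 2, -1, 0, 0, -1, 0, 0],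
     [0, 0, 0, -1, 2, -1, 0, 0, 0, 0],
     [0, 0, 0, 0, -1, 2, -1, 0, 0, 0],
     [0, 0, 0, 0, 0, -1, 2, 0, 0, 0],
     [0, 0, 0, -1, 0, 0, 0, 2, -1, 0],
     [0, 0, 0, 0, 0, 0, 0, -1, 2, -1],
     [0, 0, 0, 0, 0, 0, 0, 0, -1, 2]] := by decide +kernel

theorem fv_step (i : Fin 10) (K : FvT) (F : List ℤ → List ℤ)
    (h : ∀ a0 a1 a2 a3 a4 a5 a6 a7 a8 a9 : ℤ, K a0 a1 a2 a3 a4 a5 a6 a7 a8 a9 = F [a0, a1, a2, a3, a4, a5, a6, a7, a8, a9]) (a0 a1 a2 a3 a4 a5 a6 a7 a8 a9 : ℤ) :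
    fvStep i.1 K a0 a1 a2 a3 a4 a5 a6 a7 a8 a9 = F (Cfsg.Agent.ChevalleyStructure.CoxeterWordCheck.reflList
      (Cfsg.Agent.ChevalleyStructure.CoxeterWordCheck.rows Cfsg.Agent.TwoESix.Cox10.A10) i.1 [a0, a1, a2, a3, a4, a5, a6, a7, a8, a9]) := by
  rw [fv_rows]
  obtain ⟨i, hi⟩ := i
  match i, hi with
  | 0, _ =>
    exact (h _ _ _ _ _ _ _ _ _ _).trans (congrArg (fun x : ℤ => F [x, a1, a2, a3, a4, a5, a6, a7, a8, a9])
      (show a1 - a0 = a0 - ((2) * a0 + ((-1) * a1 + ((0) * a2 + ((0) * a3 + ((0) * a4 + ((0) * a5 + ((0) * a6 + ((0) * a7 + ((0) * a8 + ((0) * a9 + 0)))))))))) by omega))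
  | 1, _ =>
    exact (h _ _ _ _ _ _ _ _ _ _).trans (congrArg (fun x : ℤ => F [a0, x, a2, a3, a4, a5, a6, a7, a8, a9])
      (show a0 + a2 - a1 = a1 - ((-1) * a0 + ((2) * a1 + ((-1) * a2 + ((0) * a3 + ((0) * a4 + ((0) * a5 + ((0) * a6 + ((0) * a7 + ((0) * a8 + ((0) * a9 + 0)))))))))) by omega))
  | 2, _ =>
    exact (h _ _ _ _ _ _ _ _ _ _).trans (congrArg (fun x : ℤ => F [a0, a1, x, a3, a4, a5, a6, a7, a8, a9])
      (show a1 + a3 - a2 = a2 - ((0) * a0 + ((-1) * a1 + ((2) * a2 + ((-1) * a3 + ((0) * a4 + ((0) * a5 + ((0) * a6 + ((0) * a7 + ((0) * a8 + ((0) * a9 + 0)))))))))) by omega))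
  | 3, _ =>
    exact (h _ _ _ _ _ _ _ _ _ _).trans (congrArg (fun x : ℤ => F [a0, a1, a2, x, a4, a5, a6, a7, a8, a9])
      (show a2 + a4 + a7 - a3 = a3 - ((0) * a0 + ((0) * a1 + ((-1) * a2 + ((2) * a3 + ((-1) * a4 + ((0) * a5 + ((0) * a6 + ((-1) * a7 + ((0) * a8 + ((0) * a9 + 0)))))))))) by omega))
  | 4, _ =>
    exact (h _ _ _ _ _ _ _ _ _ _).trans (congrArg (fun x : ℤ => F [a0, a1, a2, a3, x, a5, a6, a7, a8, a9])
      (show a3 + a5 - a4 = a4 - ((0) * a0 + ((0) * a1 + ((0) * a2 + ((-1) * a3 + ((2) * a4 + ((-1) * a5 + ((0) * a6 + ((0) * a7 + ((0) * a8 + ((0) * a9 + 0)))))))))) by omega))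
  | 5, _ =>
    exact (h _ _ _ _ _ _ _ _ _ _).trans (congrArg (fun x : ℤ => F [a0, a1, a2, a3, a4, x, a6, a7, a8, a9])
      (show a4 + a6 - a5 = a5 - ((0) * a0 + ((0) * a1 + ((0) * a2 + ((0) * a3 + ((-1) * a4 + ((2) * a5 + ((-1) * a6 + ((0) * a7 + ((0) * a8 + ((0) * a9 + 0)))))))))) by omega))
  | 6, _ =>
    exact (h _ _ _ _ _ _ _ _ _ _).trans (congrArg (fun x : ℤ => F [a0, a1, a2, a3, a4, a5, x, a7, a8, a9])
      (show a5 - a6 = a6 - ((0) * a0 + ((0) * a1 + ((0) * a2 + ((0) * a3 + ((0) * a4 + ((-1) * a5 + ((2) * a6 + ((0) * a7 + ((0) * a8 + ((0) * a9 + 0)))))))))) by omega))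
  | 7, _ =>
    exact (h _ _ _ _ _ _ _ _ _ _).trans (congrArg (fun x : ℤ => F [a0, a1, a2, a3, a4, a5, a6, x, a8, a9])
      (show a3 + a8 - a7 = a7 - ((0) * a0 + ((0) * a1 + ((0) * a2 + ((-1) * a3 + ((0) * a4 + ((0) * a5 + ((0) * a6 + ((2) * a7 + ((-1) * a8 + ((0) * a9 + 0)))))))))) by omega))
  | 8, _ =>
    exact (h _ _ _ _ _ _ _ _ _ _).trans (congrArg (fun x : ℤ => F [a0, a1, a2, a3, a4, a5, a6, a7, x, a9])
      (show a7 + a9 - a8 = a8 - ((0) * a0 + ((0) * a1 + ((0) * a2 + ((0) * a3 + ((0) * a4 + ((0) * a5 + ((0) * a6 + ((-1) * a7 + ((2) * a8 + ((-1) * a9 + 0)))))))))) by omega))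
  | 9, _ =>
    exact (h _ _ _ _ _ _ _ _ _ _).trans (congrArg (fun x : ℤ => F [a0, a1, a2, a3, a4, a5, a6, a7, a8, x])
      (show a8 - a9 = a9 - ((0) * a0 + ((0) * a1 + ((0) * a2 + ((0) * a3 + ((0) * a4 + ((0) * a5 + ((0) * a6 + ((0) * a7 + ((-1) * a8 + ((2) * a9 + 0)))))))))) by omega))
  | n + 10, h => exact absurd h (by omega)

theorem fv_act (w : List (Fin 10)) (K : FvT) (F : List ℤ → List ℤ)
    (h : ∀ a0 a1 a2 a3 a4 a5 a6 a7 a8 a9 : ℤ, K a0 a1 a2 a3 a4 a5 a6 a7 a8 a9 = F [a0, a1, a2, a3, a4, a5, a6, a7, a8, a9]) (a0 a1 a2 a3 a4 a5 a6 a7 a8 a9 : ℤ) :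
    fvAct w K a0 a1 a2 a3 a4 a5 a6 a7 a8 a9 = F (Cfsg.Agent.ChevalleyStructure.CoxeterWordCheck.actList
      (Cfsg.Agent.ChevalleyStructure.CoxeterWordCheck.rows Cfsg.Agent.TwoESix.Cox10.A10) (w.map (·.val)) [a0, a1, a2, a3, a4, a5, a6, a7, a8, a9]) := by
  induction w generalizing K F with
  | nil => exact h _ _ _ _ _ _ _ _ _ _
  | cons i w ih =>
    exact ih (fvStep i.1 K) (fun v => F (Cfsg.Agent.ChevalleyStructure.CoxeterWordCheck.reflList (Cfsg.Agent.ChevalleyStructure.CoxeterWordCheck.rows Cfsg.Agent.TwoESix.Cox10.A10) i.1 v)) (fv_step i K F h)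

/-- the list -/
def fvId : FvT := fun a0 a1 a2 a3 a4 a5 a6 a7 a8 a9 => [a0, a1, a2, a3, a4, a5, a6, a7, a8, a9]

theorem fv_id (w : List (Fin 10)) (a0 a1 a2 a3 a4 a5 a6 a7 a8 a9 : ℤ) :
    fvAct w fvId a0 a1 a2 a3 a4 a5 a6 a7 a8 a9 = Cfsg.Agent.ChevalleyStructure.CoxeterWordCheck.actList
      (Cfsg.Agent.ChevalleyStructure.CoxeterWordCheck.rows Cfsg.Agent.TwoESix.Cox10.A10) (w.map (·.val)) [a0, a1, a2, a3, a4, a5, a6, a7, a8, a9] :=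
  fv_act w fvId (fun v => v) (fun _ _ _ _ _ _ _ _ _ _ => rfl) a0 a1 a2 a3 a4 a5 a6 a7 a8 a9

/-- the test -/
noncomputable def fvChk (w w' : List (Fin 10)) : Bool :=
  ((fvAct w fvId 1 0 0 0 0 0 0 0 0 0 == fvAct w' fvId 1 0 0 0 0 0 0 0 0 0) &&
  ((fvAct w fvId 0 1 0 0 0 0 0 0 0 0 == fvAct w' fvId 0 1 0 0 0 0 0 0 0 0) &&
  ((fvAct w fvId 0 0 1 0 0 0 0 0 0 0 == fvAct w' fvId 0 0 1 0 0 0 0 0 0 0) &&
  ((fvAct w fvId 0 0 0 1 0 0 0 0 0 0 == fvAct w' fvId 0 0 0 1 0 0 0 0 0 0) &&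
  ((fvAct w fvId 0 0 0 0 1 0 0 0 0 0 == fvAct w' fvId 0 0 0 0 1 0 0 0 0 0) &&
  ((fvAct w fvId 0 0 0 0 0 1 0 0 0 0 == fvAct w' fvId 0 0 0 0 0 1 0 0 0 0) &&
  ((fvAct w fvId 0 0 0 0 0 0 1 0 0 0 == fvAct w' fvId 0 0 0 0 0 0 1 0 0 0) &&
  ((fvAct w fvId 0 0 0 0 0 0 0 1 0 0 == fvAct w' fvId 0 0 0 0 0 0 0 1 0 0) &&
  ((fvAct w fvId 0 0 0 0 0 0 0 0 1 0 == fvAct w' fvId 0 0 0 0 0 0 0 0 1 0) &&
  ((fvAct w fvId 0 0 0 0 0 0 0 0 0 1 == fvAct w' fvId 0 0 0 0 0 0 0 0 0 1) &&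
  true))))))))))

theorem chk_eq (w w' : List (Fin 10)) : Cfsg.Agent.TwoESix.Cox10.chk w w' = fvChk w w' := by
  unfold fvChk
  simp only [fv_id]
  rfl

theorem chk_fun : @Cfsg.Agent.TwoESix.Cox10.chk = fvChk := funext fun w => funext fun w' => chk_eq w w'

end Cfsg.Agent.TwoESix.CoxFast
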