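import Cfsg.Agent.R01.PSUSix
import Cfsg.Agent.TwoESix.Cover
import Cfsg.Agent.BabyU.RootCfg_m3
import Cfsg.Agent.Lib.F2Mat
import Mathlib
import Cfsg.Agent.TwoESix.Iso
import Cfsg.Agent.Lib.PackMat
import Cfsg.Agent.Lib.ListFast
import Mathlib.GroupTheory.Index
import Mathlib.GroupTheory.Commutator.Basic
import Mathlib.Algebra.Group.Subgroup.Finite
import Mathlib.Tactic.Group
import Cfsg.Agent.BabyU.Setup
import Cfsg.Agent.TwoESix.RootsCfg
import Cfsg.Agent.TwoESix.Gens
import Cfsg.Prelude.Def_SporadicB
import Cfsg.Agent.TwoESix.RecSix
import Cfsg.Agent.FastGrp
import Cfsg.Agent.Prune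
set_option linter.all false

section
prune_inst 0x7ffcbdf82fb8bddeffff7e7fa6dfcffdfdb9bfffe6dff94bffec61ff8bdf4f0ac9e5fbad0be810fe0ed6e03c10f87b53fb7eeeffe26bdc7ffffd5ff45ffbffdfffffbd08719e8cb40fbc6ffff3f0778e7f3fffffffffffffffffffffffffffbeffbfffffffff

-- part: BabyU/OutCount
section
prune_inst 0x34007d04242210000000059203002020200000020048000008e0030202014060000028403e000510102000002008000811000080420000000a000000000000000000000011000000000000000000000000000000000000000000000000000000000000000
set_option linter.all false
open scoped Cfsg.Agent.FastGrp

-- part: BabyU/OutHerm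
section
/-!
# Chains of unitary transvections over the field with four elements

Seven transvections `c 0, …, c 6` of `PSU 6 F 2` forming a path: their centres can be scaled such that neighbours have
product one; six of them are a basis; two such chains differ by a unitary matrix, the reversed chain by one of square
one (hence of determinant one).  The node attached to the fourth and the sixth node of two disjoint paths.
-/

set_option autoImplicit false
set_option linter.unusedSectionVars false

namespace Cfsg.Agent.BabyU.OutHerm

open Cfsg Cfsg.Agent.LieClassical.HermBasic Cfsg.Agent.ClassicalGeometry.UnitTransv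
open Cfsg.Agent.SporadicStructure.UnitTwo Cfsg.Agent.R01.PSUSix
open Cfsg.Agent.ClassicalGeometry.UnitAutBasic (tau pr pr_surjective)
open scoped Matrix

variable {F : Type*} [Field F] [Fintype F] (hF : Fintype.card F = 2 ^ 2)
include hF

/-- The Gram condition for a basis. -/
def Nondeg (b : Fin 6 → Fin 6 → F) : Prop :=
  ∀ c : Fin 6 → F, (∀ j, ∑ i, c i * hermForm 6 F 2 (b i) (b j) = 0) → c = 0

theorem linearIndependent {b : Fin 6 → Fin 6 → F} (hb : Nondeg b) : LinearIndependent F b := by
  rw [Fintype.linearIndependent_iff]
  intro c hc
  have : c = 0 := hb c fun j => by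
    have h1 : hermForm 6 F 2 (∑ i, c i • b i) (b j) = 0 := by rw [hc, herm_zero_left]
    rw [herm_sum_left] at h1
    simpa only [herm_smul_left] using h1
  intro i
  rw [this]; rfl

/-- The basis. -/
noncomputable def basis {b : Fin 6 → Fin 6 → F} (hb : Nondeg b) : Module.Basis (Fin 6) F (Fin 6 → F) :=
  basisOfLinearIndependentOfCardEqFinrank (linearIndependent hF hb) (by simp)

theorem basis_apply {b : Fin 6 → Fin 6 → F} (hb : Nondeg b) (i : Fin 6) : basis hF hb i = b i := by
  rw [basis, coe_basisOfLinearIndependentOfCardEqFinrank]

theorem sum_repr {b : Fin 6 → Fin 6 → F} (hb : Nondeg b) (x : Fin 6 → F) :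
    ∑ i, (basis hF hb).repr x i • b i = x := by
  have := (basis hF hb).sum_repr x
  simpa only [basis_apply] using this

theorem eq_of_herm {b : Fin 6 → Fin 6 → F} (hb : Nondeg b) {x y : Fin 6 → F}
    (h : ∀ j, hermForm 6 F 2 x (b j) = hermForm 6 F 2 y (b j)) : x = y := by
  rw [← sub_eq_zero]
  apply herm_nondeg hF
  intro v
  rw [← sum_repr hF hb v, herm_sum_right hF]
  refine Finset.sum_eq_zero fun i _ => ?_
  rw [herm_smul_right, herm_sub_left, h, sub_self, mul_zero]

theorem exists_unitary {b b' : Fin 6 → Fin 6 → F} (hb : Nondeg b)
    (h : ∀ i j, hermForm 6 F 2 (b' i) (b' j) = hermForm 6 F 2 (b i) (b j)) :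
    ∃ A : Matrix (Fin 6) (Fin 6) F, (∀ x y, hermForm 6 F 2 (A *ᵥ x) (A *ᵥ y) = hermForm 6 F 2 x y) ∧
      ∀ i, A *ᵥ b i = b' i := by
  let f : (Fin 6 → F) →ₗ[F] (Fin 6 → F) := (basis hF hb).constr F b'
  have hf : ∀ i, f (b i) = b' i := fun i => by
    have := (basis hF hb).constr_basis F b' i
    rwa [basis_apply] at this
  have hA : ∀ x, (LinearMap.toMatrix' f) *ᵥ x = f x := fun x => by
    rw [← Matrix.toLin'_apply, Matrix.toLin'_toMatrix']
  refine ⟨LinearMap.toMatrix' f, fun x y => ?_, fun i => by rw [hA, hf]⟩
  rw [hA, hA]
  rw [← sum_repr hF hb x, ← sum_repr hF hb y]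
  simp only [map_sum, map_smul, hf, herm_sum_left, herm_sum_right hF, herm_smul_left, herm_smul_right, h]

theorem det_ne_zero {A : Matrix (Fin 6) (Fin 6) F}
    (hA : ∀ x y, hermForm 6 F 2 (A *ᵥ x) (A *ᵥ y) = hermForm 6 F 2 x y) : A.det ≠ 0 := by
  intro h
  obtain ⟨v, hv, hv'⟩ := Matrix.exists_mulVec_eq_zero_iff.2 h
  apply hv
  apply herm_nondeg hF
  intro y
  rw [← hA, hv', herm_zero_left]

/-- Two unitary matrices of the same determinant differ by an element of `SU`. -/
theorem exists_SU {A B : Matrix (Fin 6) (Fin 6) F}
    (hA : ∀ x y, hermForm 6 F 2 (A *ᵥ x) (A *ᵥ y) = hermForm 6 F 2 x y)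
    (hB : ∀ x y, hermForm 6 F 2 (B *ᵥ x) (B *ᵥ y) = hermForm 6 F 2 x y) (h : A.det = B.det) :
    ∃ g : SU 6 F 2, ∀ x, act g (A *ᵥ x) = B *ᵥ x := by
  have hd := det_ne_zero hF hA
  have hu : IsUnit A.det := isUnit_iff_ne_zero.2 hd
  refine ⟨mk (B * A⁻¹) ?_ ?_, fun x => ?_⟩
  · rw [Matrix.det_mul, ← h, Matrix.det_nonsing_inv, Ring.mul_inverse_cancel _ hu]
  · intro x y
    rw [← Matrix.mulVec_mulVec, ← Matrix.mulVec_mulVec, hB, ← hA, Matrix.mulVec_mulVec, Matrix.mulVec_mulVec,
      Matrix.mul_nonsing_inv _ hu, Matrix.one_mulVec, Matrix.one_mulVec]
  · rw [act_mk, Matrix.mulVec_mulVec, Matrix.mul_assoc, Matrix.nonsing_inv_mul _ hu, mul_one]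

/-! ### Paths -/

/-- Adjacency in the path. -/
def pth (i j : Fin 7) : Bool := i.val + 1 == j.val || j.val + 1 == i.val

/-- A path of vectors. -/
structure Path (v : Fin 7 → Fin 6 → F) : Prop where
  ne : ∀ i, v i ≠ 0
  gram : ∀ i j, hermForm 6 F 2 (v i) (v j) = if pth i j then 1 else 0

omit [Fintype F] hF in
theorem Path.iso {v : Fin 7 → Fin 6 → F} (h : Path v) (i : Fin 7) : hermForm 6 F 2 (v i) (v i) = 0 := by
  rw [h.gram, if_neg]
  simp [pth]

/-- The first six vectors. -/
def six (v : Fin 7 → Fin 6 → F) (i : Fin 6) : Fin 6 → F := v i.castSucc

omit [Fintype F] hF in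
theorem nondeg_six {v : Fin 7 → Fin 6 → F} (h : Path v) : Nondeg (six v) := by
  intro c hc
  simp only [six, h.gram] at hc
  have h0 := hc 0
  have h1 := hc 1
  have h2 := hc 2
  have h3 := hc 3
  have h4 := hc 4
  have h5 := hc 5
  rw [Fin.sum_univ_six] at h0 h1 h2 h3 h4 h5
  simp only [pth, _root_.Fin.isValue, _root_.Fin.castSucc_zero, _root_.Fin.coe_ofNat_eq_mod, _root_.Nat.zero_mod, _root_.zero_add, _root_.Nat.reduceBEq, _root_.Bool.or_self, _root_.Bool.false_eq_true, ↓ _root_.reduceIte, _root_.MulZeroClass.mul_zero, _root_.Fin.castSucc_one, _root_.Nat.one_mod, _root_.Nat.reduceAdd, _root_.BEq.rfl, _root_.Bool.or_true, _root_.mul_one, _root_.Fin.reduceCastSucc, _root_.Nat.reduceMod, _root_.add_zero, _root_.Bool.or_false] at h0 h1 h2 h3 h4 h5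
  have e3 : c 3 = 0 := by rwa [h0, zero_add] at h2
  have e5 : c 5 = 0 := by rwa [e3, zero_add] at h4
  have e2 : c 2 = 0 := by rwa [h5, add_zero] at h3
  have e0 : c 0 = 0 := by rwa [e2, add_zero] at h1
  funext i
  fin_cases i
  · exact e0
  · exact h0
  · exact e2
  · exact e3
  · exact h5
  · exact e5

/-- The last vector of a path. -/
theorem Path.last {v : Fin 7 → Fin 6 → F} (h : Path v) : v 6 = v 0 + v 2 + v 4 := by
  refine eq_of_herm hF (nondeg_six h) fun j => ?_
  rw [herm_add_left, herm_add_left]
  simp only [six, h.gram]
  have h2 := add_self hF (1 : F)
  (revert j; simp only [pth, h2, _root_.Fin.forall_fin_succ, Fin.isValue, _root_.Fin.coe_ofNat_eq_mod, _root_.Nat.mod_succ, Nat.reduceAdd, _root_.Fin.val_castSucc, Nat.reduceBeqDiff, _root_.Bool.or_eq_true, _root_.beq_iff_eq, _root_.Nat.zero_mod, _root_.zero_add, _root_.Bool.or_false, Nat.reduceMod, _root_.OfNat.ofNat_ne_zero, _root_.OfNat.zero_ne_ofNat, _root_.or_self, ↓reduceIte, _root_.one_ne_zero, _root_.zero_ne_one, _root_.add_zero, _root_.Fin.val_succ, Nat.reduceEqDiff, _root_.Nat.right_eq_add, _root_.Fin.val_eq_zero_iff, _root_.Nat.add_eq_right, _root_.or_true, _root_.Fin.succ_ne_zero,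 _root_.or_false, _root_.Fin.val_eq_zero, _root_.OfNat.one_ne_ofNat, _root_.implies_true, _root_.and_self])

/-- Two paths differ by a unitary matrix. -/
theorem exists_path_map {v v' : Fin 7 → Fin 6 → F} (h : Path v) (h' : Path v') :
    ∃ A : Matrix (Fin 6) (Fin 6) F, (∀ x y, hermForm 6 F 2 (A *ᵥ x) (A *ᵥ y) = hermForm 6 F 2 x y) ∧
      ∀ i, A *ᵥ v i = v' i := by
  obtain ⟨A, hA, hi⟩ := exists_unitary hF (nondeg_six h) (b' := six v') fun i j => by
    rw [six, six, six, six, h.gram, h'.gram]
  refine ⟨A, hA, fun i => ?_⟩
  refine Fin.lastCases ?_ (fun i => hi i) i
  show A *ᵥ v 6 = v' 6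
  rw [h.last hF, h'.last hF, Matrix.mulVec_add, Matrix.mulVec_add]
  have h0 := hi 0
  have h2 := hi 2
  have h4 := hi 4
  simp only [six] at h0 h2 h4
  exact congrArg₂ (· + ·) (congrArg₂ (· + ·) h0 h2) h4

/-- Reversal of the path. -/
def rv (i : Fin 7) : Fin 7 := Fin.rev i

omit [Field F] [Fintype F] hF in
theorem pth_rv : ∀ i j, pth (rv i) (rv j) = pth i j := by decide

omit [Fintype F] hF in
theorem Path.rev {v : Fin 7 → Fin 6 → F} (h : Path v) : Path (fun i => v (rv i)) :=
  ⟨fun i => h.ne _, fun i j => by rw [h.gram, pth_rv]⟩

theorem eq_one_of_fix {v : Fin 7 → Fin 6 → F} (h : Path v) {A : Matrix (Fin 6) (Fin 6) F}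
    (hA : ∀ i, A *ᵥ v i = v i) : A = 1 := by
  have key : ∀ x, A *ᵥ x = x := by
    intro x
    have h1 : A.mulVecLin (∑ i, (basis hF (nondeg_six h)).repr x i • six v i) =
        ∑ i, (basis hF (nondeg_six h)).repr x i • six v i := by
      rw [map_sum]
      refine Finset.sum_congr rfl fun i _ => ?_
      rw [map_smul, Matrix.mulVecLin_apply]
      congr 1
      exact hA _
    rw [sum_repr] at h1
    exact h1
  ext i j
  have := congrFun (key (Pi.single j 1)) i
  rw [Matrix.mulVec_single_one] at this
  rw [Matrix.one_apply]
  simpa [Pi.single_apply] using this

/-- The reversal is realised by an element of `SU` of square one. -/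
theorem exists_reversal {v : Fin 7 → Fin 6 → F} (h : Path v) :
    ∃ g : SU 6 F 2, g * g = 1 ∧ ∀ i, act g (v i) = v (rv i) := by
  obtain ⟨A, hA, hi⟩ := exists_path_map hF h h.rev
  have h1 : A * A = 1 := by
    apply eq_one_of_fix hF h
    intro i
    rw [← Matrix.mulVec_mulVec, hi, hi]
    congr 1
    exact Fin.rev_rev i
  have hd : A.det = 1 := by
    have h2 : A.det * A.det = 1 := by rw [← Matrix.det_mul, h1, Matrix.det_one]
    have h3 : (A.det + 1) * (A.det + 1) = 0 := by
      linear_combination h2 + (A.det + 1) * two_eq_zero hF
    have h4 := mul_self_eq_zero.1 h3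
    exact eq_of_add_eq_zero hF h4
  refine ⟨mk A hd hA, ?_, fun i => hi i⟩
  apply ext_act
  intro x
  rw [act_mul, act_one, act_mk, act_mk, Matrix.mulVec_mulVec, h1, Matrix.one_mulVec]

/-! ### Chains of transvections -/

/-- The next vector. -/
theorem step {v : Fin 6 → F} (hv0 : v ≠ 0) (hv : hermForm 6 F 2 v v = 0) {c : PSU 6 F 2} (hc : c ∈ TT hF 6)
    (hn : ¬ Commute (tau hF v) c) : ∃ w : Fin 6 → F, w ≠ 0 ∧ hermForm 6 F 2 w w = 0 ∧ c = tau hF w ∧
      hermForm 6 F 2 v w = 1 ∧ hermForm 6 F 2 w v = 1 := by
  obtain ⟨w, hw0, hw, rfl⟩ := hc
  rw [tau_commute_iff hF (by norm_num) hv hw hv0] at hn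
  set h := hermForm 6 F 2 v w with hh
  have h3 : h ^ 3 = 1 := pow_three hF hn
  have e1 : hermForm 6 F 2 v (h • w) = 1 := by
    rw [herm_smul_right, ← hh]
    linear_combination h3
  refine ⟨h • w, ?_, herm_smul_self hF hw h, (tau_smul hF hw hn).symm, e1, ?_⟩
  · intro h0
    rcases smul_eq_zero.1 h0 with h0 | h0
    · exact hn h0
    · exact hw0 h0
  · rw [herm_swap hF v, e1, one_pow]

/-- A path of transvections. -/
theorem exists_path {c : Fin 7 → PSU 6 F 2} (hT : ∀ i, c i ∈ TT hF 6)
    (hadj : ∀ i j, pth i j = true → ¬ Commute (c i) (c j))
    (hnon : ∀ i j, pth i j = false → Commute (c i) (c j)) :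
    ∃ v : Fin 7 → Fin 6 → F, Path v ∧ ∀ i, c i = tau hF (v i) := by
  obtain ⟨v0, n0, i0, t0⟩ := hT 0
  obtain ⟨v1, n1, i1, t1, a01, a10⟩ := step hF n0 i0 (hT 1) (by rw [← t0]; exact hadj _ _ (by decide))
  obtain ⟨v2, n2, i2, t2, a12, a21⟩ := step hF n1 i1 (hT 2) (by rw [← t1]; exact hadj _ _ (by decide))
  obtain ⟨v3, n3, i3, t3, a23, a32⟩ := step hF n2 i2 (hT 3) (by rw [← t2]; exact hadj _ _ (by decide))
  obtain ⟨v4, n4, i4, t4, a34, a43⟩ := step hF n3 i3 (hT 4) (by rw [← t3]; exact hadj _ _ (by decide))
  obtain ⟨v5, n5, i5, t5, a45, a54⟩ := step hF n4 i4 (hT 5) (by rw [← t4]; exact hadj _ _ (by decide))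
  obtain ⟨v6, n6, i6, t6, a56, a65⟩ := step hF n5 i5 (hT 6) (by rw [← t5]; exact hadj _ _ (by decide))
  obtain ⟨v, hv⟩ : ∃ v : Fin 7 → Fin 6 → F, v = ![v0, v1, v2, v3, v4, v5, v6] := ⟨_, rfl⟩
  have e0 : v 0 = v0 := by rw [hv]; rfl
  have e1 : v 1 = v1 := by rw [hv]; rfl
  have e2 : v 2 = v2 := by rw [hv]; rfl
  have e3 : v 3 = v3 := by rw [hv]; rfl
  have e4 : v 4 = v4 := by rw [hv]; rfl
  have e5 : v 5 = v5 := by rw [hv]; rfl
  have e6 : v 6 = v6 := by rw [hv]; rfl
  have hn : ∀ i, v i ≠ 0 := by
    intro i
    fin_cases i
    · exact e0 ▸ n0
    · exact e1 ▸ n1
    · exact e2 ▸ n2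
    · exact e3 ▸ n3
    · exact e4 ▸ n4
    · exact e5 ▸ n5
    · exact e6 ▸ n6
  have hi : ∀ i, hermForm 6 F 2 (v i) (v i) = 0 := by
    intro i
    fin_cases i
    · exact e0 ▸ i0
    · exact e1 ▸ i1
    · exact e2 ▸ i2
    · exact e3 ▸ i3
    · exact e4 ▸ i4
    · exact e5 ▸ i5
    · exact e6 ▸ i6
  have ht : ∀ i, c i = tau hF (v i) := by
    intro i
    fin_cases i
    · exact e0 ▸ t0
    · exact e1 ▸ t1
    · exact e2 ▸ t2
    · exact e3 ▸ t3
    · exact e4 ▸ t4
    · exact e5 ▸ t5
    · exact e6 ▸ t6
  have ha : ∀ i : Fin 6, hermForm 6 F 2 (v i.castSucc) (v i.succ) = 1 ∧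
      hermForm 6 F 2 (v i.succ) (v i.castSucc) = 1 := by
    intro i
    fin_cases i
    · show hermForm 6 F 2 (v 0) (v 1) = 1 ∧ hermForm 6 F 2 (v 1) (v 0) = 1
      rw [e0, e1]; exact ⟨a01, a10⟩
    · show hermForm 6 F 2 (v 1) (v 2) = 1 ∧ hermForm 6 F 2 (v 2) (v 1) = 1
      rw [e1, e2]; exact ⟨a12, a21⟩
    · show hermForm 6 F 2 (v 2) (v 3) = 1 ∧ hermForm 6 F 2 (v 3) (v 2) = 1
      rw [e2, e3]; exact ⟨a23, a32⟩
    · show hermForm 6 F 2 (v 3) (v 4) = 1 ∧ hermForm 6 F 2 (v 4) (v 3) = 1
      rw [e3, e4]; exact ⟨a34, a43⟩
    · show hermForm 6 F 2 (v 4) (v 5) = 1 ∧ hermForm 6 F 2 (v 5) (v 4) = 1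
      rw [e4, e5]; exact ⟨a45, a54⟩
    · show hermForm 6 F 2 (v 5) (v 6) = 1 ∧ hermForm 6 F 2 (v 6) (v 5) = 1
      rw [e5, e6]; exact ⟨a56, a65⟩
  refine ⟨v, ⟨hn, fun i j => ?_⟩, ht⟩
  by_cases hp : pth i j = true
  · rw [if_pos hp]
    have hp' : i.val + 1 = j.val ∨ j.val + 1 = i.val := by
      simpa [pth] using hp
    rcases hp' with h | h
    · have hlt : i.val < 6 := by omega
      have := (ha ⟨i.val, hlt⟩).1
      have ei : (⟨i.val, hlt⟩ : Fin 6).castSucc = i := Fin.ext rfl
      have ej : (⟨i.val, hlt⟩ : Fin 6).succ = j := Fin.ext h
      rwa [ei, ej] at this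
    · have hlt : j.val < 6 := by omega
      have := (ha ⟨j.val, hlt⟩).2
      have ei : (⟨j.val, hlt⟩ : Fin 6).castSucc = j := Fin.ext rfl
      have ej : (⟨j.val, hlt⟩ : Fin 6).succ = i := Fin.ext h
      rwa [ei, ej] at this
  · rw [if_neg hp]
    have hp' : pth i j = false := by simpa using hp
    have := hnon i j hp'
    rw [ht i, ht j] at this
    exact (tau_commute_iff hF (by norm_num) (hi i) (hi j) (hn i)).1 this

/-- Two chains of transvections in the same class are conjugate. -/
theorem conj_of_det {c c' : Fin 7 → PSU 6 F 2} {v v' : Fin 7 → Fin 6 → F} (hv : Path v)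
    (hc : ∀ i, c i = tau hF (v i)) (hc' : ∀ i, c' i = tau hF (v' i)) {u : Fin 7 → Fin 6 → F}
    {A A' : Matrix (Fin 6) (Fin 6) F} (hA : ∀ x y, hermForm 6 F 2 (A *ᵥ x) (A *ᵥ y) = hermForm 6 F 2 x y)
    (hA' : ∀ x y, hermForm 6 F 2 (A' *ᵥ x) (A' *ᵥ y) = hermForm 6 F 2 x y)
    (hu : ∀ i, A *ᵥ u i = v i) (hu' : ∀ i, A' *ᵥ u i = v' i) (hd : A.det = A'.det) :
    ∃ g : PSU 6 F 2, ∀ i, g * c i * g⁻¹ = c' i := by
  obtain ⟨g, hg⟩ := exists_SU hF hA hA' hd
  refine ⟨pr 6 F 2 g, fun i => ?_⟩
  rw [hc, hc', conj_tau hF g (hv.iso i), ← hu, hg, hu']

/-- The reversal of a chain of transvections. -/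
theorem exists_rev {c : Fin 7 → PSU 6 F 2} (hT : ∀ i, c i ∈ TT hF 6)
    (hadj : ∀ i j, pth i j = true → ¬ Commute (c i) (c j))
    (hnon : ∀ i j, pth i j = false → Commute (c i) (c j)) :
    ∃ g : PSU 6 F 2, g * g = 1 ∧ ∀ i, g * c i * g⁻¹ = c (rv i) := by
  obtain ⟨v, hv, ht⟩ := exists_path hF hT hadj hnon
  obtain ⟨g, hg, hi⟩ := exists_reversal hF hv
  refine ⟨pr 6 F 2 g, by rw [← map_mul, hg, map_one], fun i => ?_⟩
  rw [ht, ht, conj_tau hF g (hv.iso i), hi]

/-! ### The node attached to two paths -/

/-- Two disjoint paths with four and two nodes. -/
def pq (i j : Fin 6) : Bool :=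
  [(0, 1), (1, 0), (1, 2), (2, 1), (2, 3), (3, 2), (4, 5), (5, 4)].contains (i, j)

omit [Fintype F] hF in
theorem nondeg_pq {v : Fin 6 → Fin 6 → F} (h : ∀ i j, hermForm 6 F 2 (v i) (v j) = if pq i j then 1 else 0) :
    Nondeg v := by
  intro c hc
  simp only [h] at hc
  have h0 := hc 0
  have h1 := hc 1
  have h2 := hc 2
  have h3 := hc 3
  have h4 := hc 4
  have h5 := hc 5
  rw [Fin.sum_univ_six] at h0 h1 h2 h3 h4 h5
  simp only [pq, _root_.Fin.isValue, _root_.List.contains_eq_mem, _root_.List.mem_cons, _root_.Prod.mk.injEq, _root_.zero_ne_one, _root_.and_false, _root_.and_true, _root_.Fin.reduceEq, _root_.and_self, _root_.List.not_mem_nil, _root_.or_self, _root_.decide_false, _root_.Bool.false_eq_true, ↓ _root_.reduceIte, _root_.MulZeroClass.mul_zero, _root_.one_ne_zero, _root_.or_false, _root_.or_true, _root_.decide_true, _root_.mul_one, _root_.zero_add, _root_.add_zero] at h0 h1 h2 h3 h4 h5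
  have e0 : c 0 = 0 := by rwa [h3, add_zero] at h1
  have e3 : c 3 = 0 := by rwa [h0, zero_add] at h2
  funext i
  fin_cases i
  · exact e0
  · exact h0
  · exact h3
  · exact e3
  · exact h5
  · exact h4

/-- Scaled centres of the two paths. -/
theorem exists_pq {c : Fin 6 → PSU 6 F 2} (hT : ∀ i, c i ∈ TT hF 6)
    (hadj : ∀ i j, pq i j = true → ¬ Commute (c i) (c j))
    (hnon : ∀ i j, pq i j = false → Commute (c i) (c j)) :
    ∃ v : Fin 6 → Fin 6 → F, (∀ i j, hermForm 6 F 2 (v i) (v j) = if pq i j then 1 else 0) ∧
      (∀ i, v i ≠ 0) ∧ ∀ i, c i = tau hF (v i) := by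
  obtain ⟨v0, n0, i0, t0⟩ := hT 0
  obtain ⟨v1, n1, i1, t1, a01, a10⟩ := step hF n0 i0 (hT 1) (by rw [← t0]; exact hadj _ _ (by decide))
  obtain ⟨v2, n2, i2, t2, a12, a21⟩ := step hF n1 i1 (hT 2) (by rw [← t1]; exact hadj _ _ (by decide))
  obtain ⟨v3, n3, i3, t3, a23, a32⟩ := step hF n2 i2 (hT 3) (by rw [← t2]; exact hadj _ _ (by decide))
  obtain ⟨v4, n4, i4, t4⟩ := hT 4
  obtain ⟨v5, n5, i5, t5, a45, a54⟩ := step hF n4 i4 (hT 5) (by rw [← t4]; exact hadj _ _ (by decide))
  obtain ⟨v, hv⟩ : ∃ v : Fin 6 → Fin 6 → F, v = ![v0, v1, v2, v3, v4, v5] := ⟨_, rfl⟩
  have e0 : v 0 = v0 := by rw [hv]; rfl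
  have e1 : v 1 = v1 := by rw [hv]; rfl
  have e2 : v 2 = v2 := by rw [hv]; rfl
  have e3 : v 3 = v3 := by rw [hv]; rfl
  have e4 : v 4 = v4 := by rw [hv]; rfl
  have e5 : v 5 = v5 := by rw [hv]; rfl
  have hn : ∀ i, v i ≠ 0 := by
    intro i
    fin_cases i
    · exact e0 ▸ n0
    · exact e1 ▸ n1
    · exact e2 ▸ n2
    · exact e3 ▸ n3
    · exact e4 ▸ n4
    · exact e5 ▸ n5
  have hi : ∀ i, hermForm 6 F 2 (v i) (v i) = 0 := by
    intro i
    fin_cases i
    · exact e0 ▸ i0
    · exact e1 ▸ i1
    · exact e2 ▸ i2
    · exact e3 ▸ i3
    · exact e4 ▸ i4
    · exact e5 ▸ i5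
  have ht : ∀ i, c i = tau hF (v i) := by
    intro i
    fin_cases i
    · exact e0 ▸ t0
    · exact e1 ▸ t1
    · exact e2 ▸ t2
    · exact e3 ▸ t3
    · exact e4 ▸ t4
    · exact e5 ▸ t5
  refine ⟨v, fun i j => ?_, hn, ht⟩
  by_cases hp : pq i j = true
  · rw [if_pos hp]
    have hp' : (i, j) ∈ ([(0, 1), (1, 0), (1, 2), (2, 1), (2, 3), (3, 2), (4, 5), (5, 4)] : List (Fin 6 × Fin 6)) := by
      simpa only [pq, _root_.Fin.isValue, _root_.List.mem_cons, _root_.Prod.mk.injEq, _root_.List.not_mem_nil, _root_.or_false, _root_.List.contains_eq_mem, _root_.Bool.decide_or, _root_.Bool.decide_and, _root_.Bool.or_eq_true, _root_.Bool.and_eq_true, _root_.decide_eq_true_eq] using hp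
    simp only [List.mem_cons, Prod.mk.injEq, List.not_mem_nil, or_false] at hp'
    rcases hp' with ⟨rfl, rfl⟩ | ⟨rfl, rfl⟩ | ⟨rfl, rfl⟩ | ⟨rfl, rfl⟩ | ⟨rfl, rfl⟩ | ⟨rfl, rfl⟩ | ⟨rfl, rfl⟩ | ⟨rfl, rfl⟩
    · rw [e0, e1]; exact a01
    · rw [e0, e1]; exact a10
    · rw [e1, e2]; exact a12
    · rw [e1, e2]; exact a21
    · rw [e2, e3]; exact a23
    · rw [e2, e3]; exact a32
    · rw [e4, e5]; exact a45
    · rw [e4, e5]; exact a54
  · rw [if_neg hp]
    have hp' : pq i j = false := by simpa using hp
    have := hnon i j hp'
    rw [ht i, ht j] at this
    exact (tau_commute_iff hF (by norm_num) (hi i) (hi j) (hn i)).1 this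

/-- Among four nodes attached to the fourth and the fifth node two are equal. -/
theorem exists_eq {c : Fin 6 → PSU 6 F 2} (hT : ∀ i, c i ∈ TT hF 6)
    (hadj : ∀ i j, pq i j = true → ¬ Commute (c i) (c j))
    (hnon : ∀ i j, pq i j = false → Commute (c i) (c j)) {x : Fin 4 → PSU 6 F 2} (hx : ∀ k, x k ∈ TT hF 6)
    (h0 : ∀ k, Commute (x k) (c 0)) (h1 : ∀ k, Commute (x k) (c 1)) (h2 : ∀ k, Commute (x k) (c 2))
    (h3 : ∀ k, ¬ Commute (x k) (c 3)) (h4 : ∀ k, ¬ Commute (x k) (c 4)) (h5 : ∀ k, Commute (x k) (c 5)) :
    ∃ k l, k ≠ l ∧ x k = x l := by
  obtain ⟨v, hg, hn, ht⟩ := exists_pq hF hT hadj hnon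
  have hi : ∀ i, hermForm 6 F 2 (v i) (v i) = 0 := by
    intro i
    rw [hg, if_neg]
    revert i
    decide
  have key : ∀ k, ∃ l : Fˣ, x k = tau hF (v 0 + v 2 + (l : F) • v 5) := by
    intro k
    obtain ⟨w, w0, wi, wt, w1, w2⟩ := step hF (hn 3) (hi 3) (hx k)
      (by rw [← ht]; exact fun hc => h3 k hc.symm)
    have c0 : hermForm 6 F 2 w (v 0) = 0 := by
      rw [← tau_commute_iff hF (by norm_num) wi (hi 0) w0, ← wt, ← ht]; exact h0 k
    have c1 : hermForm 6 F 2 w (v 1) = 0 := by
      rw [← tau_commute_iff hF (by norm_num) wi (hi 1) w0, ← wt, ← ht]; exact h1 k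
    have c2 : hermForm 6 F 2 w (v 2) = 0 := by
      rw [← tau_commute_iff hF (by norm_num) wi (hi 2) w0, ← wt, ← ht]; exact h2 k
    have c5 : hermForm 6 F 2 w (v 5) = 0 := by
      rw [← tau_commute_iff hF (by norm_num) wi (hi 5) w0, ← wt, ← ht]; exact h5 k
    have c4 : hermForm 6 F 2 w (v 4) ≠ 0 := by
      rw [Ne, ← tau_commute_iff hF (by norm_num) wi (hi 4) w0, ← wt, ← ht]; exact h4 k
    refine ⟨Units.mk0 _ c4, ?_⟩
    rw [wt]
    congr 1
    refine eq_of_herm hF (nondeg_pq hg) fun j => ?_
    rw [herm_add_left, herm_add_left, herm_smul_left, Units.val_mk0]
    have h2 := add_self hF (1 : F)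
    fin_cases j
    · show hermForm 6 F 2 w (v 0) = _
      rw [c0]; simp only [hg, pq, _root_.Fin.isValue, _root_.Fin.zero_eta, _root_.List.contains_eq_mem, _root_.List.mem_cons, _root_.Prod.mk.injEq, _root_.zero_ne_one, _root_.and_false, _root_.and_true, _root_.Fin.reduceEq, _root_.and_self, _root_.List.not_mem_nil, _root_.or_self, _root_.decide_false, _root_.Bool.false_eq_true, ↓ _root_.reduceIte, _root_.add_zero, _root_.MulZeroClass.mul_zero]
    · show hermForm 6 F 2 w (v 1) = _
      rw [c1]; simp only [hg, pq, h2, _root_.Fin.isValue, _root_.Fin.mk_one, _root_.List.contains_eq_mem, _root_.List.mem_cons, _root_.Prod.mk.injEq, _root_.zero_ne_one, _root_.one_ne_zero, _root_.and_self, _root_.Fin.reduceEq, _root_.and_true, _root_.List.not_mem_nil, _root_.or_self, _root_.or_false, _root_.decide_true, ↓ _root_.reduceIte, _root_.and_false, _root_.or_true, _root_.decide_false, _root_.Bool.false_eq_true, _root_.MulZeroClass.mul_zero, _root_.add_zero]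
    · show hermForm 6 F 2 w (v 2) = _
      rw [c2]; simp only [hg, pq, _root_.Fin.isValue, _root_.Fin.reduceFinMk, _root_.List.contains_eq_mem, _root_.List.mem_cons, _root_.Prod.mk.injEq, _root_.Fin.reduceEq, _root_.and_false, _root_.zero_ne_one, _root_.and_self, _root_.and_true, _root_.List.not_mem_nil, _root_.or_self, _root_.decide_false, _root_.Bool.false_eq_true, ↓ _root_.reduceIte, _root_.add_zero, _root_.MulZeroClass.mul_zero]
    · show hermForm 6 F 2 w (v 3) = _
      rw [w2]; simp [hg, pq]
    · simp [hg, pq]
    · show hermForm 6 F 2 w (v 5) = _
      rw [c5]; simp only [hg, pq, _root_.Fin.isValue, _root_.Fin.reduceFinMk, _root_.List.contains_eq_mem, _root_.List.mem_cons, _root_.Prod.mk.injEq, _root_.Fin.reduceEq, _root_.and_false, _root_.zero_ne_one, _root_.and_self, _root_.and_true, _root_.List.not_mem_nil, _root_.or_self, _root_.decide_false, _root_.Bool.false_eq_true, ↓ _root_.reduceIte, _root_.add_zero, _root_.MulZeroClass.mul_zero]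
  choose l hl using key
  classical
  have hcard : Fintype.card Fˣ < Fintype.card (Fin 4) := by
    rw [Fintype.card_units, hF, Fintype.card_fin]; norm_num
  obtain ⟨k, k', hkk, he⟩ := Fintype.exists_ne_map_eq_of_card_lt l hcard
  exact ⟨k, k', hkk, by rw [hl, hl, he]⟩

end Cfsg.Agent.BabyU.OutHerm
end

-- part: BabyU/OutCount
section
/-!
# Configurations of ten root involutions: at most six classes

`R` is a conjugation invariant set of involutions of `E`; opposite pairs are conjugate and the centraliser of an opposite
pair is `PSU 6 F 2` with the elements of `R` going to transvections.  Among seven configurations of type `Y₃₃₃` which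
are not fixed by the exchange of the first and the last arm (realised by conjugation in `E`) two are conjugate.
-/

set_option autoImplicit false

namespace Cfsg.Agent.BabyU.OutCount

open Cfsg Cfsg.Agent.TwoESix Cfsg.Agent.TwoESix.Cox10 Cfsg.Agent.R01.PSUSix Cfsg.Agent.BabyU.OutHerm
open Cfsg.Agent.ClassicalGeometry.UnitAutBasic (tau)

variable {F : Type*} [Field F] [Fintype F] (hF : Fintype.card F = 2 ^ 2)
variable {E : Type*} [Group E]

/-- Opposite elements. -/
def Opp (R : Set E) (r s : E) : Prop := r ∈ R ∧ s ∈ R ∧ ¬ Commute r s ∧ (r * s) ^ 3 = 1

/-- The facts on the root involutions which are used. -/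
structure Hyp (R : Set E) : Prop where
  conj : ∀ x r, r ∈ R → x * r * x⁻¹ ∈ R
  opp : ∀ r s r' s', Opp R r s → Opp R r' s' → ∃ x, x * r * x⁻¹ = r' ∧ x * s * x⁻¹ = s'
  chart : ∀ r s, Opp R r s → ∃ ψ : ↥(Subgroup.centralizer ({r, s} : Set E)) ≃* PSU 6 F 2,
    ∀ x : ↥(Subgroup.centralizer ({r, s} : Set E)), (x : E) ∈ R → ψ x ∈ TT hF 6

/-- Configurations of type `Y₃₃₃`. -/
structure Cfg (R : Set E) (f : Fin 10 → E) : Prop where
  mem : ∀ i, f i ∈ R
  nadj : ∀ i j, Cox10.adj i j = true → ¬ Commute (f i) (f j)
  three : ∀ i j, Cox10.adj i j = true → (f i * f j) ^ 3 = 1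
  non : ∀ i j, Cox10.adj i j = false → Commute (f i) (f j)

/-- Conjugate configuration. -/
def cj (x : E) (f : Fin 10 → E) : Fin 10 → E := fun i => x * f i * x⁻¹

theorem cj_cj (x y : E) (f : Fin 10 → E) : cj x (cj y f) = cj (x * y) f := by
  funext i; simp only [cj]; group

theorem commute_conj {a b : E} (x : E) : Commute (x * a * x⁻¹) (x * b * x⁻¹) ↔ Commute a b := by
  constructor
  · intro h
    have := h.map (MulAut.conj x⁻¹)
    simp only [MulAut.conj_apply] at this
    have e : ∀ c : E, x⁻¹ * (x * c * x⁻¹) * x⁻¹⁻¹ = c := fun c => by group
    rwa [e, e] at this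
  · intro h
    exact h.map (MulAut.conj x)

theorem Cfg.opp {R : Set E} {f : Fin 10 → E} (h : Cfg R f) {i j : Fin 10} (hij : Cox10.adj i j = true) :
    Opp R (f i) (f j) := ⟨h.mem i, h.mem j, h.nadj i j hij, h.three i j hij⟩

theorem mem_cent {r s x : E} : x ∈ Subgroup.centralizer ({r, s} : Set E) ↔ Commute x r ∧ Commute x s := by
  rw [Subgroup.mem_centralizer_iff]
  constructor
  · intro h
    exact ⟨(h r (Or.inl rfl)).symm, (h s (Or.inr rfl)).symm⟩
  · rintro ⟨h1, h2⟩ y (rfl | rfl)
    · exact h1.symm.eq
    · exact h2.symm.eq

/-- The chain in the centraliser of the nodes `5`, `6`. -/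
def ch : Fin 7 → Fin 10 := ![0, 1, 2, 3, 7, 8, 9]

theorem adj_ch : ∀ i j, Cox10.adj (ch i) (ch j) = pth i j := by decide +kernel
theorem ch5 : ∀ i, Cox10.adj (ch i) 5 = false := by decide
theorem ch6 : ∀ i, Cox10.adj (ch i) 6 = false := by decide

/-- The six nodes in the centraliser of the nodes `8`, `9`. -/
def nd : Fin 6 → Fin 10 := ![0, 1, 2, 3, 5, 6]

theorem adj_nd : ∀ i j, Cox10.adj (nd i) (nd j) = pq i j := by decide +kernel
theorem nd8 : ∀ i, Cox10.adj (nd i) 8 = false := by decide
theorem nd9 : ∀ i, Cox10.adj (nd i) 9 = false := by decide

section

variable {hF} {R : Set E} (H : Hyp hF R)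
include H

/-- The fourth node is one of three. -/
theorem four {f : Fin 10 → E} (hf : Cfg R f) {y : Fin 4 → E} (hR : ∀ k, y k ∈ R)
    (h0 : ∀ k, Commute (y k) (f 0)) (h1 : ∀ k, Commute (y k) (f 1)) (h2 : ∀ k, Commute (y k) (f 2))
    (h3 : ∀ k, ¬ Commute (y k) (f 3)) (h5 : ∀ k, ¬ Commute (y k) (f 5)) (h6 : ∀ k, Commute (y k) (f 6))
    (h8 : ∀ k, Commute (y k) (f 8)) (h9 : ∀ k, Commute (y k) (f 9)) : ∃ k l, k ≠ l ∧ y k = y l := by
  obtain ⟨ψ, hψ⟩ := H.chart _ _ (hf.opp (show Cox10.adj 8 9 = true by decide))
  have hm : ∀ i, f (nd i) ∈ Subgroup.centralizer ({f 8, f 9} : Set E) := fun i =>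
    mem_cent.2 ⟨hf.non _ _ (nd8 i), hf.non _ _ (nd9 i)⟩
  have hy : ∀ k, y k ∈ Subgroup.centralizer ({f 8, f 9} : Set E) := fun k => mem_cent.2 ⟨h8 k, h9 k⟩
  have hc : ∀ {a b : E} (ha : a ∈ Subgroup.centralizer ({f 8, f 9} : Set E))
      (hb : b ∈ Subgroup.centralizer ({f 8, f 9} : Set E)), Commute (ψ ⟨a, ha⟩) (ψ ⟨b, hb⟩) ↔ Commute a b := by
    intro a b ha hb
    constructor
    · intro h
      have h' : ψ (⟨a, ha⟩ * ⟨b, hb⟩) = ψ (⟨b, hb⟩ * ⟨a, ha⟩) := by rw [map_mul, map_mul]; exact h
      exact congrArg Subtype.val (ψ.injective h')
    · intro h
      show ψ ⟨a, ha⟩ * ψ ⟨b, hb⟩ = ψ ⟨b, hb⟩ * ψ ⟨a, ha⟩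
      rw [← map_mul, ← map_mul]
      congr 1
      exact Subtype.ext h
  obtain ⟨k, l, hkl, he⟩ := exists_eq hF (c := fun i => ψ ⟨f (nd i), hm i⟩)
    (fun i => hψ _ (hf.mem _))
    (fun i j h => by rw [hc]; exact hf.nadj _ _ (by rw [adj_nd, h]))
    (fun i j h => by rw [hc]; exact hf.non _ _ (by rw [adj_nd, h]))
    (x := fun k => ψ ⟨y k, hy k⟩) (fun k => hψ _ (hR k))
    (fun k => by rw [hc]; exact h0 k) (fun k => by rw [hc]; exact h1 k) (fun k => by rw [hc]; exact h2 k)
    (fun k => by rw [hc]; exact h3 k) (fun k => by rw [hc]; exact h5 k) (fun k => by rw [hc]; exact h6 k)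
  exact ⟨k, l, hkl, congrArg Subtype.val (ψ.injective he)⟩

/-- The reversal of the chain. -/
theorem exists_x {f : Fin 10 → E} (hf : Cfg R f) : ∃ x : E, x * x = 1 ∧ Commute x (f 5) ∧ Commute x (f 6) ∧
    ∀ i, x * f (ch i) * x⁻¹ = f (ch (rv i)) := by
  obtain ⟨ψ, hψ⟩ := H.chart _ _ (hf.opp (show Cox10.adj 5 6 = true by decide))
  have hm : ∀ i, f (ch i) ∈ Subgroup.centralizer ({f 5, f 6} : Set E) := fun i =>
    mem_cent.2 ⟨hf.non _ _ (ch5 i), hf.non _ _ (ch6 i)⟩
  have hc : ∀ i j, Commute (ψ ⟨f (ch i), hm i⟩) (ψ ⟨f (ch j), hm j⟩) ↔ Commute (f (ch i)) (f (ch j)) := by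
    intro i j
    constructor
    · intro h
      have h' : ψ (⟨f (ch i), hm i⟩ * ⟨f (ch j), hm j⟩) = ψ (⟨f (ch j), hm j⟩ * ⟨f (ch i), hm i⟩) := by
        rw [map_mul, map_mul]; exact h
      exact congrArg Subtype.val (ψ.injective h')
    · intro h
      show ψ ⟨f (ch i), hm i⟩ * ψ ⟨f (ch j), hm j⟩ = ψ ⟨f (ch j), hm j⟩ * ψ ⟨f (ch i), hm i⟩
      rw [← map_mul, ← map_mul]
      congr 1
      exact Subtype.ext h
  obtain ⟨g, hg, hgi⟩ := exists_rev hF (c := fun i => ψ ⟨f (ch i), hm i⟩) (fun i => hψ _ (hf.mem _))
    (fun i j h => by rw [hc]; exact hf.nadj _ _ (by rw [adj_ch, h]))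
    (fun i j h => by rw [hc]; exact hf.non _ _ (by rw [adj_ch, h]))
  obtain ⟨x, rfl⟩ := ψ.surjective g
  have hx := mem_cent.1 x.2
  refine ⟨x, ?_, hx.1, hx.2, fun i => ?_⟩
  · have : ψ (x * x) = ψ 1 := by rw [map_mul, hg, map_one]
    exact congrArg Subtype.val (ψ.injective this)
  · have h1 := hgi i
    have h2 : ψ (x * ⟨f (ch i), hm i⟩ * x⁻¹) = ψ ⟨f (ch (rv i)), hm (rv i)⟩ := by
      rw [map_mul, map_mul, map_inv]; exact h1
    exact congrArg Subtype.val (ψ.injective h2)

omit [Field F] [Fintype F] H in
theorem conj_inv_eq {x a b : E} (hx : x * x = 1) (h : x * a * x⁻¹ = b) : x * b * x⁻¹ = a := by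
  have e : x⁻¹ = x := inv_eq_of_mul_eq_one_left hx
  rw [← h, e]
  calc x * (x * a * x) * x = (x * x) * a * (x * x) := by group
    _ = a := by rw [hx]; group

omit H in
theorem ne_conj {x a b : E} (h : a ≠ b) : x * a * x⁻¹ ≠ x * b * x⁻¹ := fun h' => h (by
  have := congrArg (fun c => x⁻¹ * c * x) h'
  simpa only [mul_assoc, _root_.inv_mul_cancel_left, _root_.inv_mul_cancel, _root_.mul_one] using this)

/-- Three configurations which differ exactly in the fourth node: one of them is reversed by an element. -/
theorem exists_reversed {g : Fin 3 → Fin 10 → E} (hg : ∀ a, Cfg R (g a)) (he : ∀ a b i, i ≠ 4 → g a i = g b i)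
    (h01 : g 0 4 ≠ g 1 4) (h02 : g 0 4 ≠ g 2 4) (h12 : g 1 4 ≠ g 2 4) :
    ∃ a x, ∀ i, x * g a i * x⁻¹ = g a (pAC i) := by
  obtain ⟨x, hxx, hx5, hx6, hxi⟩ := exists_x H (hg 0)
  have hxi' : ∀ a i, x * g a (ch i) * x⁻¹ = g a (ch (rv i)) := by
    intro a i
    rw [he a 0 (ch i) (by revert i; decide), he a 0 (ch (rv i)) (by revert i; decide)]
    exact hxi i
  have fix : ∀ {c : E}, Commute x c → x * c * x⁻¹ = c := fun {c} h => by
    rw [h.eq, mul_assoc, mul_inv_cancel, mul_one]
  have hx5' : ∀ a, x * g a 5 * x⁻¹ = g a 5 := fun a => by
    rw [he a 0 5 (by decide)]; exact fix hx5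
  have hx6' : ∀ a, x * g a 6 * x⁻¹ = g a 6 := fun a => by
    rw [he a 0 6 (by decide)]; exact fix hx6
  have e0 : ∀ a, x * g a 0 * x⁻¹ = g a 9 := fun a => hxi' a 0
  have e1 : ∀ a, x * g a 1 * x⁻¹ = g a 8 := fun a => hxi' a 1
  have e2 : ∀ a, x * g a 2 * x⁻¹ = g a 7 := fun a => hxi' a 2
  have e3 : ∀ a, x * g a 3 * x⁻¹ = g a 3 := fun a => hxi' a 3
  have e7 : ∀ a, x * g a 7 * x⁻¹ = g a 2 := fun a => hxi' a 4
  have e8 : ∀ a, x * g a 8 * x⁻¹ = g a 1 := fun a => hxi' a 5
  have e9 : ∀ a, x * g a 9 * x⁻¹ = g a 0 := fun a => hxi' a 6
  -- it is enough to find a fixed fourth node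
  have done : ∀ a, x * g a 4 * x⁻¹ = g a 4 → ∃ a x, ∀ i, x * g a i * x⁻¹ = g a (pAC i) := by
    intro a h4
    refine ⟨a, x, fun i => ?_⟩
    fin_cases i
    · exact e0 a
    · exact e1 a
    · exact e2 a
    · exact e3 a
    · exact h4
    · exact hx5' a
    · exact hx6' a
    · exact e7 a
    · exact e8 a
    · exact e9 a
  -- the image of a fourth node is a fourth node
  have key : ∀ a, x * g a 4 * x⁻¹ = g 0 4 ∨ x * g a 4 * x⁻¹ = g 1 4 ∨ x * g a 4 * x⁻¹ = g 2 4 := by
    intro a
    have hga := hg a
    have k2 : ∀ {i j : Fin 10}, Commute (g a i) (g a j) → Commute (x * g a i * x⁻¹) (x * g a j * x⁻¹) :=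
      fun h => (commute_conj x).2 h
    have k3 : ∀ {i j : Fin 10}, ¬ Commute (g a i) (g a j) → ¬ Commute (x * g a i * x⁻¹) (x * g a j * x⁻¹) :=
      fun h h' => h ((commute_conj x).1 h')
    have y0 : Commute (x * g a 4 * x⁻¹) (g 0 0) := by
      have := k2 (hga.non 4 9 (by decide)); rw [e9, he a 0 0 (by decide)] at this; exact this
    have y1 : Commute (x * g a 4 * x⁻¹) (g 0 1) := by
      have := k2 (hga.non 4 8 (by decide)); rw [e8, he a 0 1 (by decide)] at this; exact this
    have y2 : Commute (x * g a 4 * x⁻¹) (g 0 2) := by
      have := k2 (hga.non 4 7 (by decide)); rw [e7, he a 0 2 (by decide)] at this; exact this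
    have y3 : ¬ Commute (x * g a 4 * x⁻¹) (g 0 3) := by
      have := k3 (hga.nadj 4 3 (by decide)); rw [e3, he a 0 3 (by decide)] at this; exact this
    have y5 : ¬ Commute (x * g a 4 * x⁻¹) (g 0 5) := by
      have := k3 (hga.nadj 4 5 (by decide)); rw [hx5', he a 0 5 (by decide)] at this; exact this
    have y6 : Commute (x * g a 4 * x⁻¹) (g 0 6) := by
      have := k2 (hga.non 4 6 (by decide)); rw [hx6', he a 0 6 (by decide)] at this; exact this
    have y8 : Commute (x * g a 4 * x⁻¹) (g 0 8) := by
      have := k2 (hga.non 4 1 (by decide)); rw [e1, he a 0 8 (by decide)] at this; exact this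
    have y9 : Commute (x * g a 4 * x⁻¹) (g 0 9) := by
      have := k2 (hga.non 4 0 (by decide)); rw [e0, he a 0 9 (by decide)] at this; exact this
    have z : ∀ b i, Cox10.adj 4 i = false → i ≠ 4 → Commute (g b 4) (g 0 i) := by
      intro b i h hi
      rw [he 0 b i hi]; exact (hg b).non 4 i h
    have z' : ∀ b i, Cox10.adj 4 i = true → i ≠ 4 → ¬ Commute (g b 4) (g 0 i) := by
      intro b i h hi
      rw [he 0 b i hi]; exact (hg b).nadj 4 i h
    have four' : ∀ P : E → Prop, P (g 0 4) → P (g 1 4) → P (g 2 4) → P (x * g a 4 * x⁻¹) →
        ∀ k : Fin 4, P ((![g 0 4, g 1 4, g 2 4, x * g a 4 * x⁻¹] : Fin 4 → E) k) := by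
      intro P p0 p1 p2 p3 k
      fin_cases k
      · exact p0
      · exact p1
      · exact p2
      · exact p3
    obtain ⟨k, l, hkl, hkl'⟩ := four H (hg 0) (y := ![g 0 4, g 1 4, g 2 4, x * g a 4 * x⁻¹])
      (four' (· ∈ R) ((hg 0).mem 4) ((hg 1).mem 4) ((hg 2).mem 4) (H.conj _ _ (hga.mem 4)))
      (four' (Commute · (g 0 0)) (z _ _ (by decide) (by decide)) (z _ _ (by decide) (by decide))
        (z _ _ (by decide) (by decide)) y0)
      (four' (Commute · (g 0 1)) (z _ _ (by decide) (by decide)) (z _ _ (by decide) (by decide))
        (z _ _ (by decide) (by decide)) y1)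
      (four' (Commute · (g 0 2)) (z _ _ (by decide) (by decide)) (z _ _ (by decide) (by decide))
        (z _ _ (by decide) (by decide)) y2)
      (four' (¬ Commute · (g 0 3)) (z' _ _ (by decide) (by decide)) (z' _ _ (by decide) (by decide))
        (z' _ _ (by decide) (by decide)) y3)
      (four' (¬ Commute · (g 0 5)) (z' _ _ (by decide) (by decide)) (z' _ _ (by decide) (by decide))
        (z' _ _ (by decide) (by decide)) y5)
      (four' (Commute · (g 0 6)) (z _ _ (by decide) (by decide)) (z _ _ (by decide) (by decide))
        (z _ _ (by decide) (by decide)) y6)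
      (four' (Commute · (g 0 8)) (z _ _ (by decide) (by decide)) (z _ _ (by decide) (by decide))
        (z _ _ (by decide) (by decide)) y8)
      (four' (Commute · (g 0 9)) (z _ _ (by decide) (by decide)) (z _ _ (by decide) (by decide))
        (z _ _ (by decide) (by decide)) y9)
    fin_cases k <;> fin_cases l <;> [exact absurd rfl hkl; exact absurd hkl' h01; exact absurd hkl' h02; exact Or.inl hkl'.symm; exact absurd hkl'.symm h01; exact absurd rfl hkl;
                                     exact absurd hkl' h12; exact Or.inr (Or.inl hkl'.symm); exact absurd hkl'.symm h02; exact absurd hkl'.symm h12; exact absurd rfl hkl;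
                                     exact Or.inr (Or.inr hkl'.symm); exact Or.inl hkl'; exact Or.inr (Or.inl hkl'); exact Or.inr (Or.inr hkl'); exact absurd rfl hkl]
  rcases key 0 with h | h | h
  · exact done 0 h
  · have h1 := conj_inv_eq hxx h
    rcases key 2 with h2 | h2 | h2
    · exact absurd (h1.trans h2.symm) (ne_conj h12)
    · exact absurd (h.trans h2.symm) (ne_conj h02)
    · exact done 2 h2
  · have h1 := conj_inv_eq hxx h
    rcases key 1 with h2 | h2 | h2
    · exact absurd (h1.trans h2.symm) (ne_conj h12.symm)
    · exact done 1 h2
    · exact absurd (h.trans h2.symm) (ne_conj h01)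

theorem Cfg.cj {f : Fin 10 → E} (hf : Cfg R f) (x : E) : Cfg R (cj x f) where
  mem i := H.conj x _ (hf.mem i)
  nadj i j h h' := hf.nadj i j h ((commute_conj x).1 h')
  three i j h := by
    have e : OutCount.cj x f i * OutCount.cj x f j = x * (f i * f j) * x⁻¹ := by simp only [OutCount.cj]; group
    rw [e, conj_pow, hf.three i j h, mul_one, mul_inv_cancel]
  non i j h := (commute_conj x).2 (hf.non i j h)

omit [Field F] [Fintype F] H in
/-- Conjugacy of configurations. -/
def Cj (f f' : Fin 10 → E) : Prop := ∃ x : E, cj x f = f'

omit [Field F] [Fintype F] H in
theorem Cj.trans {f g h : Fin 10 → E} (h1 : Cj f g) (h2 : Cj g h) : Cj f h := by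
  obtain ⟨x, rfl⟩ := h1
  obtain ⟨y, rfl⟩ := h2
  exact ⟨y * x, (cj_cj _ _ _).symm⟩

omit [Field F] [Fintype F] H in
theorem Cj.symm {f g : Fin 10 → E} (h1 : Cj f g) : Cj g f := by
  obtain ⟨x, rfl⟩ := h1
  refine ⟨x⁻¹, ?_⟩
  rw [cj_cj, inv_mul_cancel]
  funext i
  simp [OutCount.cj]

/-- **Among seven configurations which are not reversed by an inner automorphism two are conjugate.** -/
theorem seven {f : Fin 7 → Fin 10 → E} (hf : ∀ k, Cfg R (f k))
    (hfree : ∀ k g, Cj (f k) g → ∀ x : E, ¬ ∀ i, x * g i * x⁻¹ = g (pAC i)) :
    ∃ k l, k ≠ l ∧ Cj (f k) (f l) := by
  classical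
  have hopp : ∀ k, Opp R (f k 5) (f k 6) := fun k => (hf k).opp (by decide)
  choose x hx5 hx6 using fun k => H.opp _ _ _ _ (hopp k) (hopp 0)
  obtain ⟨ψ, hψ⟩ := H.chart _ _ (hopp 0)
  obtain ⟨f', hf'⟩ : ∃ f' : Fin 7 → Fin 10 → E, ∀ k, f' k = cj (x k) (f k) := ⟨_, fun _ => rfl⟩
  have hc' : ∀ k, Cfg R (f' k) := fun k => by rw [hf']; exact (hf k).cj H (x k)
  have h5 : ∀ k, f' k 5 = f 0 5 := fun k => by rw [hf']; exact hx5 k
  have h6 : ∀ k, f' k 6 = f 0 6 := fun k => by rw [hf']; exact hx6 k
  have hm : ∀ k i, f' k (ch i) ∈ Subgroup.centralizer ({f 0 5, f 0 6} : Set E) := fun k i =>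
    mem_cent.2 ⟨by rw [← h5 k]; exact (hc' k).non _ _ (ch5 i), by rw [← h6 k]; exact (hc' k).non _ _ (ch6 i)⟩
  have hcom : ∀ k i j, Commute (ψ ⟨f' k (ch i), hm k i⟩) (ψ ⟨f' k (ch j), hm k j⟩) ↔
      Commute (f' k (ch i)) (f' k (ch j)) := by
    intro k i j
    constructor
    · intro h
      have h' : ψ (⟨f' k (ch i), hm k i⟩ * ⟨f' k (ch j), hm k j⟩) =
          ψ (⟨f' k (ch j), hm k j⟩ * ⟨f' k (ch i), hm k i⟩) := by
        rw [map_mul, map_mul]; exact h
      exact congrArg Subtype.val (ψ.injective h')
    · intro h
      show ψ ⟨f' k (ch i), hm k i⟩ * ψ ⟨f' k (ch j), hm k j⟩ = ψ ⟨f' k (ch j), hm k j⟩ * ψ ⟨f' k (ch i), hm k i⟩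
      rw [← map_mul, ← map_mul]
      congr 1
      exact Subtype.ext h
  choose v hv hvt using fun k => exists_path hF (c := fun i => ψ ⟨f' k (ch i), hm k i⟩)
    (fun i => hψ _ ((hc' k).mem _))
    (fun i j h => by rw [hcom]; exact (hc' k).nadj _ _ (by rw [adj_ch, h]))
    (fun i j h => by rw [hcom]; exact (hc' k).non _ _ (by rw [adj_ch, h]))
  choose A hA hAv using fun k => exists_path_map hF (hv 0) (hv k)
  have hdet : ∀ k, (A k).det ≠ 0 := fun k => det_ne_zero hF (hA k)
  -- three configurations with the same determinant
  have hcard : Fintype.card Fˣ * 2 < Fintype.card (Fin 7) := by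
    rw [Fintype.card_units, hF, Fintype.card_fin]; norm_num
  obtain ⟨d, hd⟩ := Fintype.exists_lt_card_fiber_of_mul_lt_card (fun k => Units.mk0 _ (hdet k)) hcard
  obtain ⟨a, ha, b, hb, c, hc, hab, hac, hbc⟩ := Finset.two_lt_card.1 hd
  simp only [Finset.mem_filter, Finset.mem_univ, true_and] at ha hb hc
  have hdab : (A b).det = (A a).det := by
    have := congrArg Units.val (hb.trans ha.symm); simpa using this
  have hdac : (A c).det = (A a).det := by
    have := congrArg Units.val (hc.trans ha.symm); simpa using this
  -- the same chain
  have hsame : ∀ k, (A k).det = (A a).det → ∃ y : E, (∀ i, y * f' k (ch i) * y⁻¹ = f' a (ch i)) ∧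
      Commute y (f 0 5) ∧ Commute y (f 0 6) := by
    intro k hk
    obtain ⟨g, hg⟩ := conj_of_det hF (hv k) (hvt k) (hvt a) (hA k) (hA a) (hAv k) (hAv a) hk
    obtain ⟨y, rfl⟩ := ψ.surjective g
    have hy := mem_cent.1 y.2
    refine ⟨y, fun i => ?_, hy.1, hy.2⟩
    have h2 : ψ (y * ⟨f' k (ch i), hm k i⟩ * y⁻¹) = ψ ⟨f' a (ch i), hm a i⟩ := by
      rw [map_mul, map_mul, map_inv]; exact hg i
    exact congrArg Subtype.val (ψ.injective h2)
  obtain ⟨yb, hyb, hyb5, hyb6⟩ := hsame b hdab
  obtain ⟨yc, hyc, hyc5, hyc6⟩ := hsame c hdac
  have fix : ∀ {y c : E}, Commute y c → y * c * y⁻¹ = c := fun {y c} h => by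
    rw [h.eq, mul_assoc, mul_inv_cancel, mul_one]
  have hall : ∀ (k : Fin 7) (y : E), (∀ i, y * f' k (ch i) * y⁻¹ = f' a (ch i)) → Commute y (f 0 5) →
      Commute y (f 0 6) → ∀ i, i ≠ 4 → cj y (f' k) i = f' a i := by
    intro k y h1 h2 h3 i hi
    have e5 : cj y (f' k) 5 = f' a 5 := by show y * f' k 5 * y⁻¹ = _; rw [h5, h5, fix h2]
    have e6 : cj y (f' k) 6 = f' a 6 := by show y * f' k 6 * y⁻¹ = _; rw [h6, h6, fix h3]
    have e0 := h1 0
    have e1 := h1 1
    have e2 := h1 2
    have e3 := h1 3
    have e7 := h1 4
    have e8 := h1 5
    have e9 := h1 6
    fin_cases i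
    · exact e0
    · exact e1
    · exact e2
    · exact e3
    · exact absurd rfl hi
    · exact e5
    · exact e6
    · exact e7
    · exact e8
    · exact e9
  have hall_b := hall b yb hyb hyb5 hyb6
  have hall_c := hall c yc hyc hyc5 hyc6
  have cja : Cj (f a) (f' a) := ⟨x a, (hf' a).symm⟩
  have cjb : Cj (f b) (cj yb (f' b)) := Cj.trans ⟨x b, (hf' b).symm⟩ ⟨yb, rfl⟩
  have cjc : Cj (f c) (cj yc (f' c)) := Cj.trans ⟨x c, (hf' c).symm⟩ ⟨yc, rfl⟩
  have ext4 : ∀ {g h : Fin 10 → E}, (∀ i, i ≠ 4 → g i = h i) → g 4 = h 4 → g = h := by
    intro g h h1 h2
    funext i
    by_cases hi : i = 4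
    · rw [hi, h2]
    · exact h1 i hi
  by_cases n01 : f' a 4 = cj yb (f' b) 4
  · refine ⟨a, b, hab, cja.trans ?_⟩
    rw [ext4 (fun i hi => (hall_b i hi).symm) n01]
    exact cjb.symm
  by_cases n02 : f' a 4 = cj yc (f' c) 4
  · refine ⟨a, c, hac, cja.trans ?_⟩
    rw [ext4 (fun i hi => (hall_c i hi).symm) n02]
    exact cjc.symm
  by_cases n12 : cj yb (f' b) 4 = cj yc (f' c) 4
  · refine ⟨b, c, hbc, cjb.trans ?_⟩
    rw [ext4 (fun i hi => (hall_b i hi).trans (hall_c i hi).symm) n12]
    exact cjc.symm
  exfalso
  obtain ⟨k, y, hy⟩ := exists_reversed H (g := ![f' a, cj yb (f' b), cj yc (f' c)])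
    (by
      intro k
      fin_cases k
      · exact hc' a
      · exact (hc' b).cj H yb
      · exact (hc' c).cj H yc)
    (by
      intro k l i hi
      have e1 : ∀ k : Fin 3, (![f' a, cj yb (f' b), cj yc (f' c)] : Fin 3 → Fin 10 → E) k i = f' a i := by
        intro k
        fin_cases k
        · rfl
        · exact hall_b i hi
        · exact hall_c i hi
      rw [e1, e1])
    n01 n02 n12
  fin_cases k
  · exact hfree a _ cja y hy
  · exact hfree b _ cjb y hy
  · exact hfree c _ cjc y hy

end

end Cfsg.Agent.BabyU.OutCount
end

private theorem dce_34cdc1759b21 : _root_.True := by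
  try have : _root_.True := by simp only [_root_.Cfsg.Agent.BabyU.OutHerm.basis.congr_simp]
  try have : _root_.True := by simp only [_root_.Cfsg.Agent.BabyU.OutHerm.pth.eq_1]
  try have : _root_.True := by simp only [_root_.Cfsg.Agent.BabyU.OutHerm.pq.eq_1]
  try have : _root_.True := by simp only [_root_.Cfsg.Agent.BabyU.OutCount.cj.eq_1]
  try have : _root_.True := by simp only [_root_.Cfsg.Agent.BabyU.OutHerm.six.eq_1]
  try have : _root_.True := by simp only [_root_.Cfsg.Agent.BabyU.OutHerm.basis.eq_1]
  exact _root_.True.intro
end

-- part: TwoESix/LeviHyp
section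
set_option linter.all false
open scoped Cfsg.Agent.FastGrp

/-!
# The hypotheses of the theorem on outer automorphisms follow from `RootFacts`
-/

set_option autoImplicit false

namespace Cfsg.Agent.TwoESix.LeviHyp

open Cfsg Cfsg.Agent.R01.PSUSix Cfsg.Agent.BabyU Cfsg.Agent.BabyU.RootCfg

variable {E : Type*} [Group E] {F : Type*} [Field F] [Fintype F] {hF : Fintype.card F = 2 ^ 2} {R : Set E}

/-- The restriction of a chart to the centraliser of an opposite pair. -/
theorem chart_equiv (RF : RootFacts hF R) {r s : E} (hr : r ∈ R) (hs : s ∈ R) (h : RootCfg.Opp r s) :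
    ∃ ψ : ↥(Subgroup.centralizer ({r, s} : Set E)) ≃* PSU 6 F 2,
      (∀ x : ↥(Subgroup.centralizer ({r, s} : Set E)), (x : E) ∈ R ↔ ψ x ∈ TT hF 6) := by
  obtain ⟨ψ, C⟩ := RF.chart r hr
  have hle : Subgroup.centralizer ({r, s} : Set E) ≤ Subgroup.centralizer ({r} : Set E) :=
    Subgroup.centralizer_le (Set.singleton_subset_iff.2 (Set.mem_insert r {s}))
  have hs' : ∀ x : ↥(Subgroup.centralizer ({r, s} : Set E)), (x : E) * s = s * x := fun x =>
    (Subgroup.mem_centralizer_iff.1 x.2 s (Set.mem_insert_of_mem r rfl)).symm
  set f : ↥(Subgroup.centralizer ({r, s} : Set E)) →* PSU 6 F 2 := ψ.comp (Subgroup.inclusion hle) with hf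
  have hinj : Function.Injective f := by
    rw [injective_iff_map_eq_one]
    intro x hx
    have h1 := C.inj s hs h (Subgroup.inclusion hle x) (hs' x) hx
    have h2 : ((Subgroup.inclusion hle x : ↥(Subgroup.centralizer ({r} : Set E))) : E) = 1 := by rw [h1]; rfl
    exact Subtype.ext h2
  have hsurj : Function.Surjective f := by
    intro u
    obtain ⟨x, hx, e⟩ := C.surj s hs h u
    have hr' : (x : E) * r = r * x := Subgroup.mem_centralizer_singleton_iff.1 x.2
    have hm : (x : E) ∈ Subgroup.centralizer ({r, s} : Set E) := by
      rw [Subgroup.mem_centralizer_iff]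
      intro y hy
      rcases hy with rfl | hy
      · exact hr'.symm
      · rw [Set.mem_singleton_iff] at hy
        rw [hy]; exact hx.symm
    exact ⟨⟨x, hm⟩, e⟩
  refine ⟨MulEquiv.ofBijective f ⟨hinj, hsurj⟩, fun x => ⟨fun hx => ?_, fun hx => ?_⟩⟩
  · rcases C.root (Subgroup.inclusion hle x) hx with h1 | h1
    · exfalso
      have h2 : x = 1 := hinj (h1.trans (map_one f).symm)
      exact RF.ne _ hx (congrArg Subtype.val h2)
    · exact h1
  · exact C.back s hs h (Subgroup.inclusion hle x) (hs' x) hx

/-- `OutCount.Hyp` from `RootFacts` and the transitivity on opposite pairs. -/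
theorem outHyp (RF : RootFacts hF R)
    (htr : ∀ r ∈ R, ∀ s ∈ R, ∀ r' ∈ R, ∀ s' ∈ R, r ≠ s → (r * s) ^ 3 = 1 → r' ≠ s' → (r' * s') ^ 3 = 1 →
      ∃ g : E, g * r * g⁻¹ = r' ∧ g * s * g⁻¹ = s') : OutCount.Hyp hF R where
  conj := fun x r hr => RF.conj r hr x
  opp := fun r s r' s' ⟨hr, hs, hn, h3⟩ ⟨hr', hs', hn', h3'⟩ =>
    htr r hr s hs r' hr' s' hs' (fun e => hn (by rw [e])) h3 (fun e => hn' (by rw [e])) h3'
  chart := fun r s ⟨hr, hs, hn, h3⟩ => by
    obtain ⟨ψ, h⟩ := chart_equiv RF hr hs ⟨fun e => hn (by rw [e]), h3⟩
    exact ⟨ψ, fun x hx => (h x).1 hx⟩

end Cfsg.Agent.TwoESix.LeviHyp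
end

-- part: BabyU/OutFree
section
prune_inst 0x34207d0434221000001805920300202464000192006b000119e007420a07536120452f417ef01f1291f82ee0684ac048111001d9423000002a008a0040000000042b70e61334bd04310000c0f887180c00000000000000000000000000041004000000000
set_option linter.all false
open scoped Cfsg.Agent.FastGrp

/-!
# Arm permutations of a configuration of type `Y₃₃₃` are not inner

`E` is presented by ten generators `f` with the relations `Good` and has a non-split double cover `M`.  Then no
non-trivial permutation of the three arms of `f` is induced by conjugation in `E`.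
-/

set_option autoImplicit false

namespace Cfsg.Agent.BabyU.OutFree

open Cfsg Cfsg.Agent.TwoESix Cfsg.Agent.TwoESix.Cox10 Cfsg.Agent.TwoESix.Lift Cfsg.Agent.TwoESix.Cover
open Cfsg.Agent.R01.Lifts

/-! ### The six permutations -/

/-- exchange the second and the third arm -/
def pBC : Fin 10 → Fin 10 := ![0, 1, 2, 3, 7, 8, 9, 4, 5, 6]

/-- the six permutations of the arms -/
def P6 : Fin 6 → Fin 10 → Fin 10 := ![id, pAB, pAC, pBC, pAB ∘ pAC, pAC ∘ pAB]

theorem P6_zero (i : Fin 10) : P6 0 i = i := rfl

theorem lab_P6 : ∀ k i j, lab (P6 k i) (P6 k j) = lab i j := by decide +kernel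

theorem adj_P6 : ∀ k i j, adj (P6 k i) (P6 k j) = adj i j := by decide +kernel

theorem P6_div : ∀ k l : Fin 6, k ≠ l → ∃ n : Fin 6, n ≠ 0 ∧ ∀ i, P6 l i = P6 n (P6 k i) := by decide +kernel

theorem P6_surj : ∀ k : Fin 6, ∀ i, ∃ j, P6 k j = i := by decide +kernel

/-- The permutation of the three `E₇` words. -/
def Q6 : Fin 6 → Fin 3 → Fin 3 := ![id, ![1, 0, 2], ![2, 1, 0], ![0, 2, 1], ![2, 0, 1], ![1, 2, 0]]

theorem Q6_cases : ∀ n, Q6 n 1 = 0 ∨ Q6 n 1 = 1 ∨ Q6 n 1 = 2 := by decide

theorem Q6_cases2 : ∀ n, Q6 n 1 = 0 → Q6 n 2 ≠ 0 := by decide

section Sig

variable {G : Type*} [Group G]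

/-- Coxeter relations and spider relation. -/
structure CS (s : Fin 10 → G) : Prop where
  lift : M10.IsLiftable s
  spider : ev s spider ^ 10 = 1

theorem CS.AB {s : Fin 10 → G} (h : CS s) : CS (fun i => s (pAB i)) :=
  ⟨lift_perm h.lift lab_pAB, spider_pAB h.lift h.spider⟩

theorem CS.AC {s : Fin 10 → G} (h : CS s) : CS (fun i => s (pAC i)) :=
  ⟨lift_perm h.lift lab_pAC, spider_pAC h.lift h.spider⟩

theorem CS.P6 {s : Fin 10 → G} (h : CS s) (k : Fin 6) : CS (fun i => s (P6 k i)) := by
  fin_cases k
  · exact h
  · exact h.AB
  · exact h.AC
  · have := h.AB.AC.AB
    have e : (fun i => s (pAB (pAC (pAB i)))) = fun i => s (OutFree.P6 3 i) := by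
      funext i; congr 1; revert i; decide
    show CS (fun i => s (OutFree.P6 3 i))
    rw [← e]; exact this
  · exact h.AB.AC
  · exact h.AC.AB

/-- The three `E₇` words. -/
def W : Fin 3 → List (Fin 10) := ![W321, W231, W213]

/-- Ninth powers of the `E₇` words. -/
def sig (s : Fin 10 → G) (k : Fin 3) : G := ev s (W k) ^ 9

theorem sig_AB {s : Fin 10 → G} (h : CS s) (k : Fin 3) : sig (fun i => s (pAB i)) k = sig s (![1, 0, 2] k) := by
  fin_cases k
  · show ev (fun i => s (pAB i)) W321 ^ 9 = ev s W231 ^ 9
    rw [ev_comp, pow9_eq h.lift chkAB1]
  · show ev (fun i => s (pAB i)) W231 ^ 9 = ev s W321 ^ 9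
    rw [ev_comp, pow9_eq h.lift chkAB2]
  · show ev (fun i => s (pAB i)) W213 ^ 9 = ev s W213 ^ 9
    rw [ev_comp, pow9_eq h.lift chkAB3, W213_eq h.lift h.spider]

theorem sig_AC {s : Fin 10 → G} (h : CS s) (k : Fin 3) : sig (fun i => s (pAC i)) k = sig s (![2, 1, 0] k) := by
  fin_cases k
  · show ev (fun i => s (pAC i)) W321 ^ 9 = ev s W213 ^ 9
    rw [ev_comp, pow9_eq h.lift chkAC1, W213_eq h.lift h.spider]
  · show ev (fun i => s (pAC i)) W231 ^ 9 = ev s W231 ^ 9
    rw [ev_comp, pow9_eq h.lift chkAC2, W231_eq h.lift h.spider]
  · show ev (fun i => s (pAC i)) W213 ^ 9 = ev s W321 ^ 9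
    rw [ev_comp, pow9_eq h.lift chkAC3, W321_eq h.lift h.spider]

theorem sig_P6 {s : Fin 10 → G} (h : CS s) (n : Fin 6) (k : Fin 3) :
    sig (fun i => s (P6 n i)) k = sig s (Q6 n k) := by
  fin_cases n
  · rfl
  · exact sig_AB h k
  · exact sig_AC h k
  · have e : (fun i => s (pAB (pAC (pAB i)))) = fun i => s (OutFree.P6 3 i) := by
      funext i; congr 1; revert i; decide
    show sig (fun i => s (OutFree.P6 3 i)) k = _
    rw [← e, sig_AB h.AB.AC, sig_AC h.AB, sig_AB h]
    fin_cases k <;> rfl
  · show sig (fun i => s (pAB (pAC i))) k = _
    rw [sig_AC h.AB, sig_AB h]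
    fin_cases k <;> rfl
  · show sig (fun i => s (pAC (pAB i))) k = _
    rw [sig_AB h.AC, sig_AC h]
    fin_cases k <;> rfl

theorem good_iff {s : Fin 10 → G} : Good s ↔ CS s ∧ ∀ k, sig s k = 1 := by
  constructor
  · intro h
    refine ⟨⟨h.lift, h.spider⟩, fun k => ?_⟩
    fin_cases k
    · exact h.e321
    · exact h.e231
    · exact h.e213
  · rintro ⟨h, h'⟩
    exact ⟨h.lift, h.spider, h' 0, h' 1, h' 2⟩

theorem good_P6 {s : Fin 10 → G} (h : Good s) (n : Fin 6) : Good (fun i => s (P6 n i)) := by
  rw [good_iff] at h ⊢
  exact ⟨h.1.P6 n, fun k => by rw [sig_P6 h.1, h.2]⟩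

end Sig

/-! ### Automorphisms of the double cover -/

section Ext

variable {M E : Type*} [Group M] [Group E] {π : M →* E} {z : M}

theorem z3 (h : _root_.Cfsg.Agent.R01.Lifts.Ext π z) {a : M} (ha : a ^ 3 = 1) : (a * z) ^ 3 = z := by
  have hc : Commute a z := h.comm a
  rw [hc.mul_pow, ha, one_mul, pow_succ, pow_two, h.zz, one_mul]

/-- An endomorphism fixing `z` which permutes the nodes modulo `z` permutes them up to a global sign. -/
theorem global (h : _root_.Cfsg.Agent.R01.Lifts.Ext π z) {m : Fin 10 → M} (hm : M10.IsLiftable m) (θ : M →* M) {p : Fin 10 → Fin 10}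
    (hp : ∀ i j, lab (p i) (p j) = lab i j) (hθ : ∀ i, π (θ (m i)) = π (m (p i))) :
    (∀ i, θ (m i) = m (p i)) ∨ (∀ i, θ (m i) = m (p i) * z) := by
  have hlift : ∀ i, θ (m i) = m (p i) ∨ θ (m i) = m (p i) * z := fun i => h.map_eq.1 (hθ i)
  have h3 : ∀ {i j}, adj i j = true → (m i * m j) ^ 3 = 1 := by
    intro i j hij
    have := hm i j
    rwa [M10_apply, lab_adj i j hij] at this
  have hadj : ∀ {i j}, adj i j = true → adj (p i) (p j) = true := by
    intro i j hij
    apply adj_of_lab
    rw [hp, lab_adj i j hij]
  have hθ3 : ∀ {i j}, adj i j = true → (θ (m i) * θ (m j)) ^ 3 = 1 := by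
    intro i j hij
    rw [← map_mul, ← map_pow, h3 hij, map_one]
  rcases hlift 3 with h0 | h0
  · left
    refine all_nodes (fun i => θ (m i) = m (p i)) ?_ h0
    intro i j hij hi
    rcases hlift j with hj | hj
    · exact hj
    · exfalso
      have := hθ3 hij
      rw [hi, hj, ← mul_assoc, z3 h (h3 (hadj hij))] at this
      exact h.zne this
  · right
    refine all_nodes (fun i => θ (m i) = m (p i) * z) ?_ h0
    intro i j hij hi
    rcases hlift j with hj | hj
    · exfalso
      have := hθ3 hij
      rw [hi, hj] at this
      have e : m (p i) * z * m (p j) = m (p i) * m (p j) * z := by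
        rw [mul_assoc, ← h.comm, ← mul_assoc]
      rw [e, z3 h (h3 (hadj hij))] at this
      exact h.zne this
    · exact hj

theorem W_length : ∀ k, (W k).length = 7 := by decide

theorem sig_mul_z (h : _root_.Cfsg.Agent.R01.Lifts.Ext π z) (s : Fin 10 → M) (k : Fin 3) : sig (fun i => s i * z) k = sig s k * z :=
  ev7_mul_z h s (W_length k)

/-- Signature condition. -/
theorem sig_global (h : _root_.Cfsg.Agent.R01.Lifts.Ext π z) {m : Fin 10 → M} (hm : CS m) (θ : M →* M) {n : Fin 6}
    (hθ : ∀ i, π (θ (m i)) = π (m (P6 n i))) (hz : ∀ k, θ (sig m k) = sig m k) :
    ((∀ i, θ (m i) = m (P6 n i)) ∧ ∀ k, sig m k = sig m (Q6 n k)) ∨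
      ((∀ i, θ (m i) = m (P6 n i) * z) ∧ ∀ k, sig m k = sig m (Q6 n k) * z) := by
  have key : ∀ k, sig m k = sig (fun i => θ (m i)) k := by
    intro k
    rw [← hz]
    show θ (ev m (W k) ^ 9) = _
    rw [map_pow, ev_map]; rfl
  rcases global h hm.lift θ (lab_P6 n) hθ with h1 | h1
  · left
    refine ⟨h1, fun k => ?_⟩
    rw [key, ← sig_P6 hm]
    congr 1
    funext i; exact h1 i
  · right
    refine ⟨h1, fun k => ?_⟩
    rw [key, ← sig_P6 hm, ← sig_mul_z h]
    congr 1
    funext i; exact h1 i

/-- The signature of the standard generators. -/
theorem _root_.Cfsg.Agent.TwoESix.Lift.ZRels.cs {s : Fin 10 → M} (h : ZRels s z) : CS s := ⟨h.lift, h.spider⟩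

theorem sig_zrels {s : Fin 10 → M} (h : ZRels s z) (k : Fin 3) : sig s k = ![z, 1, 1] k := by
  fin_cases k
  · exact h.e321
  · exact h.e231
  · exact h.e213

/-- An endomorphism of the double cover which fixes `z` and permutes the arms modulo `z` is trivial or exchanges
the last two arms. -/
theorem zero_or_three (h : _root_.Cfsg.Agent.R01.Lifts.Ext π z) {m : Fin 10 → M} (hm : ZRels m z) (θ : M →* M) {n : Fin 6}
    (hθ : ∀ i, π (θ (m i)) = π (m (P6 n i))) (hz : θ z = z) :
    (n = 0 ∨ n = 3) ∧ ∀ i, θ (m i) = m (P6 n i) := by
  have hz' : ∀ k, θ (sig m k) = sig m k := by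
    intro k
    rw [sig_zrels hm]
    fin_cases k
    · exact hz
    · exact map_one θ
    · exact map_one θ
  have hz0 : sig m 0 = z := hm.e321
  have hz1 : sig m 1 = 1 := hm.e231
  have hz2 : sig m 2 = 1 := hm.e213
  have hne := h.zne
  have hzz := h.zz
  rcases sig_global h hm.cs θ hθ hz' with ⟨h1, h2⟩ | ⟨h1, h2⟩
  · refine ⟨?_, h1⟩
    have a0 := h2 0
    rw [hz0] at a0
    fin_cases n
    · exact Or.inl rfl
    · exfalso
      have : z = sig m 1 := a0
      exact hne (this.trans hz1)
    · exfalso
      have : z = sig m 2 := a0
      exact hne (this.trans hz2)
    · exact Or.inr rfl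
    · exfalso
      have : z = sig m 2 := a0
      exact hne (this.trans hz2)
    · exfalso
      have : z = sig m 1 := a0
      exact hne (this.trans hz1)
  · exfalso
    have a1 := h2 1
    have a2 := h2 2
    rw [hz1] at a1
    rw [hz2] at a2
    have hcase : Q6 n 1 = 0 ∨ Q6 n 1 = 1 ∨ Q6 n 1 = 2 := Q6_cases n
    have hcase2 : Q6 n 1 = 0 → Q6 n 2 ≠ 0 := Q6_cases2 n
    rcases hcase with h3 | h3 | h3
    · have h4 : Q6 n 2 = 1 ∨ Q6 n 2 = 2 := by
        have := hcase2 h3
        revert this
        generalize Q6 n 2 = q
        revert q; decide
      rcases h4 with h4 | h4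
      · rw [h4, hz1, one_mul] at a2; exact hne a2.symm
      · rw [h4, hz2, one_mul] at a2; exact hne a2.symm
    · rw [h3, hz1, one_mul] at a1; exact hne a1.symm
    · rw [h3, hz2, one_mul] at a1; exact hne a1.symm

/-! ### Freeness -/

/-- A class of configurations: relations and generation. -/
def GG (f : Fin 10 → E) : Prop := Good f ∧ Subgroup.closure (Set.range f) = ⊤

omit [Group M] in
theorem closure_perm {f : Fin 10 → E} (h : Subgroup.closure (Set.range f) = ⊤) (n : Fin 6) :
    Subgroup.closure (Set.range fun i => f (P6 n i)) = ⊤ := by
  have e : (Set.range fun i => f (P6 n i)) = Set.range f := by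
    ext x
    constructor
    · rintro ⟨i, rfl⟩; exact ⟨_, rfl⟩
    · rintro ⟨i, rfl⟩
      obtain ⟨j, rfl⟩ := P6_surj n i
      exact ⟨j, rfl⟩
  rw [e, h]

theorem GG.P6 {f : Fin 10 → E} (h : GG f) (n : Fin 6) : GG (fun i => f (P6 n i)) :=
  ⟨good_P6 h.1 n, closure_perm h.2 n⟩

theorem GG.equiv {f : Fin 10 → E} (h : GG f) (φ : E ≃* E) : GG (fun i => φ (f i)) := by
  refine ⟨h.1.map φ.toMonoidHom, ?_⟩
  have e : (Set.range fun i => φ (f i)) = φ.toMonoidHom '' Set.range f := by
    rw [← Set.range_comp]; rfl
  rw [e, ← MonoidHom.map_closure, h.2, ← MonoidHom.range_eq_map, MonoidHom.range_eq_top]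
  exact φ.surjective

/-- Two generating configurations are equivalent under an automorphism. -/
theorem exists_auto [Finite HB] {f f' : Fin 10 → E} (h : GG f) (h' : GG f') (hcard : Nat.card HB ≤ Nat.card E) :
    ∃ α : E ≃* E, ∀ i, α (f i) = f' i := by
  refine ⟨(MulEquiv.ofBijective _ (toHom_bijective h.1 h.2 hcard)).symm.trans
    (MulEquiv.ofBijective _ (toHom_bijective h'.1 h'.2 hcard)), fun i => ?_⟩
  rw [MulEquiv.trans_apply]
  have : (MulEquiv.ofBijective _ (toHom_bijective h.1 h.2 hcard)).symm (f i) = s0 i := by
    rw [MulEquiv.symm_apply_eq]
    exact (toHom_s0 h.1 i).symm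
  rw [this]
  exact toHom_s0 h'.1 i

/-- Index arithmetic. -/
theorem P6_conj4 : ∀ n : Fin 6, n = 1 ∨ n = 2 ∨ n = 3 → ∀ i, P6 n (P6 4 (P6 n (P6 5 i))) = P6 4 i := by decide +kernel

theorem P6_45 : ∀ i, P6 4 (P6 5 i) = i := by decide
theorem P6_rot : ∀ (p : Fin 10 → Fin 10), (p = id ∨ p = pAB ∨ p = pAC) → ∀ n : Fin 6, n = 4 ∨ n = 5 →
    ∃ n' : Fin 6, (n' = 4 ∨ n' = 5) ∧ ∀ i, P6 n (p i) = p (P6 n' i) := by
  rintro p (rfl | rfl | rfl) n hn
  · exact ⟨n, hn, fun i => rfl⟩
  · revert n; decide +kernel
  · revert n; decide +kernel

/-- Rotations of the arms are not inner. -/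
theorem rot_not_inner [Finite HB] (hcov : IsNonsplitDoubleCover M E) (hcard : Nat.card HB ≤ Nat.card E)
    {f : Fin 10 → E} (hf : GG f) {n : Fin 6} (hn : n = 4 ∨ n = 5) (x : E) : ¬ ∀ i, x * f i * x⁻¹ = f (P6 n i) := by
  intro hx
  obtain ⟨π, z, h⟩ := exists_ext hcov
  obtain ⟨p, hp, m, hm, hz, -⟩ := exists_gens hcov hf.1 hf.2 hcard h
  obtain ⟨n', hn', hnn⟩ := P6_rot p hp n hn
  obtain ⟨y, rfl⟩ := h.surj x
  have h1 := zero_or_three h hz (MulAut.conj y).toMonoidHom (n := n') (fun i => by
    show π (y * m i * y⁻¹) = _
    rw [map_mul, map_mul, map_inv, hm, hx, hnn, hm]) (by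
    show y * z * y⁻¹ = z
    rw [h.comm, mul_assoc, mul_inv_cancel, mul_one])
  rcases h1.1 with h2 | h2 <;> rcases hn' with h3 | h3 <;> rw [h2] at h3 <;> exact absurd h3 (by decide)

/-- **Non-trivial permutations of the arms are not inner.** -/
theorem not_inner [Finite HB] (hcov : IsNonsplitDoubleCover M E) (hcard : Nat.card HB ≤ Nat.card E)
    {f : Fin 10 → E} (hf : GG f) {n : Fin 6} (hn : n ≠ 0) (x : E) : ¬ ∀ i, x * f i * x⁻¹ = f (P6 n i) := by
  intro hx
  have hcase : (n = 1 ∨ n = 2 ∨ n = 3) ∨ (n = 4 ∨ n = 5) := by
    revert hn; clear hx; revert n; decide
  rcases hcase with h123 | h45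
  · obtain ⟨α, hα⟩ := exists_auto hf (hf.P6 4) hcard
    -- `α x` permutes the nodes by the conjugate transposition
    have h1 : ∀ i, α x * f (P6 4 i) * (α x)⁻¹ = f (P6 4 (P6 n i)) := by
      intro i
      have := congrArg α (hx i)
      rw [map_mul, map_mul, map_inv, hα, hα] at this
      exact this
    have h2 : ∀ i, α x * f i * (α x)⁻¹ = f (P6 4 (P6 n (P6 5 i))) := by
      intro i
      have := h1 (P6 5 i)
      rwa [P6_45] at this
    refine rot_not_inner hcov hcard hf (Or.inl rfl) (x * α x) fun i => ?_
    calc x * α x * f i * (x * α x)⁻¹ = x * (α x * f i * (α x)⁻¹) * x⁻¹ := by group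
      _ = f (P6 n (P6 4 (P6 n (P6 5 i)))) := by rw [h2, hx]
      _ = f (P6 4 i) := by rw [P6_conj4 n h123]
  · exact rot_not_inner hcov hcard hf h45 x hx

end Ext

end Cfsg.Agent.BabyU.OutFree
end

-- part: BabyU/Out
section
set_option linter.all false
open scoped Cfsg.Agent.FastGrp

/-!
# Automorphisms of `²E₆(2)` and of its double cover

`R` is a class of involutions of `E` with the properties `OutCount.Hyp` (opposite pairs conjugate, centralisers of
opposite pairs are `PSU 6 F 2`, elements of `R` going to transvections); `E` is generated by a configuration of type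
`Y₃₃₃` of elements of `R` and has a non-split double cover.  Then any two such configurations are conjugate up to a
permutation of the three arms (`Main.arms`), every automorphism of `E` preserving `R` is the product of an inner one
and an arm permutation (`Main.auto`), and every element outside of `M` of a group `C` with `M` normal,
`C_C(M) ≤ M`, can be corrected by an element of `M` so as to exchange the last two arms (`Main.outer`).
-/

set_option autoImplicit false

namespace Cfsg.Agent.BabyU.Out

open Cfsg Cfsg.Agent.TwoESix Cfsg.Agent.TwoESix.Cox10 Cfsg.Agent.TwoESix.Lift Cfsg.Agent.TwoESix.Cover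
open Cfsg.Agent.R01.Lifts Cfsg.Agent.BabyU.OutCount Cfsg.Agent.BabyU.OutFree

variable {F : Type*} [Field F] [Fintype F] {hF : Fintype.card F = 2 ^ 2}
variable {E : Type*} [Group E]

/-! ### Adjacent nodes do not commute -/

theorem sq_of_good {f : Fin 10 → E} (h : Good f) (i : Fin 10) : f i * f i = 1 := sq h.lift i

theorem three_of_good {f : Fin 10 → E} (h : Good f) {i j : Fin 10} (hij : adj i j = true) : (f i * f j) ^ 3 = 1 := by
  have := h.lift i j
  rwa [M10_apply, lab_adj i j hij] at this

theorem eq_of_commute {a b : E} (ha : a * a = 1) (hb : b * b = 1) (h3 : (a * b) ^ 3 = 1) (hc : Commute a b) :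
    a = b := by
  have h2 : (a * b) ^ 2 = 1 := by rw [hc.mul_pow, pow_two, pow_two, ha, hb, mul_one]
  have h1 : a * b = 1 := by
    calc a * b = (a * b) ^ 3 * ((a * b) ^ 2)⁻¹ := by group
      _ = 1 := by rw [h3, h2]; simp
  calc a = a * (b * b) := by rw [hb, mul_one]
    _ = (a * b) * b := by rw [mul_assoc]
    _ = b := by rw [h1, one_mul]

theorem commute_of_nonadj {f : Fin 10 → E} (h : Good f) {i j : Fin 10} (hij : adj i j = false) :
    Commute (f i) (f j) := by
  by_cases he : i = j
  · subst he; exact Commute.refl _
  · refine comm_of h.lift ?_
    rw [lab, if_neg he, hij]; rfl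

theorem tree : ∀ i j k : Fin 10, adj i j = true → adj j k = true → k = i ∨ adj k i = false := by decide

/-- In a non-commutative group generated by a configuration adjacent nodes do not commute. -/
theorem nadj_of_gg {f : Fin 10 → E} (hf : GG f) (hE : ∃ a b : E, ¬ Commute a b) {i j : Fin 10}
    (hij : adj i j = true) : ¬ Commute (f i) (f j) := by
  intro hc
  have hall : ∀ k, (∃ l, adj l k = true ∧ f l = f k) := by
    -- the property spreads
    have sp : ∀ k k', adj k k' = true → (∃ l, adj l k = true ∧ f l = f k) → ∃ l, adj l k' = true ∧ f l = f k' := by
      rintro k k' hk ⟨l, hl, he⟩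
      refine ⟨k, hk, ?_⟩
      rcases tree l k k' hl hk with h | h
      · rw [h, he]
      · have h1 : Commute (f k') (f k) := by rw [← he]; exact commute_of_nonadj hf.1 h
        exact eq_of_commute (sq_of_good hf.1 k) (sq_of_good hf.1 k') (three_of_good hf.1 hk) h1.symm
    have h3 : ∃ l, adj l 3 = true ∧ f l = f 3 := by
      have hPj : ∃ l, adj l j = true ∧ f l = f j :=
        ⟨i, hij, eq_of_commute (sq_of_good hf.1 i) (sq_of_good hf.1 j) (three_of_good hf.1 hij) hc⟩
      have := all_nodes (fun k => (∃ l, adj l k = true ∧ f l = f k) → ∃ l, adj l 3 = true ∧ f l = f 3)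
        (fun a b hab ha hb => ha (sp b a (adj_symm _ _ hab) hb)) (fun h => h) j
      exact this hPj
    exact all_nodes (fun k => ∃ l, adj l k = true ∧ f l = f k) sp h3
  -- hence all nodes are equal
  have heq : ∀ k, f k = f 3 := by
    have hedge : ∀ a b, adj a b = true → f a = f b := by
      intro a b hab
      obtain ⟨l, hl, he⟩ := hall a
      rcases tree l a b hl hab with h | h
      · rw [h, he]
      · have h1 : Commute (f b) (f a) := by rw [← he]; exact commute_of_nonadj hf.1 h
        exact eq_of_commute (sq_of_good hf.1 a) (sq_of_good hf.1 b) (three_of_good hf.1 hab) h1.symm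
    exact all_nodes (fun k => f k = f 3) (fun a b hab ha => by rw [← hedge a b hab, ha]) rfl
  obtain ⟨a, b, hab⟩ := hE
  apply hab
  have hmem : ∀ c : E, c ∈ Subgroup.closure ({f 3} : Set E) := by
    intro c
    have : Set.range f = {f 3} := by
      ext x
      constructor
      · rintro ⟨k, rfl⟩; exact heq k
      · rintro rfl; exact ⟨3, rfl⟩
    rw [← this, hf.2]; exact Subgroup.mem_top _
  have hz : ∀ c : E, ∃ n : ℤ, f 3 ^ n = c := fun c => Subgroup.mem_closure_singleton.1 (hmem c)
  obtain ⟨n, rfl⟩ := hz a
  obtain ⟨l, rfl⟩ := hz b
  exact (Commute.refl (f 3)).zpow_zpow n l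

theorem cfg_of_gg {R : Set E} {f : Fin 10 → E} (hf : GG f) (hR : ∀ i, f i ∈ R) (hE : ∃ a b : E, ¬ Commute a b) :
    Cfg R f where
  mem := hR
  nadj _ _ h := nadj_of_gg hf hE h
  three _ _ h := three_of_good hf.1 h
  non _ _ h := commute_of_nonadj hf.1 h

/-! ### The main theorem -/

theorem GG.cj {f : Fin 10 → E} (hf : GG f) (x : E) : GG (OutCount.cj x f) := hf.equiv (MulAut.conj x)

/-- **Two configurations are conjugate up to a permutation of the arms.** -/
theorem arms [Finite HB] {M : Type*} [Group M] (hcov : IsNonsplitDoubleCover M E)
    (hcard : Nat.card HB ≤ Nat.card E) (hE : ∃ a b : E, ¬ Commute a b) {R : Set E} (H : Hyp hF R)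
    {f f' : Fin 10 → E} (hf : GG f) (hfR : ∀ i, f i ∈ R) (hf' : GG f') (hfR' : ∀ i, f' i ∈ R) :
    ∃ (x : E) (k : Fin 6), ∀ i, x * f' i * x⁻¹ = f (P6 k i) := by
  let g : Fin 7 → Fin 10 → E := Fin.snoc (α := fun _ => Fin 10 → E) (fun k : Fin 6 => fun i => f (P6 k i)) f'
  have hg1 : ∀ k : Fin 6, g k.castSucc = fun i => f (P6 k i) := fun k => by simp [g]
  have hg2 : g (Fin.last 6) = f' := Fin.snoc_last _ _
  have hgg : ∀ k, GG (g k) := by
    intro k
    refine Fin.lastCases ?_ (fun k => ?_) k
    · rw [hg2]; exact hf'
    · rw [hg1]; exact hf.P6 k
  have hgR : ∀ k i, g k i ∈ R := by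
    intro k
    refine Fin.lastCases ?_ (fun k => ?_) k
    · rw [hg2]; exact hfR'
    · rw [hg1]; exact fun i => hfR _
  have hfree : ∀ k h, Cj (g k) h → ∀ x : E, ¬ ∀ i, x * h i * x⁻¹ = h (pAC i) := by
    rintro k _ ⟨y, rfl⟩ x hx
    exact not_inner hcov hcard (GG.cj (hgg k) y) (n := 2) (by decide) x hx
  -- two arm permutations of `f` are not conjugate
  have hperm : ∀ k l : Fin 6, k ≠ l → ¬ Cj (g k.castSucc) (g l.castSucc) := by
    rintro k l hkl ⟨x, hx⟩
    rw [hg1, hg1] at hx
    obtain ⟨n, hn, hnn⟩ := P6_div k l hkl
    refine not_inner hcov hcard hf hn x fun j => ?_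
    obtain ⟨i, rfl⟩ := P6_surj k j
    rw [← hnn]
    exact congrFun hx i
  obtain ⟨k, l, hkl, hc⟩ := seven H (f := g) (fun k => cfg_of_gg (hgg k) (hgR k) hE) hfree
  have fin : ∀ k : Fin 6, Cj (g (Fin.last 6)) (g k.castSucc) → ∃ (x : E) (k : Fin 6), ∀ i, x * f' i * x⁻¹ = f (P6 k i) := by
    rintro k ⟨x, hx⟩
    rw [hg1, hg2] at hx
    exact ⟨x, k, fun i => congrFun hx i⟩
  revert hkl hc
  refine Fin.lastCases ?_ (fun k => ?_) k
  · refine Fin.lastCases ?_ (fun l => ?_) l
    · intro h; exact absurd rfl h
    · intro _ hc; exact fin l hc
  · refine Fin.lastCases ?_ (fun l => ?_) l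
    · intro _ hc; exact fin k hc.symm
    · intro hkl hc
      exact absurd hc (hperm k l fun h => hkl (by rw [h]))

/-- **Every automorphism of `E` preserving `R` is inner up to a permutation of the arms.** -/
theorem auto [Finite HB] {M : Type*} [Group M] (hcov : IsNonsplitDoubleCover M E)
    (hcard : Nat.card HB ≤ Nat.card E) (hE : ∃ a b : E, ¬ Commute a b) {R : Set E} (H : Hyp hF R)
    {f : Fin 10 → E} (hf : GG f) (hfR : ∀ i, f i ∈ R) (φ : E ≃* E) (hφ : ∀ r ∈ R, φ r ∈ R) :
    ∃ (x : E) (k : Fin 6), ∀ i, x * φ (f i) * x⁻¹ = f (P6 k i) :=
  arms hcov hcard hE H hf hfR (hf.equiv φ) fun i => hφ _ (hfR i)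

/-- **The outer side of the double cover.** `M` is a normal subgroup of `C` containing its centraliser; every element of
`C` outside of `M` becomes the exchange of the last two arms after multiplication by an element of `M`. -/
theorem outer [Finite HB] {C : Type*} [Group C] {M : Subgroup C} [M.Normal]
    (hout : Subgroup.centralizer (M : Set C) ≤ M) (hcov : IsNonsplitDoubleCover M E)
    (hcard : Nat.card HB ≤ Nat.card E) (hE : ∃ a b : E, ¬ Commute a b) {R : Set E} (H : Hyp hF R)
    {π : M →* E} {z : M} (h : Ext π z) {m : Fin 10 → M} (hm : ZRels m z)
    (hgen : Subgroup.closure (Set.range m) = ⊤) (hmR : ∀ i, π (m i) ∈ R)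
    (hR : ∀ (g : C) (x : M), π x ∈ R → π (MulAut.conjNormal g x) ∈ R) {g : C} (hg : g ∉ M) :
    ∃ y : M, (∀ i, MulAut.conjNormal (g * y) (m i) = m (pBC i)) ∧
      ((g * y) * (g * y) = 1 ∨ (g * y) * (g * y) = (z : C)) := by
  -- the centre of `M`
  have hcenter : ∀ c : M, (∀ d : M, c * d = d * c) → c = 1 ∨ c = z := by
    intro c hc
    obtain ⟨h2, _, _⟩ := hcov
    have hzc : z ∈ Subgroup.center M := Subgroup.mem_center_iff.2 h.comm
    have hcc : c ∈ Subgroup.center M := Subgroup.mem_center_iff.2 fun d => (hc d).symm
    have hn : (Subgroup.center M : Set M).ncard = 2 := h2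
    by_contra hno
    push Not at hno
    have hsub : ({1, z, c} : Set M) ⊆ (Subgroup.center M : Set M) := by
      rintro x (rfl | rfl | rfl)
      · exact (Subgroup.center M).one_mem
      · exact hzc
      · exact hcc
    have hfin : (Subgroup.center M : Set M).Finite := Set.finite_of_ncard_ne_zero (by rw [hn]; norm_num)
    have h3 := Set.ncard_le_ncard hsub hfin
    rw [hn, Set.ncard_insert_of_notMem, Set.ncard_pair] at h3
    · omega
    · exact fun h => hno.2 h.symm
    · rintro (h1 | h1)
      · exact h.zne h1.symm
      · exact hno.1 (Set.mem_singleton_iff.1 h1).symm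
  -- every automorphism of `M` fixes `z`
  have hzfix : ∀ θ : M ≃* M, θ z = z := by
    intro θ
    have h1 : ∀ d : M, θ z * d = d * θ z := by
      intro d
      obtain ⟨d, rfl⟩ := θ.surjective d
      rw [← map_mul, ← map_mul, h.comm]
    rcases hcenter _ h1 with h2 | h2
    · exact absurd (θ.injective (h2.trans (map_one θ).symm)) h.zne
    · exact h2
  -- induced automorphism of `E`
  have hGG : GG (fun i => π (m i)) := by
    refine ⟨?_, ?_⟩
    · have := hm.map π
      rw [h.mapz] at this
      exact this.good
    · have e : (Set.range fun i => π (m i)) = π '' Set.range m := by rw [← Set.range_comp]; rfl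
      rw [e, ← MonoidHom.map_closure, hgen, ← MonoidHom.range_eq_map, MonoidHom.range_eq_top]
      exact h.surj
  have hGG' : GG (fun i => π (MulAut.conjNormal g (m i))) := by
    refine ⟨?_, ?_⟩
    · have := hm.map (π.comp (MulAut.conjNormal g : M ≃* M).toMonoidHom)
      have hz : (π.comp (MulAut.conjNormal g : M ≃* M).toMonoidHom) z = 1 := by
        show π (MulAut.conjNormal g z) = 1
        rw [hzfix, h.mapz]
      rw [hz] at this
      exact this.good
    · have e : (Set.range fun i => π (MulAut.conjNormal g (m i))) =
          (π.comp (MulAut.conjNormal g : M ≃* M).toMonoidHom) '' Set.range m := by rw [← Set.range_comp]; rfl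
      rw [e, ← MonoidHom.map_closure, hgen, ← MonoidHom.range_eq_map, MonoidHom.range_eq_top]
      exact h.surj.comp (MulAut.conjNormal g : M ≃* M).surjective
  obtain ⟨x, k, hx⟩ := arms hcov hcard hE H hGG hmR hGG' fun i => hR g _ (hmR i)
  obtain ⟨y, rfl⟩ := h.surj x
  -- the corrected element
  have hh : ∀ i, π (MulAut.conjNormal ((y : C) * g) (m i)) = π (m (P6 k i)) := by
    intro i
    have e : (MulAut.conjNormal ((y : C) * g) (m i) : M) = y * MulAut.conjNormal g (m i) * y⁻¹ := by
      apply Subtype.ext
      simp only [MulAut.conjNormal_apply, Subgroup.coe_mul, Subgroup.coe_inv]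
      group
    rw [e, map_mul, map_mul, map_inv, hx]
  have h03 := zero_or_three h hm (MulAut.conjNormal ((y : C) * g) : M ≃* M).toMonoidHom (n := k) hh (hzfix _)
  -- an element commuting with the nodes centralises `M`
  have hcent : ∀ c : C, (∀ i, MulAut.conjNormal c (m i) = m i) → c ∈ M ∧ ∀ d : M, c * d = d * c := by
    intro c hc
    have h1 : ∀ d : M, MulAut.conjNormal c d = d := by
      intro d
      have h2 : (MulAut.conjNormal c : M ≃* M).toMonoidHom = MonoidHom.id M := by
        refine MonoidHom.eq_of_eqOn_dense hgen ?_
        rintro _ ⟨i, rfl⟩
        exact hc i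
      exact DFunLike.congr_fun h2 d
    have h3 : ∀ d : M, c * d = d * c := by
      intro d
      have := congrArg Subtype.val (h1 d)
      rw [MulAut.conjNormal_apply] at this
      calc c * (d : C) = c * d * c⁻¹ * c := by group
        _ = d * c := by rw [this]
    refine ⟨hout ?_, h3⟩
    rw [Subgroup.mem_centralizer_iff]
    intro d hd
    exact (h3 ⟨d, hd⟩).symm
  obtain ⟨rfl | rfl, h4⟩ := h03
  · exfalso
    have h5 := (hcent ((y : C) * g) fun i => h4 i).1
    exact hg ((M.mul_mem_cancel_left y.2).1 h5)
  · obtain ⟨y', hy'⟩ : ∃ y' : M, (y' : C) = g⁻¹ * y * g := by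
      refine ⟨⟨g⁻¹ * y * g, ?_⟩, rfl⟩
      have := Subgroup.Normal.conj_mem (inferInstance : M.Normal) y y.2 g⁻¹
      simpa using this
    have e : g * (y' : C) = y * g := by rw [hy']; group
    refine ⟨y', ?_, ?_⟩
    · intro i
      rw [e]; exact h4 i
    · rw [e]
      have h5 : ∀ i, MulAut.conjNormal ((y : C) * g * (y * g)) (m i) = m i := by
        intro i
        rw [map_mul, MulAut.mul_apply]
        have h6 : ∀ i, (MulAut.conjNormal ((y : C) * g) (m i) : M) = m (P6 3 i) := fun i => h4 i
        rw [h6, h6]
        congr 1
        revert i; decide
      obtain ⟨h6, h7⟩ := hcent _ h5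
      have := hcenter ⟨_, h6⟩ fun d => Subtype.ext (h7 d)
      rcases this with h8 | h8
      · exact Or.inl (congrArg Subtype.val h8)
      · exact Or.inr (congrArg Subtype.val h8)

end Cfsg.Agent.BabyU.Out

private theorem dce_04328cd96cfb : _root_.True := by
  try have : _root_.True := by simp only [_root_.Cfsg.Agent.TwoESix.Cox10.lab.eq_1]
  exact _root_.True.intro
end

-- part: TwoESix/ExtModelC
section
prune_inst 0x34004d00742210000000001200000020200000020000000031a001000b0f10208040200072100910008000800800004000100000400000000a000000400000000000400003000104000000800082000000000000000000000000000000041000000000000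
set_option linter.all false
open scoped Cfsg.Agent.FastGrp

-- part: TwoESix/ExtCode
section
/-!
# Coded vectors and operators

`vc v` : the vector of `ZMod 2 ^ 78` coded by the number `v`; `op M` : the linear map whose value on the basis vector
`j` is row `j` of the packed matrix `M`.
-/

set_option autoImplicit false

namespace Cfsg.Agent.TwoESix.ExtCode

open Cfsg.Agent.Lib Cfsg.Agent.Lib.F2Mat

/-- the space -/
structure V : Type where
  /-- the coordinates -/
  co : Fin 78 → ZMod 2

/-- the coordinates -/
def eqV : V ≃ (Fin 78 → ZMod 2) where
  toFun := V.co
  invFun := V.mk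
  left_inv _ := rfl
  right_inv _ := rfl

instance instACG : AddCommGroup V := eqV.addCommGroup
instance instMod : Module (ZMod 2) V := eqV.module (ZMod 2)
instance instFin : Finite V := Finite.of_equiv _ eqV.symm

/-- the coordinates of a vector -/
def co (x : V) : Fin 78 → ZMod 2 := x.co

/-- a vector with given coordinates -/
def mk (x : Fin 78 → ZMod 2) : V := ⟨x⟩

theorem co_inj {x y : V} (h : co x = co y) : x = y := by
  cases x
  cases y
  exact congrArg V.mk h
theorem co_add (x y : V) : co (x + y) = co x + co y := rfl
theorem co_smul (c : ZMod 2) (x : V) : co (c • x) = c • co x := rfl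
theorem co_zero : co 0 = 0 := rfl
theorem co_mk (x : Fin 78 → ZMod 2) : co (mk x) = x := rfl
/-- coordinates as a linear equivalence -/
def coL : V ≃ₗ[ZMod 2] (Fin 78 → ZMod 2) where
  toFun := co
  map_add' := co_add
  map_smul' := co_smul
  invFun := mk
  left_inv _ := rfl
  right_inv _ := rfl

theorem coL_apply (x : V) : coL x = co x := rfl
theorem co_sum {ι : Type*} (s : Finset ι) (f : ι → V) : co (∑ i ∈ s, f i) = ∑ i ∈ s, co (f i) := by
  rw [← coL_apply, map_sum]
  rfl

/-- the coded vector -/
def vc (v : ℕ) : V := mk (toVec 78 v)

/-- the coded operator -/
def op (M : ℕ) : V →ₗ[ZMod 2] V where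
  toFun x := mk (Matrix.vecMul (co x) (toMat 78 M))
  map_add' x y := co_inj (by rw [co_mk, co_add, co_add, co_mk, co_mk, Matrix.add_vecMul])
  map_smul' c x := co_inj (by rw [co_mk, co_smul, co_smul, co_mk, Matrix.smul_vecMul]; rfl)

theorem op_apply (M : ℕ) (x : V) : co (op M x) = Matrix.vecMul (co x) (toMat 78 M) := rfl

theorem vc_apply (v : ℕ) (i : Fin 78) : co (vc v) i = bz (v.testBit i) := rfl

theorem vc_xor (a b : ℕ) : vc (a ^^^ b) = vc a + vc b := by
  apply co_inj
  funext i
  rw [co_add, Pi.add_apply, vc_apply, vc_apply, vc_apply, Nat.testBit_xor, bz_xor]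

theorem vc_zero : vc 0 = 0 := by
  apply co_inj
  funext i
  rw [vc_apply, Nat.zero_testBit]
  rfl

theorem toMat_xor (a b : ℕ) : toMat 78 (a ^^^ b) = toMat 78 a + toMat 78 b := by
  ext i j
  rw [Matrix.add_apply, toMat_apply, toMat_apply, toMat_apply, Nat.testBit_xor, bz_xor]

theorem op_xor (a b : ℕ) (x : V) : op (a ^^^ b) x = op a x + op b x := by
  apply co_inj
  rw [co_add, op_apply, op_apply, op_apply, toMat_xor, Matrix.vecMul_add]

theorem op_zero (x : V) : op 0 x = 0 := by
  have h : toMat 78 0 = 0 := by
    ext i j
    rw [toMat_apply, Nat.zero_testBit]
    rfl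
  apply co_inj
  rw [op_apply, h, Matrix.vecMul_zero, co_zero]

theorem op_one (x : V) : op (one 78) x = x := by
  apply co_inj
  rw [op_apply, toMat_one, Matrix.vecMul_one]

theorem op_mul (M N : ℕ) (x : V) : op (mul 78 M N) x = op N (op M x) := by
  apply co_inj
  rw [op_apply, toMat_mul, ← Matrix.vecMul_vecMul, op_apply, op_apply]

theorem op_vc (M v : ℕ) : op M (vc v) = vc (vmul 78 v M) := by
  apply co_inj
  rw [op_apply]
  exact (toVec_vmul 78 v M).symm

/-- row `j` -/
def row (M j : ℕ) : ℕ := Nat.mod (Nat.shiftRight M (Nat.mul 78 j)) (Nat.pow 2 78)

theorem row_eq (M j : ℕ) : row M j = (M >>> (78 * j)) % 2 ^ 78 := rfl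

theorem vc_row (M : ℕ) (j : Fin 78) : co (vc (row M j)) = fun i => toMat 78 M j i := by
  funext i
  rw [vc_apply, row_eq, Nat.testBit_mod_two_pow, Nat.testBit_shiftRight, toMat_apply]
  have := i.2
  simp [this]

/-- basis vectors -/
def e (j : Fin 78) : V := mk (Pi.single j 1)

theorem co_e (j : Fin 78) : co (e j) = Pi.single j 1 := rfl

theorem op_e (M : ℕ) (j : Fin 78) : op M (e j) = vc (row M j) := by
  apply co_inj
  rw [vc_row, op_apply, co_e, Matrix.single_one_vecMul]
  rfl

/-- a vector as a sum of basis vectors -/
theorem eq_sum (x : V) : x = ∑ j, co x j • e j := by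
  apply co_inj
  funext i
  rw [co_sum, Finset.sum_apply]
  simp only [co_smul, co_e, Pi.smul_apply, Pi.single_apply, smul_eq_mul, mul_ite, mul_one, mul_zero]
  rw [Finset.sum_ite_eq]
  simp

/-- two linear maps on `V` agreeing on the basis are equal -/
theorem ext_e {W : Type*} [AddCommMonoid W] [Module (ZMod 2) W] {f g : V →ₗ[ZMod 2] W} (h : ∀ j, f (e j) = g (e j)) :
    f = g := by
  refine LinearMap.ext fun x => ?_
  rw [eq_sum x, map_sum, map_sum]
  refine Finset.sum_congr rfl fun j _ => ?_
  rw [map_smul, map_smul, h]

theorem op_eq_of {M N : ℕ} (h : Nat.beq M N = true) (x : V) : op M x = op N x := by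
  rw [Nat.eq_of_beq_eq_true h]

/-! ### Bits -/

/-- bit number `p` (with kernel primitives only) -/
def tb (v p : ℕ) : Bool := Nat.beq (Nat.land (Nat.shiftRight v p) 1) 1

theorem tb_eq (v p : ℕ) : tb v p = v.testBit p := by
  have h1 : Nat.land (Nat.shiftRight v p) 1 = (v.testBit p).toNat := by
    have h0 : Nat.land (Nat.shiftRight v p) 1 = (v >>> p) &&& 1 := rfl
    rw [h0, Nat.and_one_is_mod, Nat.shiftRight_eq_div_pow, Nat.testBit_eq_decide_div_mod_eq]
    rcases Nat.mod_two_eq_zero_or_one (v / 2 ^ p) with h | h <;> rw [h] <;> rfl
  unfold tb
  rw [h1]
  cases v.testBit p <;> rfl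

/-! ### Linear combinations of operators -/

/-- XOR of the entries of `L` selected by the bits of `v`, starting with bit `p` -/
def sel (L : List ℕ) (v p : ℕ) : ℕ :=
  List.rec (motive := fun _ => ℕ → ℕ) (fun _ => 0)
    (fun a _ ih p => Nat.xor (cond (tb v p) a 0) (force (Nat.succ p) ih)) L p

theorem sel_nil (v p : ℕ) : sel [] v p = 0 := rfl
theorem sel_cons (a : ℕ) (L : List ℕ) (v p : ℕ) :
    sel (a :: L) v p = (cond (Nat.testBit v p) a 0) ^^^ sel L v (p + 1) := by
  show Nat.xor (cond (tb v p) a 0) (force (Nat.succ p) (fun p => sel L v p)) = _
  rw [force_eq, tb_eq]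
  rfl

theorem op_sel (L : List ℕ) (v p : ℕ) (x : V) :
    op (sel L v p) x = ∑ i ∈ Finset.range L.length, bz (v.testBit (p + i)) • op (L.getD i 0) x := by
  induction L generalizing p with
  | nil => rw [sel_nil, op_zero]; simp
  | cons a L ih =>
    rw [sel_cons, op_xor, ih, List.length_cons, Finset.sum_range_succ', add_comm]
    have h1 : op (cond (v.testBit p) a 0) x = bz (v.testBit (p + 0)) • op ((a :: L).getD 0 0) x := by
      rw [List.getD_cons_zero, add_zero]
      cases v.testBit p
      · rw [cond_false, op_zero, bz_false, zero_smul]
      · rw [cond_true, bz_true, one_smul]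
    have h2 : ∀ i, bz (v.testBit (p + 1 + i)) • op (L.getD i 0) x =
        bz (v.testBit (p + (i + 1))) • op ((a :: L).getD (i + 1) 0) x := by
      intro i
      rw [List.getD_cons_succ, show p + 1 + i = p + (i + 1) by ring]
    rw [h1]
    simp only [h2]

theorem op_sel' {L : List ℕ} (hL : L.length = 78) (v : ℕ) (x : V) :
    op (sel L v 0) x = ∑ i : Fin 78, co (vc v) i • op (L.getD i 0) x := by
  rw [op_sel, hL, Finset.sum_range]
  refine Finset.sum_congr rfl fun i _ => ?_
  rw [vc_apply, zero_add]

/-- a test for all entries of a list, with their indices -/
def allI (t : ℕ → ℕ → Bool) (L : List ℕ) (p : ℕ) : Bool :=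
  List.rec (motive := fun _ => ℕ → Bool) (fun _ => true)
    (fun a _ ih p => and (t p a) (force (Nat.succ p) ih)) L p

theorem allI_cons (t : ℕ → ℕ → Bool) (a : ℕ) (L : List ℕ) (p : ℕ) :
    allI t (a :: L) p = (t p a && allI t L (p + 1)) := by
  show and (t p a) (force (Nat.succ p) (fun p => allI t L p)) = _
  rw [force_eq]

theorem allI_sound {t : ℕ → ℕ → Bool} {L : List ℕ} {p : ℕ} (h : allI t L p = true) :
    ∀ i < L.length, t (p + i) (L.getD i 0) = true := by
  induction L generalizing p with
  | nil => intro i hi; exact absurd hi (Nat.not_lt_zero _)
  | cons a L ih =>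
    rw [allI_cons, Bool.and_eq_true] at h
    intro i hi
    rcases i with _ | i
    · rw [List.getD_cons_zero, add_zero]
      exact h.1
    · rw [List.getD_cons_succ, show p + (i + 1) = p + 1 + i by ring]
      exact ih h.2 i (by simpa using hi)

/-- the first `n` numbers satisfy the test -/
def allN (t : ℕ → Bool) (n : ℕ) : Bool := Nat.rec true (fun i ih => and ih (t i)) n

theorem allN_succ (t : ℕ → Bool) (n : ℕ) : allN t (n + 1) = (allN t n && t n) := rfl

theorem allN_sound {t : ℕ → Bool} {n : ℕ} (h : allN t n = true) : ∀ i < n, t i = true := by
  induction n with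
  | zero => intro i hi; exact absurd hi (Nat.not_lt_zero _)
  | succ n ih =>
    rw [allN_succ, Bool.and_eq_true] at h
    intro i hi
    rcases Nat.lt_succ_iff_lt_or_eq.1 hi with h1 | rfl
    · exact ih h.1 i h1
    · exact h.2

/-! ### Dot products -/

/-- dot product of codes -/
def dotN (a b : ℕ) (n : ℕ) : Bool := Nat.rec false (fun i ih => xor ih (and (tb a i) (tb b i))) n

theorem dotN_succ (a b n : ℕ) : dotN a b (n + 1) = xor (dotN a b n) (a.testBit n && b.testBit n) := by
  rw [← tb_eq, ← tb_eq]
  rfl

/-- dot product of codes -/
def dot (a b : ℕ) : Bool := dotN a b 78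

theorem bz_dotN (a b n : ℕ) : bz (dotN a b n) = ∑ i ∈ Finset.range n, bz (a.testBit i) * bz (b.testBit i) := by
  induction n with
  | zero => simp [dotN, bz]
  | succ n ih => rw [dotN_succ, bz_xor, ih, bz_and, Finset.sum_range_succ]

theorem bz_dot (a b : ℕ) : bz (dot a b) = co (vc a) ⬝ᵥ co (vc b) := by
  rw [dot, bz_dotN, Finset.sum_range]
  rfl

/-! ### Rank one operators -/

/-- the code of `x ↦ (φ ⬝ x) v` -/
def outN (φ v : ℕ) (n : ℕ) : ℕ :=
  Nat.rec 0 (fun i ih => Nat.xor ih (cond (tb φ i) (Nat.shiftLeft v (Nat.mul 78 i)) 0)) n

theorem outN_succ (φ v n : ℕ) : outN φ v (n + 1) = outN φ v n ^^^ cond (φ.testBit n) (v <<< (78 * n)) 0 := by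
  rw [← tb_eq]
  rfl

/-- the code of `x ↦ (φ ⬝ x) v` -/
def out (φ v : ℕ) : ℕ := outN φ v 78

theorem toMat_shl {v : ℕ} (hv : v < 2 ^ 78) {n : ℕ} (i j : Fin 78) :
    toMat 78 (v <<< (78 * n)) i j = if (i : ℕ) = n then co (vc v) j else 0 := by
  rw [toMat_apply, Nat.testBit_shiftLeft]
  have hj := j.2
  rcases Nat.lt_trichotomy (i : ℕ) n with h | h | h
  · rw [if_neg (by omega)]
    have h1 : ¬ (78 * (i : ℕ) + j ≥ 78 * n) := by
      have : 78 * ((i : ℕ) + 1) ≤ 78 * n := Nat.mul_le_mul_left _ h
      omega
    simp [h1, bz]
  · rw [if_pos h, vc_apply]
    have h1 : 78 * (i : ℕ) + j ≥ 78 * n := by rw [h]; omega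
    have h2 : 78 * (i : ℕ) + j - 78 * n = j := by rw [h]; omega
    simp [h2, h]
  · rw [if_neg (by omega)]
    have h1 : 78 * (i : ℕ) + j - 78 * n ≥ 78 := by
      have : 78 * (n + 1) ≤ 78 * (i : ℕ) := Nat.mul_le_mul_left _ h
      omega
    rw [Nat.testBit_lt_two_pow (lt_of_lt_of_le hv (Nat.pow_le_pow_right (by norm_num) h1)), Bool.and_false]
    rfl

theorem toMat_outN {v : ℕ} (hv : v < 2 ^ 78) (φ n : ℕ) (i j : Fin 78) :
    toMat 78 (outN φ v n) i j = if (i : ℕ) < n then co (vc φ) i * co (vc v) j else 0 := by
  induction n with
  | zero =>
    rw [if_neg (Nat.not_lt_zero _)]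
    have : outN φ v 0 = 0 := rfl
    rw [this, toMat_apply, Nat.zero_testBit]
    rfl
  | succ n ih =>
    rw [outN_succ, toMat_xor, Matrix.add_apply, ih]
    have h0 : toMat 78 (cond (φ.testBit n) (v <<< (78 * n)) 0) i j =
        bz (φ.testBit n) * (if (i : ℕ) = n then co (vc v) j else 0) := by
      cases φ.testBit n
      · rw [cond_false, toMat_apply, Nat.zero_testBit]; simp [bz]
      · rw [cond_true, toMat_shl hv]; simp [bz]
    rw [h0]
    rcases Nat.lt_trichotomy (i : ℕ) n with h | h | h
    · rw [if_pos h, if_neg (show ¬ (i : ℕ) = n by omega), if_pos (show (i : ℕ) < n + 1 by omega), mul_zero, add_zero]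
    · rw [if_neg (show ¬ (i : ℕ) < n by omega), if_pos h, if_pos (show (i : ℕ) < n + 1 by omega), zero_add, ← h,
        vc_apply φ]
    · rw [if_neg (show ¬ (i : ℕ) < n by omega), if_neg (show ¬ (i : ℕ) = n by omega),
        if_neg (show ¬ (i : ℕ) < n + 1 by omega), mul_zero, add_zero]

theorem op_out {v : ℕ} (hv : Nat.blt v (Nat.pow 2 78) = true) (φ : ℕ) (x : V) :
    op (out φ v) x = (co (vc φ) ⬝ᵥ co x) • vc v := by
  have hv' : v < 2 ^ 78 := by rwa [Nat.blt_eq] at hv
  apply co_inj
  funext j
  rw [op_apply, co_smul, Matrix.vecMul, dotProduct, Pi.smul_apply, dotProduct, smul_eq_mul, Finset.sum_mul]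
  refine Finset.sum_congr rfl fun i _ => ?_
  rw [out, toMat_outN hv', if_pos i.2]
  ring

/-! ### Symmetric and transposed matrices -/

/-- the diagonal bits of the blocks -/
def trL (M k m f o : ℕ) : ℕ := Nat.land (Nat.mul (Nat.land (Nat.shiftRight M k) m) f) o

/-- the diagonal bits of copies of a row -/
def trR (N k m o : ℕ) : ℕ := Nat.land (Nat.mul m (row N k)) o

/-- `N` is the transpose of `M` -/
def trOk (M N : ℕ) : Bool :=
  force M fun M => force N fun N => force (msk 78) fun m => force (Nat.sub (Nat.pow 2 78) 1) fun f =>
    force (one 78) fun o => allN (fun k => Nat.beq (trL M k m f o) (trR N k m o)) 78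

theorem row_lt (N k : ℕ) : row N k < 2 ^ 78 := Nat.mod_lt _ (Nat.two_pow_pos 78)

theorem trL_bit (M k : ℕ) {i : ℕ} (hi : i < 78) :
    (trL M k (msk 78) (2 ^ 78 - 1) (one 78)).testBit (78 * i + i) = M.testBit (78 * i + k) := by
  have h1 : trL M k (msk 78) (2 ^ 78 - 1) (one 78) =
      (Nat.land (Nat.shiftRight M k) (msk 78) * (2 ^ 78 - 1)) &&& one 78 := rfl
  have hb : ∀ i < 78, (M.testBit (78 * i + k)).toNat * (2 ^ 78 - 1) < 2 ^ 78 := fun i _ => by
    have := Bool.toNat_le (M.testBit (78 * i + k))
    calc (M.testBit (78 * i + k)).toNat * (2 ^ 78 - 1) ≤ 1 * (2 ^ 78 - 1) := Nat.mul_le_mul_right _ this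
      _ < 2 ^ 78 := by norm_num
  rw [h1, land_msk (by norm_num), blk_mul, Nat.testBit_and, testBit_blk 78 hb hi hi, testBit_one hi hi,
    decide_eq_true rfl, Bool.and_true]
  cases M.testBit (78 * i + k)
  · simp
  · rw [Bool.toNat_true, one_mul, Nat.testBit_two_pow_sub_one]
    exact decide_eq_true hi

theorem trR_bit (N k : ℕ) {i : ℕ} (hi : i < 78) :
    (trR N k (msk 78) (one 78)).testBit (78 * i + i) = N.testBit (78 * k + i) := by
  have h1 : trR N k (msk 78) (one 78) = (msk 78 * row N k) &&& one 78 := rfl
  have hb : ∀ i < 78, (fun _ => 1 * row N k) i < 2 ^ 78 := fun i _ => by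
    show 1 * row N k < 2 ^ 78
    rw [one_mul]
    exact row_lt N k
  rw [h1, msk_eq (by norm_num), blk_mul, Nat.testBit_and, testBit_blk 78 hb hi hi, testBit_one hi hi,
    decide_eq_true rfl, Bool.and_true, one_mul, row_eq, Nat.testBit_mod_two_pow, Nat.testBit_shiftRight]
  simp [hi]

theorem toMat_tr {M N : ℕ} (h : trOk M N = true) : toMat 78 N = (toMat 78 M).transpose := by
  unfold trOk at h
  rw [force_eq, force_eq, force_eq, force_eq, force_eq] at h
  ext k i
  have h1 := Nat.eq_of_beq_eq_true (allN_sound h k k.2)
  have h2 := trL_bit M k i.2
  have h3 := trR_bit N k i.2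
  rw [Matrix.transpose_apply, toMat_apply, toMat_apply]
  congr 1
  rw [← h2, ← h3]
  exact congrArg (fun x => Nat.testBit x (78 * (i : ℕ) + i)) h1.symm

theorem op_tr {M N : ℕ} (h : trOk M N = true) (x y : V) : co (op M x) ⬝ᵥ co y = co x ⬝ᵥ co (op N y) := by
  rw [op_apply, op_apply, toMat_tr h, Matrix.vecMul_transpose, Matrix.dotProduct_mulVec]

end Cfsg.Agent.TwoESix.ExtCode
end

-- part: TwoESix/ExtData
section
/-!
Data for the algebra structure on the 78-dimensional module of ²E₆(2) (generated by a program, checked in the importing
files).  `AD` : row `c` of the packed matrix number `i` is the product of the basis vectors `i` and `c`; `Jc` : the Gram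
matrix of the form, `JI` its inverse; `MT` : the transposes of the matrices `Data.Ms`; `tree`, `vs`, `VI` : a spanning set
of images of the basis vector number 20 under the group, and the inverse of its matrix.
-/

set_option autoImplicit false

namespace Cfsg.Agent.TwoESix.ExtData

/-- the product -/
def AD : List ℕ := [
  0x200000000000000000004000000000000000000080000000000000000001000000000000000000020000000000000000000400000000000000000008000000000000000000100000000000000000002000000000000000000040000000000000000000800000000000000000010000000000000000000000000000000000000000000000000000000000000000000000000000000000000000000000000000000000000000000000000000000000000000000000000000000000000000000000000000000002000000000000000000040000000000000000000800000000000000000010000000000000000000000000000000000000000000000000000000000000000000000000000000000000000000000000020000000000000000000400000000000000000008000000000000000000100000000000000000002000000000000000000040000000000000000000800000000000000000010000000000000000000000000000000000000000000000000000000000000000000000000000000000000000000000000000000000000000000000000000000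00000000000800000000000000000010000000000000000000000000000000000000000000000000000000000080000000000000000001000000000000000000000000000000000000000400000000000000000008000000000000000000000000000000000000002000000000000000000040000000000000000000800000000000000000010000000000000000000000000000000000000004000000000000000000080000000000000000000000000000000000000020000000000000000000400000000000000000000000000000000000000000000000000000000002000000000000000000040000000000000000000000000000000000000000000000000000000000000000000000000000000000000000000000000000000000000000000000,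
  0x80000000000000000001000000000000000000020000000000000000000400000000000000000000000000000000000000000000000000000000000000000000000000000000000000000000000000000000000000000000000000000000000000000200000000000000000004000000000000000000080000000000000000001000000000000000000020000000000000000000400000000000000000008000000000000000000100000000000000000000000000000000000000000000000000000000000800000000000000000010000000000000000000200000000000000000004000000000000000000000000000000000000000000000000000000000000000000000000000000000000000000000000008000000000000000000100000000000000000002000000000000000000040000000000000000000000000000000000000000000000000000000000000000000000000000000000000000000000000080000000000000000001000000000000000000020000000000000000000400000000000000000000000000000000000000000000000000000000000000000000000000000000000000000000000000000000000000000000010000000000000000000200000000000000000004000000000000000000080000000000000000000000000000000000000020000000000000000000400000000000000000008000000000000000000100000000000000000000000000000000000000000000000000000000000000000000000000000000000000000000000000200000000000000000004000000000000000000080000000000000000001000000000000000000000000000000000000000400000000000000000008000000000000000000100000000000000000002000000000000000000000000000000000000000000000000000000000000000000000000000000000000000000000000000000000000000000000000000000000000000000,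
  0x800000000000000000010000000000000000000200000000000000000004000000000000000000000000000000000000000000000000000000000000000000000000000000000000000000000000008000000000000000000100000000000000000002000000000000000000040000000000000000000000000000000000000000000000000000000000200000000000000000004000000000000000000080000000000000000001000000000000000000020000000000000000000400000000000000000008000000000000000000100000000000000000000000000000000000000000000000000000000000800000000000000000010000000000000000000200000000000000000004000000000000000000080000000000000000001000000000000000000000000000000000000000000000000000000000008000000000000000000100000000000000000002000000000000000000040000000000000000000000000000000000000000000000000000000000200000000000000000004000000000000000000000000000000000000000000000000000000000000000000000000000000000000000000000000008000000000000000000100000000000000000002000000000000000000040000000000000000000000000000000000000000000000000000000000000000000000000000000000000000000000000000000000000000000000000000000000000000000000000000000000000000000000000000000000000000000000000000000000000000000000000000000000000000000000000000000000000000000000000000000000000000000000000000000000000000000000000000000000000000000000000000000000000000000000000000000000000000000000000000000000000000000000000000000000000000000000000000000000000000000000000000000000000000000000000000000000000000000000000000000000000000000000000000000000000000000000000000000000000000000000000000000000000000,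
  0xc000000000000000000200000000000000000003000000000000000000080000000000000000000800000000000000000010000000000000000000200000000000000000004000000000000000000040000000000000000003000000000000000000010000000000000000000c000000000000000000080000000000000000001000000000000000000010000000000000000000c000000000000000000040000000000000000003000000000000000000010000000000000000000c00000000000000000004000000000000000000300000000000000000000000000000000000000000000000000000000000c000000000000000000200000000000000000003000000000000000000080000000000000000000c000000000000000000200000000000000000000000000000000000000000000000000000000000c0000000000000000002000000000000000000030000000000000000000800000000000000000008000000000000000000100000000000000000003000000000000000000080000000000000000000800000000000000000010000000000000000000200000000000000000004000000000000000000040000000000000000003000000000000000000010000000000000000000c0000000000000000000000000000000000000000000000000000000000000000000000000000004000000000000000000080000000000000000001000000000000000000020000000000000000000400000000000000000000000000000000000000000000000000000000002000000000000000000000000000000000000000000000000000000000010000000000000000000000000000000000000000000000000000000000080000000000000000001000000000000000000020000000000000000000400000000000000000008000000000000000000000000000000000000000000000000000000000000000000000000000000000000000000000000000000000000000000000000000000000000000000000000000000000000000000000000000000000,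
  0x200000000000000000004000000000000000000080000000000000000001000000000000000000020000000000000000000400000000000000000008000000000000000000100000000000000000000000000000000000000000000000000000000000800000000000000000010000000000000000000200000000000000000004000000000000000000000000000000000000000000000000000000000020000000000000000000400000000000000000000000000000000000000000000000000000000002000000000000000000040000000000000000000000000000000000000000000000000000000000000000000000000000000000000000000000000000000000000000000000000000000000000000020000000000000000000400000000000000000008000000000000000000100000000000000000002000000000000000000040000000000000000000800000000000000000010000000000000000000200000000000000000004000000000000000000080000000000000000001000000000000000000020000000000000000000400000000000000000008000000000000000000100000000000000000000000000000000000000000000000000000000000000000000000000000000000000000000000000000000000000000000000000000000000000000000000000000000000000000000000000000000000000000000000000000000000000000000000000000000000000000000000000000000000000000000000000000000000000000000000000000000000000000000000000000000000000000000000000000000000000000000000000000000000000000000000000000000000000000000000000000000000000000000000000000000000000000000000000000000000000000000000000000000000000000000000000000000000000000000000000000000000000000000000000000000000000000000000000000000000000000000000000000000000000000000000000000000,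
  0x80000000000000000001000000000000000000010000000000000000000c00000000000000000004000000000000000000300000000000000000003000000000000000000080000000000000000000c000000000000000000200000000000000000002000000000000000000040000000000000000000c00000000000000000020000000000000000000300000000000000000008000000000000000000080000000000000000001000000000000000000010000000000000000000c000000000000000000000000000000000000000000000000000000000010000000000000000000c000000000000000000000000000000000000000000000000000000000020000000000000000000400000000000000000008000000000000000000100000000000000000003000000000000000000080000000000000000000c0000000000000000002000000000000000000010000000000000000000c000000000000000000040000000000000000003000000000000000000010000000000000000000c00000000000000000004000000000000000000300000000000000000003000000000000000000080000000000000000000c000000000000000000200000000000000000002000000000000000000040000000000000000000000000000000000000000000000000000000000200000000000000000004000000000000000000000000000000000000000000000000000000000000000000000000000000400000000000000000008000000000000000000000000000000000000002000000000000000000040000000000000000000800000000000000000010000000000000000000000000000000000000004000000000000000000080000000000000000000000000000000000000000000000000000000000000000000000000000008000000000000000000100000000000000000000000000000000000000000000000000000000000000000000000000000000000000000000000000000000000000000000000000000000000000000000000000000000000000,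
  0x80000000000000000001000000000000000000000200000000000000000004000000000000000000080000000000000000001000000000000000000020000000000000000000400000000000000000008000000000000000000100000000000000000002000000000000000000040000000000000000000000000000000000000000000000000000000000000000000000000000000000000000000000000000000000000000000000000000000000000000000000000000000000000000000000000000000000000000000000000000000000000000000000000000000000000000000000000000000000000000000000000000000000000000000000000000000000000000000000000000000000000000000000000000000000000000000000000000000000000000000000000000000000000000000000000000000000000000000000000000000000000000000000000000000000000000000000000000000000000000000000000000000000000000000000000000000000000000000000000000000000000000000000000000000000000000000000000000000000000000000000000000000000000000000000000000000000000000000000000000000000000000000000000000000000000000000000000000000180000000000000008000000000000000000100000000000000000002000000000000000000040000000000000000000000000000000000000010000000000000000000200000000000000000004000000000000000000080000000000000000000000000000000000000000000000000000000000000000000000000000000000000000000000000000000000000000000000000000000000000000000000000000000000000000000000000000000000000000000000000000000000000000000000000000000000000000000000000000000000000000000000000000000000000000000000000000000000000000000000000000000000000000000000000000000000000000000000000000000000000000000000000000040,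
  0x200000000000000000004000000000000000000002000000000000000000040000000000000000000800000000000000000010000000000000000000000000000000000000000000000000000000000000000000000000000000000000000000000000000000000000000000000000000000000000000020000000000000000000400000000000000000008000000000000000000100000000000000000002000000000000000000040000000000000000000000000000000000000000000000000000000000000000000000000000000000000000000000000000000000000000000000000000000000000000000000000000000000000000000000000000000000000000000000000000000000000000000000000000000000000000000000000000000000000000000000000000000000000000000000000000000000000000000000000000000000000000000000000000000000000000000000000000000000000000000000000000000000000000000000000000000000000000000000000000000000000000000000000000000000000000000000000000000000000000000000000000000000000000000000000000000000000000000000000000000000000000000000000000000000000000000000000000004000000000000000000000007000000000000000800000000000000000010000000000000000000000000000000000000001000000000000000000020000000000000000000000000000000000000000000000000000000000000000000000000000008000000000000000000100000000000000000000000000000000000000000000000000000000001000000000000000000000000000000000000000000000000000000000000000000000000000000000000000000000000000000000000000000000000000000000000000000000000000000000000000000000000000000000000000000000000000000000000000000000000000000000000000000000000000000000000000000000000000000002000000000000000000080,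
  0x800000000000000000010000000000000000000008000000000000000000100000000000000000000000000000000000000000000000000000000000800000000000000000010000000000000000000000000000000000000000000000000000000000000000000000000000000000000000000000000080000000000000000001000000000000000000000000000000000000000000000000000000000000000000000000000000000000000000000000008000000000000000000100000000000000000002000000000000000000040000000000000000000000000000000000000000000000000000000000000000000000000000000000000000000000000000000000000000000000000000000000000000000000000000000000000000000000000000000000000000000000000000000000000000000000000000000000000000000000000000000000000000000000000000000000000000000000000000000000000000000000000000000000000000000000000000000000000000000000000000000000000000000000000000000000000000000000000000000000000000000000000000000000000000000000000000000000000000000000000000000000000000000000000000000000000000000000008000000000000000000040000000000000000000000140000000000000000000000000000000000400000000000000000002000000000000000000000000000000000000000800000000000000000000000000000000000000000000000000000000010000000000000000000000000000000000000002000000000000000000000000000000000000000000000000000000000040000000000000000000000000000000000000000000000000000000000000000000000000000000000000000000000000000000000000000000000000000000000000000000000000000000000000000000000000000004000000000000000000000000000000000000000000000000000000000000000000000000000004000000000000000000000,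
  0x8000000000000000000100000000000000000000000000000000000000000000000000000000000020000000000000000000400000000000000000000000000000000000000000000000000000000002000000000000000000040000000000000000000000000000000000000000000000000000000000000000000000000000000000000000000000000200000000000000000004000000000000000000000000000000000000000000000000000000000000000000000000000000000000000000000000000000000000000000000000000000000000000020000000000000000000400000000000000000002000000000000000000040000000000000000000000000000000000000000000000000000000000000000000000000000000000000000000000000000000000000000000000000000000000000000000000000000000000000000000000000000000000000000000000000000000000000000000000000000000000000000000000000000000000000000000000000000000000000000000000000000000000000000000000000000000000000000000000000000000000000000000000000000000000000000000000000000000000000000000000000000000000000000000000000000000000000000010000000000000000000080000000000000000000000000000000000000000015000000000000000800000000000000000004000000000000000000000000000000000000000000000000000000000020000000000000000000000000000000000000000000000000000000000400000000000000000000000000000000000000080000000000000000000000000000000000000000000000000000000001000000000000000000000000000000000000000000000000000000000000000000000000000000000000000000000000000000000000000000000000000000000000000000000000000000000008000000000000000000000000000000000000008000000000000000000000000000000000000008000000000000000000000,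
  0x800000000000000000010000000000000000000000000000000000000000000000000000000000000000000000000000000000000000000000000000200000000000000000004000000000000000000080000000000000000001000000000000000000000000000000000000000000000000000000000000000000000000000000000000000000000000000000000000000000000000000000000000000000000000000000000000000000000000000000002000000000000000000040000000000000000000000000000000000000000000000000000000000800000000000000000010000000000000000000000000000000000000000000000000000000000020000000000000000000400000000000000000000000000000000000000000000000000000000000000000000000000000000000000000000000000000000000000000000000000000000000000000000000000000000000000000000000000000000000000000000000000000000000000000000000000000000000000000000000000000000000000000000000000000000000000000000000000000000000000000000000000000000000000000000000000000000000000000000000000000000000000000000000000000000000000000000000000200000000000000000000000000000000000000020000000000000000000400000000000000000000005c0000000000000008000000000000000000000000000000000000000000000000000000000000000000000000000000800000000000000000000000000000000000000000000000000000000008000000000000000000100000000000000000000000000000000000000000000000000000000000000000000000000000040000000000000000000000000000000000000000000000000000000000000000000000000000000000000000000000000000000000000000000000000000000000000000000000000000000000000000000000000000010000000000000000000000000000000000000010000000000000000000400,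
  0x2000000000000000000040000000000000000000000000000000000000000000000000000000000000000000000000000000000000000000000000000000000000000000000000000000000000000000000000000000000000000000000000000000000000000000000000000000000000000000000000020000000000000000000400000000000000000008000000000000000000100000000000000000000000000000000000000000000000000000000002000000000000000000040000000000000000000000000000000000000000000000000000000000800000000000000000010000000000000000000000000000000000000000000000000000000000000000000000000000000000000000000000000002000000000000000000040000000000000000000000000000000000000000000000000000000000000000000000000000000000000000000000000000000000000000000000000000000000000000000000000000000000000000000000000000000000000000000000000000000000000000000000000000000000000000000000000000000000000000000000000000000000000000000000000000000000000000000000000000000000000000000000000000000000000000000000000000000000000000000000000000000800000000000000000010000000000000000000200000000000000000004000000000000000000000016000000000000000000000000000000000000000000000000000000000000000000000000000000000000000000000000000000000000000000000000000000000000000000000000000000000000000000000000000010000000000000000000200000000000000000004000000000000000000080000000000000000000000000000000000000000000000000000000000000000000000000000000000000000000000000000000000000000000000000000000000000000000000000000000000000000000000000000020000000000000000000000000000000000000000000000000000000000800,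
  0x20000000000000000000400000000000000000002000000000000000000040000000000000000000000000000000000000000000000000000000000000000000000000000000000000000000000000200000000000000000004000000000000000000000000000000000000000000000000000000000000000000000000000000000000000000000000080000000000000000001000000000000000000000000000000000000000000000000000000000000000000000000000000000000000000000000000000000000000000000000000000000000000000000000000000000000000000000000000000000000000000000000000000000000000000000000000000000000000000000000000000000000000020000000000000000000400000000000000000008000000000000000000100000000000000000000000000000000000000000000000000000000000000000000000000000000000000000000000000000000000000000000000000000000000000000000000000000000000000000000000000000000000000000000000000000000000000000000000000000000000000000000000000000000000000000000000000000000000000000000000000000080000000000000000001000000000000000000000000000000000000000000000000000000000000000000000000000000000000000000000000000000440000000000000020000000000000000000400000000000000000000000000000000000000100000000000000000002000000000000000000000000000000000000000000000000000000000000000000000000000000000000000000000000000000000000000000000000000000000000000002000000000000000000040000000000000000000000000000000000000000000000000000000000000000000000000000000000000000000000000000000000000000000000000000000000000040000000000000000000000000000000000000040000000000000000000000,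
  0x200000000000000000004000000000000000000000000000000000000000000000000000000000002000000000000000000040000000000000000000000000000000000000000000000000000000000800000000000000000010000000000000000000000000000000000000000000000000000000000000000000000000000000000000000000000000000000000000000000000000000000000000000000000000000000000000000000000000000000080000000000000000001000000000000000000000000000000000000000000000000000000000000000000000000000000000000000000000000000000000000000000000000000000000000000000000000000000000000000000000000000000000080000000000000000001000000000000000000000000000000000000000000000000000000000008000000000000000000100000000000000000000000000000000000000000000000000000000000000000000000000000000000000000000000000000000000000000000000000000000000000000000000000000000000000000000000000000000000000000000000000000000000000000000000000000000000000000000000000000000000000100000000000000000000000000000000000000040000000000000000000000000000000000000000000000000000000000000000000000000000001000000000000000000000013000000000000000000000000000000000010000000000000000000200000000000000000000000000000000000000040000000000000000000000000000000000000000000000000000000000000000000000000000000000000000000000000000000000000000000004000000000000000000000000000000000000001000000000000000000000000000000000000000000000000000000000000000000000000000080000000000000000000000000000000000000080000000000000000000000000000000000000080000000000000000002000,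
  0x8000000000000000000100000000000000000000000000000000000000000000000000000000000200000000000000000004000000000000000000080000000000000000001000000000000000000000000000000000000000000000000000000000000000000000000000000000000000000000000000000000000000000000000000000000000000000000000000000000000000000000000000000000000000000000000000000000000000000000000000000000000000000000000000000000000000800000000000000000010000000000000000000000000000000000000000000000000000000000000000000000000000000000000000000000000000000000000000000000000000000000000000002000000000000000000040000000000000000000000000000000000000000000000000000000000200000000000000000004000000000000000000000000000000000000000000000000000000000000000000000000000000000000000000000000000000000000000000000000000000000000000000000000000000000000000000000000000000000000000000000000000000000000000000000002000000000000000000000000000000000000000000000000000000000010000000000000000000000000000000000000000000000000000000000020000000000000000000000000000000000000000000c0000000000000020000000000000000000000000000000000000008000000000000000000000000000000000000001000000000000000000000000000000000000000000000000000000000000000000000000000000000000000000000000008000000000000000000000000000000000000000000000000000000000040000000000000000000000000000000000000000000000000000000100000000000000000000000000000000000000000000000000000000000000000000000000000100000000000000000004000,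
  0x800000000000000000010000000000000000000200000000000000000004000000000000000000080000000000000000001000000000000000000000000000000000000000000000000000000000000000000000000000000000000000000000000000000000000000000000000000000000000000000000000000000000000000000000000000000000000000000000000000000000000000000000000000000000000000000000000000000000000000000000000000000000000000000000000000000080000000000000000001000000000000000000000000000000000000000000000000000000000000000000000000000000000000000000000000000000000000000000000000000000000000000000200000000000000000004000000000000000000080000000000000000001000000000000000000000000000000000000000000000000000000000000000000000000000000000000000000000000000000000000000000000000000000000000000000000000000000000000000000000000000000000000000000000000000000000000000000000000400000000000000000000000000000000000000000000000000000000000000000000000000000040000000000000000000000000000000000000000000000000000000000080000000000000000001000000000000000000000001000000000000000000000000000000000000000000000000000000100000000000000000002000000000000000000000000000000000000000000000000000000000000000000000000000000000000000000000000010000000000000000000000000000000000000000000000000000000000000000000000000000001000000000000000000000000000000000000000000000000000000000000000000000000000000000000000000000000000000000000000000200000000000000000000000,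
  0x8000000000000000000100000000000000000000000000000000000000000000000000000000000000000000000000000000000000000000000000000000000000000000000000000000000000000000000000000000000000000000000000000000002000000000000000000040000000000000000000000000000000000000000000000000000000000800000000000000000010000000000000000000000000000000000000000000000000000000000200000000000000000004000000000000000000000000000000000000000000000000000000000000000000000000000000000000000000000000000000000000000000000000000000000000000000000000000000000000000000000000000000000800000000000000000010000000000000000000000000000000000000000000000000000000000000000000000000000000000000000000000000000000000000000000000000000000000000000008000000000000000000100000000000000000000000000000000000000000000000000000000000000000000000000000000000000000000000000000000000000000000000000000000000000000000000000000000000000000000000000000000000000000000000000004000000000000000000080000000000000000000000000000000000000000000000000000000000000000000000000000008000000000000000000100000000000000000000000000000000000000000000000000000000000000480000000000000000000000000000000000000000000000000000000000000000000000000080000000000000000001000000000000000000000000000000000000000000000000000000000000000000000000000000100000000000000000002000000000000000000000000000000000000000000000000000000000000000000000000000400000000000000000000000000000000000000400000000000000000000000000000000000000000000000000000000010000,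
  0x20000000000000000000400000000000000000000000000000000000000000000000000000000000000000000000000000000000000000000000000000000000000000000000000000000000000000000000000000000000000000000000000000000020000000000000000000400000000000000000008000000000000000000100000000000000000000000000000000000000000000000000000000000000000000000000000000000000000000000000000000000000000000000000000000000000000200000000000000000004000000000000000000000000000000000000000000000000000000000000000000000000000000000000000000000000000000000000000000000000000000000000000002000000000000000000040000000000000000000000000000000000000000000000000000000000000000000000000000000000000000000000000000000000000000000000000000000000000000020000000000000000000400000000000000000000000000000000000000000000000000000000000000000000000000000000000000000000000000000000000000000000000000000000000000000000000000000000000008000000000000000000000000000000000000002000000000000000000000000000000000000000000000000000000000010000000000000000000000000000000000000004000000000000000000000000000000000000000000000000000000000000002000000000000000000000000000000000000000000000000000000100000000000000000000000000000000000000040000000000000000000000000000000000000000000000000000000000200000000000000000000000000000000000000080000000000000000000000000000000000000000000000000000000800000000000000000000000000000000000000000000000000000000000000000000000000000000000000000000000020000,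
  0x80000000000000000001000000000000000000000000000000000000000000000000000000000000000000000000000000000000000000000000000000000000000000000000000000000000000000000000000000000000000000000000000000000000000000000000000000000000000000000000200000000000000000004000000000000000000080000000000000000001000000000000000000000000000000000000000000000000000000000000000000000000000000000000000000000000000800000000000000000010000000000000000000000000000000000000000000000000000000000000000000000000000000000000000000000000000000000000000000000000000000000000000008000000000000000000100000000000000000000000000000000000000000000000000000000000000000000000000000000000000000000000000000000000000000000000000000000000000000080000000000000000001000000000000000000000000000000000000000000000000000000000000000000000000000000000000000000000000000000000000000000000000000000000000000000400000000000000000000000000000000000000100000000000000000000000000000000000000000000000000000000000800000000000000000000000000000000000000200000000000000000000000000000000000000000000000000000000000000080000000000000000000000000000000000000000000000000000008000000000000000000000000000000000000002000000000000000000000000000000000000000000000000000000000010000000000000000000000000000000000000004000000000000000000000000000000000001000000000000000000000000000000000000000000000000000000000000000000000000000000000000000000000000040000,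
  0x200000000000000000004000000000000000000000000000000000000000000000000000000000000000000000000000000000000000000000000000000000000000000000000000000000000000000000000000000000000000000000000000000000000000000000000000000000000000000000000000000000000000000000000000000000000000800000000000000000010000000000000000000080000000000000000001000000000000000000008000000000000000000100000000000000000000000000000000000000000000000000000000000000000000000000000000000000000000000000000000000000000000000000000000000000000000000000000000000000000000000000000000020000000000000000000400000000000000000000000000000000000000000000000000000000000000000000000000000000000000000000000000000000000000000000000000000000000000000200000000000000000004000000000000000000000000000000000000000000000000000000000000000000000000000000000000000000000000000000000000000000000010000000000000000000200000000000000000000000000000000000000000000000000000000000000000000000000000020000000000000000000400000000000000000000000000000000000000000000000000000000000000000000000000000000012000000000000000000000000000000000000000000000000000000200000000000000000004000000000000000000000000000000000000000000000000000000000000000000000000000000400000000000000000008000000000000000000000000000000000002000000000000000000000000000000000000002000000000000000000000000000000000000000000000000000000000080000,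
  0x20000000000000000000400000000000000000008000000000000000000100000000000000000002000000000000000000040000000000000000000000000000000000000000000000000000000000000000000000000000000000000000000000000000000000000000000000000000000000000000000000000000000000000000000000000000000000000000000000000000000000000000000000000200000000000000000004000000000000000000000000000000000000000000000000000000000000000000000000000000000000000000000000000000000000000000000000000000000000000000000000000000000000000000000000000000002000000000000000000040000000000000000000800000000000000000010000000000000000000000000000000000000000000000000000000000000000000000000000000000000000000000000000000000000000000000000000000000000000000000000000000000000020000000000000000000000000000000000000000000000000000000000000000000000000000002000000000000000000000000000000000000000000000000000000000000000000000000000000000000000000000000010000000000000000000200000000000000000000000000000000000000000000000000000000000000040000000000000020000000000000000000400000000000000000000000000000000000000000000000000000000000800000000000000000000000000000000000000000000000000000000000000000000000000000080000000000000000000000000000000000000000000000000000000000000000000000000000000000000000000004000000000000000000000000,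
  0x80000000000000000001000000000000000000000000000000000000000000000000000000000000000000000000000000000000000000000000008000000000000000000100000000000000000002000000000000000000040000000000000000000000000000000000000000000000000000000000000000000000000000000000000000000000000000000000000000000000000000000000000000000800000000000000000010000000000000000000000000000000000000000000000000000000000000000000000000000000000000000000000000000000000000000000000000000000000000000000000000000000000000000000000000000000008000000000000000000100000000000000000000000000000000000000000000000000000000000800000000000000000010000000000000000000000000000000000000000000000000000000000000000000000000000000000000000000000000000000000000000000000000000000000000000000800000000000000000000000000000000000000000000000000000000004000000000000000000000000000000000000000000000000000000000000000000000000000000000000000000000000020000000000000000000000000000000000000004000000000000000000000000000000000000001000000000000000000000003000000000000000000000000000000000010000000000000000000000000000000000000000000000000000000000020000000000000000000000000000000000000000000000000000000000100000000000000008000000000000000000000000000000000000000000000000000000000000000000000000000008000000000000000000200000,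
  0x2000000000000000000040000000000000000000000000000000000000000000000000000000000000000000000000000000000000000000000000000000000000000000000000000000000000000200000000000000000004000000000000000000020000000000000000000400000000000000000000000000000000000000000000000000000000000080000000000000000001000000000000000000000000000000000000000000000000000000000000000000000000000000000000000000000000000000000000000000000000000000000000000000000000000000000000000000000000000000000000000000000000000000000000000000000000200000000000000000004000000000000000000000000000000000000000000000000000000000020000000000000000000400000000000000000000000000000000000000000000000000000000000000000000000000000000000000000000000000000000000000000000000200000000000000000000000000000000000000080000000000000000000000000000000000000000000000000000000000000000000000000000000000000000000000000000000000000000000008000000000000000000000000000000000000001000000000000000000020000000000000000000000000000000000000000004c0000000000000020000000000000000000000000000000000000000000000000000000000000000000000000000000800000000000000000000000000000000000000200000000000000010000000000000000000000000000000000000010000000000000000000000000000000000000010000000000000000000400000,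
  0x200000000000000000004000000000000000000000000000000000000000000000000000000000080000000000000000001000000000000000000000000000000000000000000000000000000000002000000000000000000040000000000000000000080000000000000000001000000000000000000000000000000000000000000000000000000000000000000000000000000000000000000000000000000000000000000000000000000000000000000000000000000000000000000000000000000000000000000000000000000000000000000000000000000000000000000000000000000000000000020000000000000000000400000000000000000008000000000000000000100000000000000000000000000000000000000000000000000000000000000000000000000000000000000000000000000000000000000000000000000000000000000000000800000000000000000010000000000000000000000000000000000000000000000000000000000000000000000000000000000000000000000000000000000000000000000000000000000000000010000000000000000000200000000000000000000000000000000000000080000000000000000001000000000000000000000011000000000000000000000000000000000000000000000000000000000000000000000000000000000000000000000020000000000000000000400000000000000000000000000000000000000000000000000000020000000000000000000000000000000000000020000000000000000000000000,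
  0x800000000000000000010000000000000000000000000000000000000000000000000000000000000000000000000000000000000000000000000000000000000000000000000000000000000000000000000000000000000000000000000000000000000000000000000000000000000000000000000000000000000000000000000000000000000000000000000000000000000000000000000000000000000000000000000000000000000000000000000000000000000000000000000000000000000800000000000000000010000000000000000000200000000000000000004000000000000000000020000000000000000000400000000000000000002000000000000000000040000000000000000000000000000000000000000000000000000000000000000000000000000000000000000000000000000000000000000000000000000000000000000000000000000000000000000000000000000000080000000000000000001000000000000000000000000000000000000000000000000000000000000000000000000000000000000000000000000000000000000000000000000000000000000000000000400000000000000000008000000000000000000100000000000000000002000000000000000000000000000000000000000000000000000000000000000000000000000000000000000000000000000000000000000000000000000000000000000000000000000000000000000000000000000000000000580000000000000008000000000000000000100000000000000000002000000000000000000040000000000000000000000000000000000000000000000000000000000000000000000000040000000000000000000000000000000000000000000000000000000001000000,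
  0x800000000000000000010000000000000000000000000000000000000000000000000000000000000000000000000000000000000000000000000000000000000000000000000000000000000000000000000000000000000000000000000000000000000000000000000000000000000000000000000000000000000000000000000000000000000020000000000000000000400000000000000000008000000000000000000100000000000000000000000000000000000000000000000000000000000000000000000000000000000000000000000000020000000000000000000400000000000000000002000000000000000000040000000000000000000000000000000000000000000000000000000000000000000000000000000000000000000000000200000000000000000004000000000000000000000000000000000000000000000000000000000000000000000000000000000000000000000000000000000000000000000000000000000000000000000800000000000000000000000000000000000000000000000000000000000000000000000000000200000000000000000004000000000000000000000000000000000000000000000000000000000040000000000000000000000000000000000000000000000000000000000000000000000000000004000000000000000000000017000000000000000800000000000000000010000000000000000000000000000000000000001000000000000000000000000000000000000000000000000000000080000000000000000000000000000000000000080000000000000000002000000,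
  0x800000000000000000010000000000000000000000000000000000000000000000000000000000000000000000000000000000000000000000000000000000000000000000000000000000000000000000000000000000000000000000000000000080000000000000000001000000000000000000000000000000000000000000000000000000000008000000000000000000100000000000000000000000000000000000000000000000000000000000200000000000000000004000000000000000000000000000000000000000000000000000000000002000000000000000000040000000000000000000000000000000000000000000000000000000000800000000000000000010000000000000000000000000000000000000000000000000000000000000000000000000000000000000000000000000000000000000000000000000000000000000000000000000000000000000000020000000000000000000000000000000000000000000000000000000000400000000000000000000000000000000000000080000000000000000000000000000000000000000000000000000000001000000000000000000000000000000000000000000000000000000000008000000000000000000040000000000000000000000540000000000000000000000000000000000400000000000000000002000000000000000100000000000000000000000000000000000000100000000000000000000000000000000000000100000000000000000000000000,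
  0x800000000000000000010000000000000000000000000000000000000000000000000000000000000000000000000000000000000000000000000000000000000000000000000000000000000000200000000000000000004000000000000000000000000000000000000000000000000000000000020000000000000000000400000000000000000000000000000000000000000000000000000000000800000000000000000010000000000000000000000000000000000000000000000000000000000020000000000000000000400000000000000000008000000000000000000100000000000000000000000000000000000000000000000000000000000000000000000000000000000000000000000000000000000000000000000000000000000000000000000000000000000000000000000000000000000000800000000000000000000000000000000000000000000000000000000010000000000000000000000000000000000000002000000000000000000000000000000000000000000000000000000000040000000000000000000000000000000000000010000000000000000000080000000000000000000000000000000000000000005000000000000000800000000000000000004000000000000000200000000000000000000000000000000000000000000000000000000000000000000000000000200000000000000000000000000,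
  0x8000000000000000000100000000000000000000000000000000000000000000000000000000000000000000000000000000000000000000000000000000000000000000000000000000000000002000000000000000000040000000000000000000800000000000000000010000000000000000000000000000000000000000000000000000000000000000000000000000000000000000000000000008000000000000000000100000000000000000002000000000000000000040000000000000000000800000000000000000010000000000000000000000000000000000000000000000000000000000000000000000000000000000000000000000000000000000000000000000000000000000000000000000000000000000000000000000000000000000000000000000000000000000200000000000000000000000000000000000000000000000000000000002000000000000000000040000000000000000000000000000000000000000000000000000000000000000000000000000010000000000000000000200000000000000000000000000000000000000020000000000000000000400000000000000000000001c0000000000000008000000000000000000000000000000000000000000000000000000000000000000000000000000000000000000000400000000000000000010000000,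
  0x800000000000000000010000000000000000000000000000000000000000000000000000000000000000000000000000000000000000000000000000000000000000000000000000000000000000000000000000000000000000000000000000000200000000000000000004000000000000000000080000000000000000001000000000000000000020000000000000000000400000000000000000008000000000000000000100000000000000000002000000000000000000040000000000000000000000000000000000000000000000000000000000000000000000000000000000000000000000000000000000000000000000000000000000000000000000000000000000000000000000000000000000000000000000000000000000000000000000000000000000000000000000000000000000000000000000000000000000000000000000000000000000000400000000000000000008000000000000000000100000000000000000002000000000000000000000000000000000000000800000000000000000010000000000000000000200000000000000000004000000000000000000000006000000000000000000000000000000000000000000000000000000000000000000000000000000000000000000000000000000000000020000000,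
  0x940000000000000000010000000020000000000000000000400000000000000000008000000000000000000100000000000000000002000000000000000000040000000000000000000800000000000000000010000000000000000000000000020000000000000000000000000000000200000000000000000004000000000000000000080000000000000000001000000000000000000000000010000000000000000000000000000000020000000000000000000400000000000000000000000008000000000000000000000000000000008000000000000000000100000000000000000000000004000000000000000000000000000000000000002000000000000000000000000000000000000001000000000000000000000000000000000000000000000000000000000000000000000000000000000000000000000000000000000000000000000000000000000000000000000000000000000000000000000000000000000000000000000000000000000000000000000000000000000000000000000000000000000000000000000000000000000000000000000000000000000000000000000000000000000000000000000000000000000000000000000000000000000000001000000000000000000001000000000000000000004000000000000000000010000000000000000000100000000000000000001000000000000000000000000000000000000000000000000000000000000000000000000000000000000000000000000000000000000000000000000000000000000000000000000000000000000000000000000000000000000000000000000000000000000000000000000000000000000000000000000000000000000000000000000000000000000000000000000000000000000000000000000000000000000000000000000000000000000000000000000000000000000001000000000000000000000000000000000000003000000000000000000040000000000000000000000000000000000000000000000,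
  0x400000000000000000035000000010000000000000000000c0000000000000000000c000000000000000000200000000000000000003000000000000000000080000000000000000000400000000000000000030000000000000000000000000000000000000000000000800000000000300000000000000000008000000000000000000040000000000000000003000000000000000000000000000000000000000000000400000000000010000000000000000000c0000000000000000000000000000000000000000000020000000000000c000000000000000000200000000000000000000000000000000000000000000100000000000000000000000000000000000000080000000000000000000000000000000000000040000000000000000000000000000000000000000000000000000000000000000000000000000000000000000000000000000000000000000000000000000000000000000000000000000000000000000000000000000000000000000000000000000000000000000000000000000000000000000000000000000000000000000000000000000000000000000000000000000000000000000000000000000000000000000000000000000000000000000002000000000000000000002000000000000000000008000000000000000000020000000000000000000200000000000000000002000000000000000000000000000000000000000000000000000000000000000000000000000000000000000000000000000000000000000000000000000000000000000000000000000000000000000000000000000000000000000000000000000000000000000000000000000000000000000000000000000000000000000000000000000000000000000000000000000000000000000000000000000000000000000000000000000000000000000000000000000000000000002000000000000000000000000000000000000001000000000000000000080000000000000000000000000000000000000000000000,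
  0x3000000000000000000040000000000000000000000000000000b40000000000000000014000000c00000000000000000010000000000000000000300000000000000000004000000000000000000000000000400000000000000000000000000000000c000000000000000000100000000000000000c00000000000000000010000000000000000000000000000800000000000000000000000000000000c000000000000000000100000000000000000000000004000000000000000000000000000000003000000000000000000040000000000000000000000000000000000000000000000000000000000000000000000000000000000000000000000000000000000000000000000000000000000000000000000000000000000000000000000000000000300000000000000000004000000000000000000000000400000000000000000000000000000000000000200000000000000000000000000000000000000000000000000000000000000000000000000000100000000000000000000000000000000000000000000000000000000000000000000000000000000000000000000000000000000000000000000000000000000000000000000000000000000000000000000000000000000000400000000000000000000400000000000000000001000000000000000000000000000000000000000000000000000000000000000000000000000000000400000000000000000004000000000000000000000000000000000000000000000000000000000010000000000000000000000000000000000000000000000000000000000000000000000000000000000000000000000000000000000000000000000000000000000000000000000000000000000000000000000000000000000000000000000000000000000000000000000000000000000000000000000000000000000000000000000000000000000800000000000000000010000000000000000000c000000000000000000100000000000000000000000000000000000000000000000,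
  0x100000000000000000008000000000000000000000000000000050000000000000000003900000040000000000000000002000000000000000000010000000000000000000800000000000000000000000000000000000000000000001000000000000040000000000000000002000000000000000004000000000000000000200000000000000000000000000000000000000000000000200000000000004000000000000000000200000000000000000000000000000000000000000000100000000000001000000000000000000080000000000000000000000000000000000000000000000000000000000000000000000000000000000000000000000000000000000000000000000000000000000000000000000000000000000000000000000000000000100000000000000000008000000000000000000000000000000000000000000010000000000000000000000000000000000000008000000000000000000000000000000000000000000000000000000000000000000000000000004000000000000000000000000000000000000000000000000000000000000000000000000000000000000000000000000000000000000000000000000000000000000000000000000000000000000000800000000000000000000800000000000000000002000000000000000000000000000000000000000000000000000000000000000000000000000000000800000000000000000008000000000000000000000000000000000000000000000000000000000020000000000000000000000000000000000000000000000000000000000000000000000000000000000000000000000000000000000000000000000000000000000000000000000000000000000000000000000000000000000000000000000000000000000000000000000000000000000000000000000000000000000000000000000000000000000c000000000000000000200000000000000000004000000000000000000200000000000000000000000000000000000000000000000,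
  0x20000000000000000000400000000000000000008000000000000000000100000000000000000000000000000000740000000000000000004000000000000000800000000000000000000000000000200000000000000000004000000000000000000002000000000000000000040000000000000000000000000100000000000000000000000000000080000000000000000001000000000000000000000200000000000000000004000000000000000000000000000000000000000000000000000000000000000000000000000000000000000000000000000000040000000000000000000000000000000008000000000000000000100000000000000000000000000000000000000000000000000000000000000000000000000000000000000000000000000000008000000000000000000000000000000002000000000000000000040000000000000000000000000000000000000000000000000000000000000002000000000000000000000000000000000000000000000000000000000000000000000000000001000000000000000000000000000000000000000000000000000000000000000000000000000000000000000000000000000000000000000000000000000000000000000000010000000000000000000010000000000000000000000000000000000000000040000000000000000000000000000000000000000000000000000000000010000000000000000000000000000000000000000400000000000000000000000000000000000000000000000000000000001000000000000000000000000000000000000000000000000000000000000000000000000000000000000000000000000000000000000000000000000000000000000000000000000000000000000000000000000000000000000000000000000000000000000000000000000000000000000000000000000000000000000020000000000000000000400000000000000000010000000000000000000000000000000000000010000000000000000000000000000,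
  0x3000000000000000000080000000000000000000400000000000000000030000000000000000000000000000000010000000000000000001900000000000000000000000000000000002000000000010000000000000000000c00000000000000000000300000000000000000008000000000000000000000000000000000000000000000400000000004000000000000000000300000000000000000000030000000000000000000800000000000000000000000000000000000000000000000000000000000000000000000000000000000000000000000000000000000000000000000000100000000000000c0000000000000000002000000000000000000000000000000000000000000000000000000000000000000000000000000000000000000000000000000000000000000000000002000000000000010000000000000000000c0000000000000000000000000000000000000000000000000000000000000000000000000000000000080000000000000000000000000000000000000000000000000000000000000000000000000000040000000000000000000000000000000000000000000000000000000000000000000000000000000000000000000000000000000000000000000000020000000000000000000020000000000000000000000000000000000000000080000000000000000000000000000000000000000000000000000000000020000000000000000000000000000000000000000800000000000000000000000000000000000000000000000000000000002000000000000000000000000000000000000000000000000000000000000000000000000000000000000000000000000000000000000000000000000000000000000000000000000000000000000000000000000000000000000000000000000000000000000000000000000000000000000000000000000000000000000030000000000000000000800000000000000000020000000000000000000000000000000000000020000000000000000000000000000,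
  0x2000000000000000000040000000000000000000800000000000000000010000000000000000000000000000010000000000000000000000000000000000000000007c00000000000000000040000008000000000000000000100000000000000000000080000000000000000001000000000000000000000000002000000000000000000000000000000000000000000000000000000000000000000000000000000000000000000000000000000000000800000000000000000010000000000000000000002000000000000000000040000000000000000000000000800000000000000000000000000000000000000000000000000000000000000000000000080000000000000000001000000000000000000000000000000000000000000000000000000000000000100000000000000000000000000000000000000000000000000000000000000000000000020000000000000000000400000000000000000000000040000000000000000000000000000000000000000000000000000000000000000000000000000000000000000000000000000000000000000000010000000000000000000000000000000000000000000000000000000000000000000000000000000000000000000000000000400000000000000000000000000000000000000004000000000000000000000000000000000000000010000000000000000000000000000000000000000000000000000000000004000000000000000000000000000000000000000100000000000000000000000000000000000000000000000000000000000100000000000000000000000000000000000000000000000000000000000000000000000000000000000000000000000000000000000000000000000000000000000000000000000000000000000000000000000000000000000000000000000000000000000000000000000000000000000000000c0000000000000000001000000000000000000040000000000000000000000000000000000000040000000000000000001000000000,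
  0x30000000000000000000800000000000000000004000000000000000000300000000000000000000000000000000000000000000000004000000000000000000000010000000000000000001b00000040000000000000000003000000000000000000000c00000000000000000020000000000000000000000000000000000000000000000800000000000000000000000000000000000000000000000000000000000000000000000000000000000000004000000000000000000300000000000000000000030000000000000000000800000000000000000000000000000000000000000000200000000000000000000000000000000000000000000000000000c0000000000000000002000000000000000000000000000000000000000000000000000000000000000000000000000000000004000000000000000000000000000000000000000000000000000010000000000000000000c0000000000000000000000000000000000000000000100000000000000000000000000000000000000000000000000000000000000000000000000000000000000000000000000000000000000000000040000000000000000000000000000000000000000000000000000000000000000000000000000000080000000000000000000000000000000000000000800000000000000000000000000000000000000002000000000000000000000000000000000000000000000000000000000000800000000000000000000000000000000000000020000000000000000000000000000000000000000000000000000000000020000000000000000000000000000000000000000000000000000000000000000000000000000000000000000000000000000000000000000000000000000000000000000000000000000000000000000000000000000000000000000000000000000000000000000000000000000000000000000040000000000000000002000000000000000000080000000000000000000000000000000000000080000000000000000002000000000,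
  0xc000000000000000000100000000000000000000000000000020000000000000000000000000000c000000000000000000100000000000000000000c000000000000000000100000000000000000000000000000000fc00000000000000000140000000300000000000000000004000000000000000000000000000000000000000000000000000000000000000002000000000000000000000000000000000000000000000000000000000000000000000000000001000000000000000000000000000000000000000000000000000000000000000000000c00000000000000000010000000000000000000000c0000000000000000001000000000000000000030000000000000000000400000000000000000000000000000000000000000000000000000000000000000000000000000000000000000000000000000010000000000000000000000000000000000000008000000000000000000000000000000003000000000000000000040000000000000000000000000000000000000000000000000000000000000000000000000000000000000000000000000000000000000000000000000000000000000000000001000000000000000000000000000000000000000000000000000000000000100000000000000000000000000000000000000000000000000000000000004000000000000000000010000000000000000000000000000000000000000000000000000000000000000000000000000000004000000000000000000040000000000000000000000000000000000000000000000000000000000000000000000000000000100000000000000000000000000000000000000000000000000000000000000000000000000000000000000000000000000000000000000000000000000000000000000000000000000000000000000000000000000000000000000000000000000000000000000000000300000000000000000004000000000000000000200000000000000000004000000000000000000000000000000000000004000000000,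
  0x40000000000000000002000000000000000000000000000000000000000000000000008000000004000000000000000000200000000000000000000400000000000000000020000000000000000000000000000000050000000000000000002b000000010000000000000000000800000000000000000000000000000000000000000000000000000000000000000000000000000000000008000000000000000000000000000000000000000000000000000000000000000000000000000004000000000000000000000000000000000000000000000000040000000000000000002000000000000000000000040000000000000000002000000000000000000010000000000000000000800000000000000000000000000000000000000000000000000000000000000000000000000000000000000000000000000000000000000000000000000400000000000000000000000000000000000000200000000000001000000000000000000080000000000000000000000000000000000000000000000000000000000000000000000000000000000000000000000000000000000000000000000000000000000000000000000000000000000000000040000000000000000000000000000000000000000200000000000000000000000000000000000000000000000000000000000008000000000000000000020000000000000000000000000000000000000000000000000000000000000000000000000000000008000000000000000000080000000000000000000000000000000000000000000000000000000000000000000000000000000200000000000000000000000000000000000000000000000000000000000000000000000000000000000000000000000000000000000000000000000000000000000000000000000000000000000000000000000000000000000000000000000000000000000000000000100000000000000000008000000000000000000300000000000000000008000000000000000000000000000000000000008000000000,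
  0x8000000000000000000100000000000000000002000000000000000000040000000000000000000000000000008000000000000000000000000000000000000004000000000000000000000000000000000000000000000000000000000000000000000000000000000000000000000000000000000000000000000000780000000000000000004000000800000000000000000010000000000000000000008000000000000000000100000000000000000200000000000000000004000000000000000000002000000000000000000040000000000000000000000000400000000000000000000000000000000000000000000000000000000000000000000000000000000000000000000000000000000000000008000000000000000000100000000000000000000000020000000000000000000000000000000000000000000000000000000000000000000000000000000000000000000000000000000000000000000000000000000000000000000000000000002000000000000000000040000000000000000000000004000000000000000000000000000000000000002000000000000000000000000000000000000000000000000000000000000000000000000000000000000000000000000000000000000000000000001000000000000000000010000000000000000000000000000000000000000000000000000000000000040000000000000000000000000000000000000000000000000000000000000000000000000000000000000000000000000010000000000000000000000000000000000000000000000000000000000000000000000000000000040000000000000000000400000000000000000000000000000000000000000000000000000000000000000000000000000000000000000000000000000000000000000000000000000000000000000000000000000000000000000000000000000c00000000000000000010000000000000000000400000000000000000000000000000000000000000000000000000000010000000000,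
  0xc0000000000000000002000000000000000000010000000000000000000c000000000000000000000000000000000000000000000000020000000000000000000000000000000000000010000000000000000000000000000000000000000000000000000000000000000000000000000000000000000000000000000010000000000000000001a00000040000000000000000003000000000000000000000c00000000000000000020000000000000000010000000000000000000c00000000000000000000300000000000000000008000000000000000000000000000000000000000000001000000000000000000000000000000000000000000000000000000000000000000000000000000000000000000000c0000000000000000002000000000000000000000000000000000000000000008000000000000000000000000000000000000000000000000000000000000000000000000000000000000000000000000000000000000000000000000000000000010000000000000000000c0000000000000000000000000000000000000000000100000000000000000000000000000000000000080000000000000000000000000000000000000000000000000000000000000000000000000000000000000000000000000002000000000000000000020000000000000000000000000000000000000000000000000000000000000080000000000000000000000000000000000000000000000000000000000000000000000000000000000000000000000000020000000000000000000000000000000000000000000000000000000000000000000000000000000080000000000000000000800000000000000000000000000000000000000000000000000000000000000000000000000000000000000000000000000000000000000000000000000000000000000000000000000000000000000000000000000000400000000000000000020000000000000000000800000000000000000000000000000000000000000000000000000000020000000000,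
  0x3000000000000000000040000000000000000000000000000001000000000000000000000000000300000000000000000004000000000000000000000000000000000000000000000000000000000000000000000400000000000000000000000000000000000000000000000000000000000000000000c000000000000000000100000000000000000000000000000000f80000000000000000014000000030000000000000000000400000000000000000000000000800000000000000000000000000000000000000000000000000000000000000000000300000000000000000004000000000000000000000c00000000000000000010000000000000000000000000000000000000000000000000000000000030000000000000000000400000000000000000000000000000000000000000000000000000000000000020000000000000000000000000000000000000000000000000000000000000000000000000000000000000000000000000000000000000000000008000000000000000000000000000000003000000000000000000040000000000000000000000000000000000000000000000000000000000000002000000000000000000000000000000000000000000000000000000000000000000000000000000004000000000000000000000000000000000000000100000000000000000000000000000000000000000400000000000000000000000000000000000000000000000000000000000000000000000000000000000000000000000000000000000000000000000100000000000000000000000000000000000000000000000000000000000100000000000000000000000000000000000000004000000000000000000000000000000000000000000000000000000000000000000000000000000000000000000000000000000000000000000000000000000000000000000000000000000003000000000000000000040000000000000000002000000000000000000040000000000000000001000000000000000000040000000000,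
  0x1000000000000000000080000000000000000000000000000000000000000000000000040000000100000000000000000008000000000000000000000000000000000000000000000000000000000000000000000000000000000000000010000000000000000000000000000000000000000000000000400000000000000000020000000000000000000000000000000050000000000000000002a000000010000000000000000000800000000000000000000000000000000000000000000020000000000000000000000000000000000000000000000000100000000000000000008000000000000000000000400000000000000000020000000000000000000000000000000000000000000000000000000000010000000000000000000800000000000000000000000000000000000000000000000000000000000000000000000000000000000800000000000000000000000000000000000000000000000000000000000000000000000000000000000000000000000000000000000000000000200000000000001000000000000000000080000000000000000000000000000000000000000000000000000000000000000000000000000000000080000000000000000000000000000000000000000000000000000000000008000000000000000000000000000000000000000200000000000000000000000000000000000000000800000000000000000000000000000000000000000000000000000000000000000000000000000000000000000000000000000000000000000000000200000000000000000000000000000000000000000000000000000000000200000000000000000000000000000000000000008000000000000000000000000000000000000000000000000000000000000000000000000000000000000000000000000000000000000000000000000000000000000000000000000000000001000000000000000000080000000000000000003000000000000000000080000000000000000002000000000000000000080000000000,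
  0xc00000000000000000010000000000000000000000000000000200000000000000000000000000000000000000000000000000000000000000000030000000000000000000400000000000000000000000000000080000000000000000000000000000000000000000000000000000000000000000000c0000000000000000001000000000000000000000000000001000000000000000000000000000000000000000000000000000000000000000000000000000000000f00000000000000000014000000030000000000000000000400000000000000000c00000000000000000010000000000000000000000000000000000000000000000000000000000000c000000000000000000100000000000000000000c0000000000000000001000000000000000000000000000000000000000000000000000000000000000000000000000000000000000000000000000000020000000000000000000000000000000000000000000000000000000000000000000000000000010000000000000000000000000000000000000000000000000000000000000000000000003000000000000000000040000000000000000000000004000000000000000000000000000000000000000000000000000000000000000000000000000000000000000000000000000100000000000000000000000000000000000000004000000000000000000004000000000000000000000000000000000000000000000000000000000000000000000000000000000000000000000000000000000000000000000000000000000000000000001000000000000000000000000000000000000000000000000000000000004000000000000000000000000000000000000000100000000000000000000000000000000000000000000000000000000000000000000000000000000000000000000000000000000000000000000000000000000000008000000000000000000100000000000000000008000000000000000000100000000000000000004000000000000000000000000000000,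
  0x4000000000000000000200000000000000000000000000000000000000000000000000080000000000000000000000000000000000000000000000100000000000000000008000000000000000000000000000000000000000000000000020000000000000000000000000000000000000000000000004000000000000000000200000000000000000000000000000000000000000000000004000000000000000000000000000000000000000000000000000000000000050000000000000000002800000001000000000000000000080000000000000000040000000000000000002000000000000000000000000000000000000000000000000000000000000040000000000000000002000000000000000000004000000000000000000200000000000000000000000000000000000000000000000000000000000000000000000000000000000000000000000000000000000000000000000000080000000000000000000000000000000000000000000000000000000000000000000000000000040000000000000000000000000000000000000000000000000000100000000000000000008000000000000000000000000000000000000000000010000000000000000000000000000000000000000000000000000000000000000000000000000000020000000000000000000000000000000000000000800000000000000000000800000000000000000000000000000000000000000000000000000000000000000000000000000000000000000000000000000000000000000000000000000000000000000000200000000000000000000000000000000000000000000000000000000000800000000000000000000000000000000000000020000000000000000000000000000000000000000000000000000000000000000000000000000000000000000000000000000000000000000000000000000000000000c00000000000000000020000000000000000000c000000000000000000200000000000000000008000000000000000000000000000000,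
  0x200000000000000000004000000000000000000000000000000000000000000000000000000000000000000000020000000000000000000000000000000000000010000000000000000000000000002000000000000000000040000000000000000000000000000000000000000000000000000000000000000000002000000000000000000000000000080000000000000000001000000000000000000000000000000000000000000000000000000000008000000000000000000100000000000000000000000000000000000000000000000000000000000000000000000300000000000000000004000000008000000000000000000100000000000000000002000000000000000000040000000000000000000200000000000000000004000000000000000000000000000000000000000000000000000000000000000000000000000000000000000000000000000000000000000000000000000000000000000000000020000000000000000000000000000000000000000000000000000000000000000000000000000010000000000000000000000000000000000000008000000000000000000000000000000002000000000000000000040000000000000000000000000000000000000000000000000000000000000000000000000000000000000000000000000000000001000000000000000000010000000000000000000010000000000000000000000000000000000000000000000000000000000000000000000000000000000000000000000000000000000000000000000000000000000000000000000000000000000000000010000000000000000000000000000000000000000000000000000000000040000000000000000000400000000000000000000000000000000000000000000000000000000000000000000000000000000000000000000000000000000000000000000000000000000000020000000000000000000400000000000000000000000000000000000000000000000000000000000000000000000000000000000000000,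
  0x3000000000000000000080000000000000000000000000000000000000000000000000000000000000000000000000000000000000000008000000000000000000000000000000000000004000000010000000000000000000c000000000000000000000000000000000000000000000000000000000000000000000000000000000000000008000000004000000000000000000300000000000000000000000000000000000000000000000000000000000400000000000000000030000000000000000000000000000000000000000000000000000000000000000000000010000000000000000000800000000c0000000000000000002000000000000000000030000000000000000000800000000000000000003000000000000000000080000000000000000000000000000000000000000000000000000000000000000000000000000000000000000000000000000000000000000000000000000000000000000000000000000000000000000008000000000000000000000000000000000000000000000000000000000000000000000000000004000000000000000000000000000000000000002000000000000010000000000000000000c0000000000000000000000000000000000000000000000000000000000000000000000000000000000000000000000000000000002000000000000000000020000000000000000000020000000000000000000000000000000000000000000000000000000000000000000000000000000000000000000000000000000000000000000000000000000000000000000000000000000000000000020000000000000000000000000000000000000000000000000000000000080000000000000000000800000000000000000000000000000000000000000000000000000000000000000000000000000000000000000000000000000000000000000000000000000000000030000000000000000000800000000000000000000000000000000000000000000000000000000000000000000000000000000000000000,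
  0x40000000000000000000000000000800000000000000000010000000000000000000200000000000000000004000000000000000000020000000000000000000400000000000000000002000000000000000000040000000000000000000000000000000cc0000000000000000010000000000000000000000000000000000000000000000000000000000000000000000000000000000000000000000200000000000000000000000000000000000000000000000000000000000000000000000000000100000000000000000000000000000000000000000000000000000000000000000000000000000080000000000000000000000000000000000000040000000000000000000000000000000000000000000000000000000000000000000000200000000000000000004000000000000000000080000000000000000001000000000000000000020000000000000000000400000000000000000008000000000000000000100000000000000000000000000000000000000000000000000000000000000000000000000000000000000000000000000000000000000000000000000000000000000000000000000000000000000000000000000000000000001000000000000000000000400000000000000000000000000000000000000000000000000000000000000000000000000000000000000000000000000000000000000000000000040000000000000000000100000000000000000000400000000000000000004000000000000000000000000000000000000000000000000000000000000000000000000000000000000000000000000000000000000000000000000000000000000000000000000000000000000000000000000000000000001000000000000000000000000000000000000000000000000000000000000000000000000000000000000000000000000000000000000000040000000000000000000000000000000000000080000000000000000001000000000000000000000000000000000000001000000000000,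
  0x10000000004000000000000000000300000000000000000003000000000000000000080000000000000000000300000000000000000008000000000000000000010000000000000000000c0000000000000000000000000000000400000000000000000023000000000000000000000000000000000000000000000000000000000000000000000000000000000000000000000000000000000000000008000000000000000000000000000000000000000000000000000000000000000000000000000004000000000000000000000000000000000000000000000000000000000000000000000000000002000000000000000000000000000000000000001000000000000000000000000000000000000000000000000000300000000000000000008000000000000000000040000000000000000003000000000000000000010000000000000000000c0000000000000000000c0000000000000000002000000000000000000000000000000000000000000000000000000000000000000000000000000000000000000000000000000000000000000000000000000000000000000000000000000000000000000000000000000000000000000000000000000000408000000000000000000000000000000000000000000000000000000000000000000000000000000000000000000000000000000000000000000000000800000000000000000002000000000000000000008000000000000000000080000000000000000000000000000000000000000000000000000000000000000000000000000000000000000000000000000000000000000000000000000000000000000000000000000000000000000000000000000000000020000000000000000000000000000000000000000000000000000000000000000000000000000000000000000000000000000000000000000800000000000000000000000000000000000000c0000000000000000002000000000000000000000000000000000000002000000000000,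
  0x80000000000000000000000000020000000000000000000400000000000000000008000000000000000000100000000000000000000000000000000000000000000000000000000000000000000000000000000000000000000000000000000000004000000000000000000000000000020000000000000000000400000000000000000002000000000000000000040000000000000000000000000000000c80000000000000000010000000000000000000000000000000000000000000000000000000800000000000000000000000000000000000000000000000000000000000000000000000000000400000000000000000000000000000000000000000000000000000000000000000000000000000040000000000000000000000000000002000000000000000000040000000000000000000800000000000000000010000000000000000000000000000000000000000000000000000000000000000000000000000000000000000000000000020000000000000000000400000000000000000008000000000000000000100000000000000000000000000000000000000000000000000000000000000000000000000000000000000000000000000000002000000000000000000000000000000000000000010000000000000000000000000000000000000000000000000000000000000000000000000000000000000000000000000001000000000000000000000000000000000000000000000000000000000000000000000000000000004000000000000000000010000000000000000000000000000000000000000000000000000000000040000000000000000000000000000000000000000000000000000000000000000000000000000000000000000000000000000040000000000000000000000000000000000000000000000000000000000000000000000000000000000000000000100000000000000000000000000000000000000200000000000000000004000000000000000000100000000000000000004000000000000,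
  0x2000000010000000000000000000c0000000000000000000c0000000000000000002000000000000000000000000000000000000000000000000000000000000000000000000000000000000000000000000000000000000000000000000000000001000000000300000000000000000008000000000000000000010000000000000000000c0000000000000000000000000000000400000000000000000022000000000000000000000000000000000000000000000000000000000000000000000000020000000000000000000000000000000000000000000000000000000000000000000000000000010000000000000000000000000000000000000000000000000000000000000000000000000000001000000000003000000000000000000080000000000000000000400000000000000000030000000000000000000000000000000000000000000000000000000000000000000000000000000000000000000000000010000000000000000000c0000000000000000000c000000000000000000200000000000000000000000000000000000000000000000000000000000000000000000000000000000000000000000000000000000000000000000000080000000000000000000020000000000000000000000000000000000000000000000000000000000000000000000000000000000000000000000000002000000000000000000000000000000000000000000000000000000000000000000000000000000008000000000000000000020000000000000000000000000000000000000000000000000000000000080000000000000000000000000000000000000000000000000000000000000000000000000000000000000000000000000000080000000000000000000000000000000000000000000000000000000000000000000000000000000000000000000200000000000000000000000000000000000000300000000000000000008000000000000000000200000000000000000008000000000000,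
  0x100000000000000000000000000080000000000000000001000000000000000000000000000000000000000000000000000000000008000000000000000000100000000000000000000000000000000000000000000000000000000000000000000008000000000000000000000000000200000000000000000004000000000000000000000000000000000000000000000000000000000000000000001000000000000000000000000000002000000000000000000040000000000000000000000000000000c00000000000000000010000000000000000000000000000000000000000000000000000000000000000000000000000000000000000000000400000000000000000000000000000000000000080000000000000000000000000000008000000000000000000100000000000000000000000000000000000000000000000000000000000800000000000000000010000000000000000000000000000000000000000000000000000000000080000000000000000001000000000000000000000000000000000000000000000000000000000008000000000000000000100000000000000000000000000000000000000000000000000000000000000004000000000000000000000000000000000000000000000000000000000000400000000000000000000000000000000000000000000000000000000000000000000000000000000000000000000000000040000000000000000000000000000000000000000000000000000000000040000000000000000000000000000000000000000100000000000000000000000000000000000000000000000000000000001000000000000000000000000000000000000000000000000000000000000000000000000000000000000000000000000000001000000000000000000000000000000000000000000000000000000000000000000000000000000000000000000000000000000000000000800000000000000000010000000000000000000400000000000000000000000000000000,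
  0x400000004000000000000000000300000000000000000000000000000000000000000000000000000000000c0000000000000000002000000000000000000000000000000000000000000000000000000000000000000000000000000000000000002000000003000000000000000000080000000000000000000000000000000000000000000000000000000000000000000000000000000000000000400000000010000000000000000000c000000000000000000000000000000040000000000000000002000000000000000000000000000000000000000000000000000000000000000000000000000000000000000000000000000000000000000001000000000000000000000000000000000000000200000000000c00000000000000000020000000000000000000000000000000000000000000000000000000000040000000000000000003000000000000000000000000000000000000000000000000000000000004000000000000000000300000000000000000000000000000000000000000000000000000000000c000000000000000000200000000000000000000000000000000000000000000000000000000000000000000000000000000000100000000000000000000000000000000000000000800000000000000000000000000000000000000000000000000000000000000000000000000000000000000000000000000080000000000000000000000000000000000000000000000000000000000080000000000000000000000000000000000000000200000000000000000000000000000000000000000000000000000000002000000000000000000000000000000000000000000000000000000000000000000000000000000000000000000000000000002000000000000000000000000000000000000000000000000000000000000000000000000000000000000000000000000000000000000000c00000000000000000020000000000000000000800000000000000000000000000000000,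
  0x800000000000000000010000000000000000000000000000000100000000000000000000000000000000000000080000000000000000000000000000000000000000000000000000000000000000008000000000000000000100000000000000000000000000000040000000000000000000000000000000000000000000000000000000000000000000200000000000000000004000000000000000000000000000000000000000000000000000000000020000000000000000000400000000000000000000000000000000000000000000000000000000000000000000000000000000000000000000000000000000000000000000000000000000000000000000000000000000000000000000000000000000000000000000200000000000000000004000000800000000000000000010000000000000000000200000000000000000004000000000000000000000000000400000000000000000000000000000080000000000000000001000000000000000000000000000080000000000000000000000000000000000000040000000000000000000000000000000000000000000000000000000000000000000000008000000000000000000100000000000000000000000000000000000000000000000000000000000000000000000000000000000000000000000000000000000000000000000000000040000000000000000000400000000000000000000000000000000000000000000000000000000000400000000000000000000000000000000000000000000000000000000000000000000000000000000000000000000000000000000000000000000000000000000000000000000000000000000000000000400000000000000000001000000000000000000010000000000000000000000000000000000000000000000000000000000000000000000003000000000000000000040000000000000000000000000000000000000000000000000000000000000000000000000000000000000000000,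
  0x40000000000000000003000000000000000000000000000000000000000000000000000400000000000000000000000000000000000000200000000000000000000000000000000000000000000000c00000000000000000020000000000000000000000000000000000000000000000000100000000000000000000000000000000000000000000000030000000000000000000800000000000000000000000000000000000000000000000000000000003000000000000000000080000000000000000000000000000000000000000000000000000000000000000000000000000000000000000000000000000000000000000000000000000000000000000000000000000000000000000000000000000000000000000000010000000000000000000c00000040000000000000000003000000000000000000010000000000000000000c00000000000000000000000000000000000000000000001000000000004000000000000000000300000000000000000000000000000000000000000000000200000000000000000000000000000000000000100000000000000000000000000000000000000000000000000000c000000000000000000200000000000000000000000000000000000000000000000000000000000000000000000000000000000000000000000000000000000000000000000000000080000000000000000000800000000000000000000000000000000000000000000000000000000000800000000000000000000000000000000000000000000000000000000000000000000000000000000000000000000000000000000000000000000000000000000000000000000000000000000000000000800000000000000000002000000000000000000020000000000000000000000000000000000000000000000000000000000000000000000001000000000000000000080000000000000000000000000000000000000000000000000000000000000000000000000000000000000000000,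
  0x20000000000000000000000000000000000000000000000000000000000000000020000000000000000000400000000000000000000000000000000000000000000000000000000002000000000000000000040000000000000000000000000000001000000000000000000000000000000000000000000000000000000000000000000080000000000000000001000000000000000000000000000000200000000000000000000000000000000000000000000000000000000000000000000000000000000000000000000000000000000002000000000000000000040000000000000000000000000000000080000000000000000001000000000000000080000000000000000000000000000000000000010000000000000000000000000000000000000000000000000000000000000000000002000000000000000000040000000000000000000000000000000000000000000000000000000000200000000000000000004000000000000000000000000000000000000000000000000000000000020000000000000000000400000000000000000000000000000000000000000000000000000000002000000000000000000040000000000000000000000000800000000000000000000000000000000000000000000000000000000000000000000000000000001000000000000000000000000000000000000000000000000000000000000000000000000000000000000000000000000000100000000000000000000000000000000000000000000000000000000000100000000000000000000000000000000000000000400000000000000000000000000000000000000000000000000000000004000000000000000000000000000000000000000000000000000000000000000000000000000000000000000000000000000004000000000000000000000000000000000000000000000000000000000000000000000000000000000000000000c000000000000000000100000000000000000004000000000000000000000000000000000,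
  0x8000000000000000000000000000000000000000000000300000000000000000008000000000000000000000000000000000000000000000000000000000010000000000000000000c00000000000000000000000000000000000000000000000000400000000000000000000000000000000000000000000000400000000000000000030000000000000000000000000000000000000000000000000080000000000000000000000000000000000000000000000000000000000000000000000000000000000000030000000000000000000800000000000000000000000000000000400000000000000000030000000000000000000000000000000000020000000000000000000000000000000000000004000000000000000000000000000000000000000000000000010000000000000000000c00000000000000000000000000000000000000000000000000000000003000000000000000000080000000000000000000000000000000000000000000000000000000000300000000000000000008000000000000000000000000000000000000000000000000000000000010000000000000000000c00000000000000000000000000000000000000000000200000000000000000000000000000000000000000000000000000000000020000000000000000000000000000000000000000000000000000000000000000000000000000000000000000000000000002000000000000000000000000000000000000000000000000000000000002000000000000000000000000000000000000000008000000000000000000000000000000000000000000000000000000000080000000000000000000000000000000000000000000000000000000000000000000000000000000000000000000000000000080000000000000000000000000000000000000000000000000000000000000000000000000000000000000000004000000000000000000200000000000000000008000000000000000000000000000000000,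
  0x200000000000000000000000000c00000000000000000010000000000000000000000000000000000000000000000000000000000000000000000080000000000000000000000000030000000000000000000400000000000000000000000000000000000000000000000000000000000000000000040000000000000000000000000000c0000000000000000001000000000000000000000000000000000000000000000000000000000000000000000000000000000000000000000000000000000000000000000000000000000000000000300000000000000000004000000000000000000000000000000000000000000000000000000000000000000000000000000000000000000000000c000000000000000000100000000000000000000000000000000a000000000000000000140000000000000008000000000000000000000000000003000000000000000000040000000000000000000000000001000000000000000000000000000000c0000000000000000001000000000000000000000000000000000000000000000000000000000000000000040000000000000000000000000000000030000000000000000000400000000000000000000000000000000000000000000000000000000000000000000000000000000000000000000000000000000000000000000000000000100000000000000000000000000000000000000004000000000000000000000000000000000000000000000000000000000004000000000000000000000000000000000000000000000000000000000000000000000000000000000000000000000000000000000000000000000000000000000000000000001000000000000000000004000000000000000000000000000000000000000100000000000000000000000000000000000000000000000000030000000000000000000400000000000000000030000000000000000000400000000000000000010000000000000000000000000000000000,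
  0x800000040000000000000000002000000000000000000000000000000000000000000000000000000000000000000000000000000000000000000200000001000000000000000000080000000000000000000000000000000000000000000000000000000000000000000000000000000000000000100000000040000000000000000002000000000000000000000000000000000000000000000000000000000000000000000000000000000000000000000000000000000000000000000000000000000000000000100000000000000000008000000000000000000000000000000000000000000000000000000000000000000000000000000000000000000000000400000000000000000020000000000000000000000000000000050000000000000000003c000000000000000000000000000000000020000000000100000000000000000008000000000000000000000000000000000000000000000004000000000040000000000000000002000000000000000000000000000000000000000000000000000000000000000000000000000000000000001000000000000010000000000000000000800000000000000000000000000000000000000000000000000000000000000000000000000000000000000000000000000000000000000000000000000000200000000000000000000000000000000000000008000000000000000000000000000000000000000000000000000000000008000000000000000000000000000000000000000000000000000000000000000000000000000000000000000000000000000000000000000000000000000000000000000000002000000000000000000008000000000000000000000000000000000000000200000000000000000000000000000000000000000000000000010000000000000000000800000000000000000010000000000000000000800000000000000000020000000000000000000000000000000000,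
  0x4000000000000000000000000000000000000000000000000000000000000000000000000000000000000000000000000000000002000000000000000000040000000000000000000800000000000000000010000000000000000000000000000000200000000000000000000000000000000000000000000000000000000000000000000000000000000000000000000000000000000000000000000000000000000000000000000000008000000000000000000100000000000000000000000000000020000000000000000000000000002000000000000000000040000000000000000000000000000010000000000000000000000000000000000000000008800000000000000000100000000000000002000000000000000000000000000000000000000000000000000000000000000000000000000000000000000000000000000000000000200000000000000000004000000000000000000080000000000000000001000000000000000000000000000000000000000000000000000000000000000000000000000000000000000000000000002000000000000000000040000000000000000000800000000000000000010000000000000000000000000100000000000000000000000000000000000000000000000000000000000000000000000000000000000000000000000000004000000000000000000000000000000000000000000000000000000000000000000000000000000000000000000000000000400000000000000000000000000000000000000000000000000000000000040000000000000000000100000000000000000000000000000000000000000000000000000000000000000000000000000010000000000000000000000000000000000000000000000000000000000000000000000000000000000000000000000000000010000000000000000000000000000000400000000000000000000000000000000000000c0000000000000000001000000000000000000040000000000000000001000000000000000,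
  0x10000000000000000000000000000000000000000000000000000000000000000000000000000000000000300000000000000000008000000000000000000040000000000000000003000000000000000000000000000000000000000000000000000800000000000000000000000000000000000000000000000000000000000000000000000000000000000000000000000000000000000000000000000000000400000000000000000030000000000000000000000000000000000000000000000000080000000300000000000000000008000000000000000000000000000000000000000000000000040000000000000000000000400000000000000000032000000000000000000000000000000000008000000000000000000000000000000000000000000000000000000000000000000000000000000000000000010000000000000000000c0000000000000000000c000000000000000000200000000000000000000000000000000000000000000000000000000000000000000000000000000000000000000000000300000000000000000008000000000000000000040000000000000000003000000000000000000000000000000000000000000000400000000000000000000000000000000000000000000000000000000000000000000000000000000800000000000000000000000000000000000000000000000000000000000000000000000000000000000000000000000000080000000000000000000000000000000000000000000000000000000000008000000000000000000020000000000000000000000000000000000000000000000000000000000000000000000000000002000000000000000000000000000000000000000000000000000000000000000000000000000000000000000000000000000002000000000000000000000000000000080000000000000000000000000000000000000040000000000000000002000000000000000000080000000000000000002000000000000000,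
  0x400000000000000000000000000000000000000000000000000000000000000000c000000000000000000100000000000000000000000000000001000000000000000000000000000c0000000000000000001000000000000000000000000000000000000000000000000000000000000000000000000000000000000000000000000000000000000000000000000000000000000000000000000000040000000000000000000000000000c000000000000000000100000000000000000000000000000000000000000000000000000000000000000000000000000000000000000000000000030000000000000000000400000000000000000000000000000000000000000000000000000000c0000000000000000001000000000000000000000000000001000000000000000000000000000000000000000000a80000000000000000014000000c000000000000000000100000000000000000000000000002000000000000000000000000000000000000000000000000000000000000000000000c00000000000000000010000000000000000000000000000800000000000000000000000000000000c0000000000000000001000000000000000000000000000000000000000000000000000000000000000000000000000000000000000000000000000000000000000000000000000000000000000000000000004000000000000000000000000000000000000000100000000000000000000000000000000000000000000000000000000000010000000000000000000000000000000000000000000000000000000000000000000000000000000000000000000000000000000000000000000000004000000000000000000000000000000000000000100000000000000000000000000000000000000004000000000000000000000000000000200000000000000000004000000000000000000300000000000000000004000000000000000000100000000000000000004000000000000000,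
  0x1000000000000000000000000000000000000000000000040000000000000000002000000000000000000000000000000000000000000000000000400000004000000000000000000200000000000000000000000000000000000000000000000000000000000000000000000000000000000000000000000000000000000000000000000000000000000000000000000000000000000000000000000100000000040000000000000000002000000000000000000000000000000000000000000000000000000000000000000000000000000000000000000000000000100000000000000000008000000000000000000000000000000000000000000000000000000004000000000000000000200000000000000000000000000000000000000000000000004000000000000000000000050000000000000000003e000000400000000000000000020000000000000000000000000000000000000000000000008000000000000000000000000000000000000000000000000040000000000000000002000000000000000000000000000000000000000000000002000000000000040000000000000000002000000000000000000000000000000000000000000000000000000000000000000000000000000000000000000000000000000000000000000000000000000000000000000000000008000000000000000000000000000000000000000200000000000000000000000000000000000000000000000000000000000020000000000000000000000000000000000000000000000000000000000000000000000000000000000000000000000000000000000000000000000008000000000000000000000000000000000000000200000000000000000000000000000000000000008000000000000000000000000000000300000000000000000008000000000000000000100000000000000000008000000000000000000200000000000000000008000000000000000,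
  0x400000000000000000000000000000000000000200000000000000000000000000800000000000000000010000000000000000000200000000000000000004000000000000000000000000000000000000000000000000000000000000000000000000000000000000000000000000000000000000000000000000000000000000000000000000000000000000000000000000000000000000000000000000000000000000000000000000000000000040000000000000000000000000000200000000000000000004000000000000000000020000000000000000000400000000000000000000000000000000000000000000000000000000000000000002000000000000000000000000000080000000000000000001000000000000000000008000000000000000000100000000000000000000000000000000680000000000000000004000000000000000000000000000000000000000000000000000000200000000000000000000000000000000000000100000000000000000000000000000080000000000000000001000000000000000000000200000000000000000004000000000000000000000000000000000000000000000000000000000000000000000000000000000000000000000000000000000000000000000000000000000000000000000000000000000000000000000040000000000000000000400000000000000000000000000000000000000000000000000000000000000000000000000000000040000000000000000000000000000000000000000000000000000000000000000000000000000000000000000000000000010000000000000000000000000000000000000000000000000000000000001000000000000000000010000000000000000000000000000000800000000000000000010000000000000000000400000000000000000000000000000000000000000000000000000000010000000000000000,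
  0x1000000000000000000000000000000000000000800000040000000000000000003000000000000000000030000000000000000000800000000000000000000000000000000000000000000000000000000000000000000000000000000000000000000000000000000000000000000000000000000000000000000000000000000000000000000000000000000000000000000000000000000000000000000000000000000000000000000000000000100000000030000000000000000000800000000000000000003000000000000000000080000000000000000000000000000000000000000000000000000000000000000000000000000000000000008000000004000000000000000000300000000000000000000400000000000000000030000000000000000000000000000000010000000000000000001e000000000000000000000000000000000000000000000000000000000000000000000000008000000000000000000000000000000000000004000000000040000000000000000003000000000000000000000300000000000000000008000000000000000000000000000000000000000000000000000000000000000000000000000000000000000000000000000000000000000000000000000000000000000000000000000000000000000000000080000000000000000000800000000000000000000000000000000000000000000000000000000000000000000000000000000080000000000000000000000000000000000000000000000000000000000000000000000000000000000000000000000000020000000000000000000000000000000000000000000000000000000000002000000000000000000020000000000000000000000000000000c00000000000000000020000000000000000000800000000000000000000000000000000000000000000000000000000020000000000000000,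
  0x8000000000000000000000000000000000000000000000000000000000000000000000000000000000000000000000000000000000000000000000000000000000000000000000000000000000000000000000000000000000000000000000000000000000000000000000000000002000000000000000000040000000000000000000800000000000000000010000000000000000000000000000000200000000000000000000000000200000000000000000004000000000000000000000000000000100000000000000000000000000080000000000000000001000000000000000000000000000000080000000000000000000000000000000000000040000000000000000000000000000000000000000008c0000000000000000010000000000000000000000000000000000000000000000000000000000000000000000000000000000000000000000000000000000000000000000000000000000000000000000000000000000000000000020000000000000000000400000000000000000008000000000000000000100000000000000000002000000000000000000040000000000000000000800000000000000000010000000000000000000000000020000000000000000000000000000000000000000000000000000000000000000000000000000000000000000000000000000000000000000000000010000000000000000000000000000000000000000000000000000000000000000000000000000000000000000000000000000000000000000000000000000000000000000000000000000000000000000000000000000000000040000000000000000000100000000000000000000400000000000000000004000000000000000000000000000000000000000000000000000000000000000000000000000000000000000000000000000000000000000000000000040000000001000000000000000000000000000000000000003000000000000000000040000000000000000000000000000000000000040000000000000000,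
  0x20000000000000000000000000000000000000000000000000000000000000000000000000000000000000000000000000000000000000000000000000000000000000000000000000000000000000000000000000000000000000000000000000000000000300000000000000000008000000000000000000040000000000000000003000000000000000000000000000000000000000000000000000800000010000000000000000000c0000000000000000000000000000000000000000000000000040000000c000000000000000000200000000000000000000000000000000000000000000000000200000000000000000000000000000000000000100000000000000000000000400000000000000000033000000000000000000000000000000000000000000000000000000000000000000000000000000000000000000000000000000000000000000000000000000000000000000000000000000000000000000010000000000000000000c0000000000000000000c000000000000000000200000000000000000003000000000000000000080000000000000000000400000000000000000030000000000000000000000000000000000000000000000800000000000000000000000000000000000000000000000000000000000000000000000000000000000000000000000000020000000000000000000000000000000000000000000000000000000000000000000000000000000000000000000000000000000000000000000000000000000000000000000000000000000000000000000000000000000000080000000000000000000200000000000000000000800000000000000000008000000000000000000000000000000000000000000000000000000000000000000000000000000000000000000000000000000000000000000000000080000000002000000000000000000000000000000000000001000000000000000000080000000000000000000000000000000000000080000000000000000,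
  0x800000000000000000000000000000000000000000000000000000000000000000000000000000000000000000000000000000000000000000000000000000000000000000000000000000000000000000000000000000000000000c000000000000000000100000000000000000000000000000001000000000000000000000000000c0000000000000000001000000000000000000000000000000080000000000000000000000000030000000000000000000400000000000000000000000000000000000000000000000000000000000000000000000000000000000000000000000000000000000000000000000000000000000000000003000000000000000000040000000000000003000000000000000000040000000000000000000000000000008000000000000000000000000000000000000004000000000000000000000000000000000000000000000000000000000000000000000000000000000ac0000000000000000014000000c00000000000000000010000000000000000000300000000000000000004000000000000000000000000000400000000000000000000000000000000c0000000000000000001000000000000000000000000000000000000000000000000000000000000000000000000000000000000000000000000000000000000000000000000000000000000000000000000000000000000000000000000000000000000000000000000000000000000010000000000000000000000000000000000000000000000000000000000000000000000000000000010000000000000000000040000000000000000000000000000000000000000000000000000000000000000000000000000000010000000000000000000100000000000000000000000000000000000000000000000000000000000010000000000800000000000000000010000000000000000000c000000000000000000100000000000000000000000000000000000000100000000000000000,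
  0x2000000000000000000000000000000000000000000000000000000000000000000000000000000000000000000000000000000000000000000000000000000000000000000000000000000000000000000040000000000000000002000000000000000000000000000000000000000000000000000400000004000000000000000000200000000000000000000000000000000000000000000000000200000001000000000000000000080000000000000000000000000000000000000000000000000000000000000000000000000000000000000000000000000000000000000000000000000000000000000000000100000000000000000008000000000000000100000000000000000008000000000000000000000000000000000000000000000000020000000000000000000000000000000000000010000000000000000000000000000000000000000000000000000000000000050000000000000000003f00000040000000000000000002000000000000000000010000000000000000000800000000000000000000000000000000000000000000001000000000000040000000000000000002000000000000000000000000000000000000000000000000000000000000000000000000000000000000000000000000000000000000000000000000000000000000000000000000000000000000000000000000000000000000000000000000000000000000020000000000000000000000000000000000000000000000000000000000000000000000000000000020000000000000000000080000000000000000000000000000000000000000000000000000000000000000000000000000000020000000000000000000200000000000000000000000000000000000000000000000000000000000020000000000c000000000000000000200000000000000000004000000000000000000200000000000000000000000000000000000000200000000000000000,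
  0x8000000000000000000000000000000000000000000000000000000000000000000000000000000000000000000000000000000000000000000000000000000000000000000000000000000000002000000000000000000000000008000000000000000000100000000000000000002000000000000000000040000000000000000000000000000000000000000000000000000000000000000000000000000000000000000000000000000000000000800000000000000000000000000080000000000000000001000000000000000000000000000000000000000000000000000000000000200000000000000000004000000000000000000000000000100000000000000000000000000020000000000000000000400000000000000000000000000000000000000000000000000000000000000000000040000000000000000000000000000080000000000000000001000000000000000000000000000000006c0000000000000000004000000000000000800000000000000000000000000000200000000000000000004000000000000000000002000000000000000000040000000000000000000000000000000000000000000000000000000000000000000000000000000000000000000000000000000000000000000000000000000000000000000000000000000000000000000000000000000000000000000000000000000000000000000000000000000001000000000000000000000000000000000000000000000000000000000000400000000000000000000000000000000000000001000000000000000000000000000000000000000000000000000000000000400000000000000000000000000000000000000010000000000000000000000000000000000000000400000000020000000000000000000400000000000000000010000000000000000000000000000000000000010000000000000000000400000000000000000,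
  0x2000000000000000000000000000000000000000000000000000000000000000000000000000000000000000000000000000000000000000000000000000000000000000000000000000000000000800000040000000000000000003000000000000000000030000000000000000000800000000000000000000000000000000000000000000000000000000000000000000000000000000000000000000000000000000000000000000000000000000200000000c0000000000000000002000000000000000000000000000000000000000000000000000000000000300000000000000000008000000000000000000000000000000000000000000000004000000010000000000000000000c000000000000000000000000000000000000000000000000000000000000000000000000000000000000000010000000000400000000000000000030000000000000000000000000000000010000000000000000001f00000000000000000000000000000000002000000000010000000000000000000c000000000000000000003000000000000000000080000000000000000000000000000000000000000000000000000000000000000000000000000000000000000000000000000000000000000000000000000000000000000000000000000000000000000000000000000000000000000000000000000000000000000000000000000000002000000000000000000000000000000000000000000000000000000000000800000000000000000000000000000000000000002000000000000000000000000000000000000000000000000000000000000800000000000000000000000000000000000000020000000000000000000000000000000000000000800000000030000000000000000000800000000000000000020000000000000000000000000000000000000020000000000000000000800000000000000000,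
  0x8000000000000000000000000000000000000000000000000000000000000000000000000000000000000000000000000000000000000000000004000000000000000000000000000000000000000000000000000000000000000000000000000000000000000000000000000000008000000000000000000100000000000000000002000000000000000000040000000000000000000000000000001000000000000000000000000000000000000000000000000000000000000000000080000000000000000001000000000000000000002000000000000000000040000000000000000000000000000200000000000000000000000000000000000000000000000000000000000000000020000000000000000000400000000000000000000000000000080000000000000000000000000000800000000000000000010000000000000000000000000000010000000000000000000000000000000000000000006400000000000000000040000008000000000000000000100000000000000000000080000000000000000001000000000000000000000000000000000000000000000000000000000000000000000000000000000000000000000000000000000000000000000000000000000000000000000000000000000000000000000000000000000000000000000000000000000000000000000000000000000000000000000000000000100000000000000000000000000000000000000000000000000000000000100000000000000000000000000000000000000000400000000000000000000000000000000000000000000000000000000000100000000000000000000000000000000000000004000000000000000000010000000000c0000000000000000001000000000000000000040000000000000000000000000000000000000040000000000000000000000000000000000000,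
  0x2000000000000000000000000000000000000000000000000000000000000000000000000000000000000000000000000000000000000000000001000000000000000000000000000000000000000000000000000000000000000000000000000000000000040000000000000000003000000000000000000030000000000000000000800000000000000000000000000000000000000000000000000400000000000000000000000000000000000000000000000c0000000000000000002000000000000000000003000000000000000000080000000000000000000000000000000000000000000000008000000000000000000000000000000000000000000000010000000000000000000c000000000000000000000000000000000000000000000000020000000004000000000000000000300000000000000000000000000000000000000000000000004000000000000000000000010000000000000000001d00000040000000000000000003000000000000000000000c000000000000000000200000000000000000000000000000000000000000000000000000000000000000000000000000000000000000000000000000000000000000000000000000000000000000000000000000000000000000000000000000000000000000000000000000000000000000000000000000000000000000000000000000020000000000000000000000000000000000000000000000000000000000020000000000000000000000000000000000000000080000000000000000000000000000000000000000000000000000000000020000000000000000000000000000000000000000800000000000000000002000000000040000000000000000002000000000000000000080000000000000000000000000000000000000080000000000000000000000000000000000000,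
  0x800000000000000000000000000000000000000000000000000000000000000000000000000000000000000000000000000000000000000000000400000000000000000000000000000000000000000000000000000000000000000000000000000200000000000000000000000000000000000000000000000000000000000000000c000000000000000000100000000000000000000c0000000000000000001000000000000000000030000000000000000000400000000000000000000c000000000000000000100000000000000000000000000000000000000000000000000000000000000000000200000000000000000000000000000000000000100000000000000000000000000030000000000000000000400000000000000000000000000000020000000000000000000000000000c000000000000000000100000000000000000000c000000000000000000100000000000000000000000000000000e40000000000000000014000000030000000000000000000400000000000000000000000000000000000000000000000000000000000000000000000000000000000000000000000000000000000000000000000000000000000000000000000000000000000000000000000000000000000000000000000000000000000000000000000000000000000000000000000000000000000000000000000000100000000000000000000000000000000000000000000000000000000000100000000000000000000400000000000000000000000000000000000000000000000000000000000000000000000000000000100000000000000000001000000000000000000004000000000300000000000000000004000000000000000000200000000000000000004000000000000000000000000000000000000000000000000000000000,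
  0x2000000000000000000000000000000000000000000000000000000000000000000000000000000000000000000000000000000000000000000001000000000000000000000000000000000000000000000000000000000000000000000000000000800000000000000000000000000000000000000000000040000000000000000002000000000000000000004000000000000000000200000000000000000001000000000000000000080000000000000000000040000000000000000002000000000000000000000000000000000000000000000000000000000000000000000000000000000000000080000000000000000000000000000000000000040000000100000000000000000008000000000000000000000000000000000000000000000000008000000004000000000000000000200000000000000000000400000000000000000020000000000000000000000000000000050000000000000000002d000000010000000000000000000800000000000000000000000000000000000000000000000000000000000000000000000000000000000000000000000000000000000000000000000000000000000000000000000000000000000000000000000000000000000000000000000000000000000000000000000000000000000000000000000000000000000000000000000000200000000000000000000000000000000000000000000000000000000000200000000000000000000800000000000000000000000000000000000000000000000000000000000000000000000000000000200000000000000000002000000000000000000008000000000100000000000000000008000000000000000000300000000000000000008000000000000000000000000000000000000000000000000000000000,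
  0x800000000000000000000000000000000000000000000000000000000000000000000000000000000000000000000000000000000000000000000400000000000000000000000000000000000000000000000000000000000000000000000000000200000000000000000000000000000000000000000000000000000000000000000000000000000100000000000000000000000000000000000000080000000000000000000000000000000000000040000000000000000000000000200000000000000000004000000000000000000080000000000000000001000000000000000000020000000000000000000400000000000000000008000000000000000000100000000000000000000800000000000000000010000000000000000000200000000000000000004000000000000000000020000000000000000000400000000000000000002000000000000000000040000000000000000000000000000000d40000000000000000010000000000000000000000000000000000000000000000000000000000000000000000000000000000000000000000000000000000000000000000000000000000000000000000000000000000000000000000000000000000000000000000000000000000000000000000000000000000000000000000000000000000000000000000000000000000000000000000000000000000000000000000000000000000000000000000000000000000000000001000000000000000000001000000000000000000004000000000000000000010000000000000000000100000000000000000001000000000000400000000000000000000000000000000000000800000000000000000010000000000000000000000000000000000000000000000000000000000,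
  0x20000000000000000000000000000000000000000000000000000000000000000000000000000000000000000000000000000000000000000000010000000000000000000000000000000000000000000000000000000000000000000000000000008000000000000000000000000000000000000000000000000000000000000000000000000000004000000000000000000000000000000000000002000000000000000000000000000000000000001000000300000000000000000008000000000000000000040000000000000000003000000000000000000010000000000000000000c0000000000000000000c0000000000000000002000000000000000000004000000000000000000300000000000000000003000000000000000000080000000000000000000300000000000000000008000000000000000000010000000000000000000c0000000000000000000000000000000400000000000000000025000000000000000000000000000000000000000000000000000000000000000000000000000000000000000000000000000000000000000000000000000000000000000000000000000000000000000000000000000000000000000000000000000000000000000000000000000000000000000000000000000000000000000000000000000000000000000000000000000000000000000000000000000000000000000000000000000000000000000002000000000000000000002000000000000000000008000000000000000000020000000000000000000200000000000000000002000000000000800000000000000000000000000000000000000c00000000000000000020000000000000000000000000000000000000000000000000000000000]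

/-- the form -/
def Jc : ℕ := 0x1000000000000000000080000000000000000004000000000000000000200000000000000000010000000000000000000800000000000000000040000000000000000002000000000000000000100000000000000000008000000000000000040000000000000000002000000000000000000000400000000000000000020000000000000000001000000000000000000080000000000000000100000000000000000008000000000000000000004000000000000000000200000000000000000400000000000000000020000000000000000000010000000000000000000800000000000000004000000000000000000200000000000000000040000000000000000002000000000000000001000000000000000000080000000000000000000001000000000000000000080000000000000000010000000000000000000800000000000000000100000000000000000008000000000000000000400000000000000000020000000000000000004000000000000000000200000000000000000010000000000000000000800000000000000000040000000000000000002000000000000000000100000000000000000008000000000000000000400000000000000000020000000000000000000000000000000000001000000000000000000080000000000000000004000000000000000000200000000000000000010000000000000000000800000000000000000040000000000000000002000000000000000000100000000000000000008000000000000000000400000000000000000020000000000000000001000000000000000000080000000000000000004000000000000000000200000000000000000010000000000000000000800000000000000000040000000000000000002000000000000000000100000000000000000008000000000000000000400000000000000000020000000000000000000000000380000000000000000008000000000000000000c00000000000000000020000000000000000000840000000000000000002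

/-- its inverse -/
def JI : ℕ := 0x100000000000000000008000000000000000000400000000000000000020000000000000000001000000000000000000080000000000000000004000000000000000000200000000000000000010000000000000000000800000000000000004000000000000000000200000000000000000000040000000000000000002000000000000000000100000000000000000008000000000000000010000000000000000000800000000000000000000400000000000000000020000000000000000040000000000000000002000000000000000000001000000000000000000080000000000000000400000000000000000020000000000000000004000000000000000000200000000000000000100000000000000000008000000000000000000000100000000000000000008000000000000000001000000000000000000080000000000000000010000000000000000000800000000000000000040000000000000000002000000000000000000400000000000000000020000000000000000001000000000000000000080000000000000000004000000000000000000200000000000000000010000000000000000000800000000000000000040000000000000000002000000000000000000000000000000000000100000000000000000008000000000000000000400000000000000000020000000000000000001000000000000000000080000000000000000004000000000000000000200000000000000000010000000000000000000800000000000000000040000000000000000002000000000000000000100000000000000000008000000000000000000400000000000000000020000000000000000001000000000000000000080000000000000000004000000000000000000200000000000000000010000000000000000000800000000000000000040000000000000000002000000000000000000000000010000000000000000000c000000000000000000400000000000000000031000000000000000000040000000000000000006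

/-- the generators, acting on rows -/
def MT : List ℕ := [
  0x800000000000000000010000000000000000000200000000000000000004000000000000000000080000000000000000001000000000000000000020000000000000000000400000000000000000008000000000000000000100000000000000000002000000000000000000040000000000000000020800000000000000000410000000000000000008200000000000000000104000000000000000002080000000000000000041000000000000000000020000000000000000000400000000000000000008000000000000000000100000000000000000002000000000000000000040000000000000000000800000000000000000010000000000000000000200000000000000000004000000000000000000280000000000000000005000000000000000000020000000000000000000400000000000000000008000000000000000000100000000000000000002000000000000000000040000000000000000000800000000000000000010000000000000000002200000000000000000044000000000000000000880000000000000000011000000000000000000020000000000000000000400000000000000000008000000000000000000100000000000000000002000000000000000000040000000000000000000800000000000000000030000000000000000000200000000000000000004000000000000000000080000000000000000003000000000000000000020000000000000000000400000000000000000008000000000000000000100000000000000000012000000000000000000240000000000000000000800000000000000000010000000000000000004200040000000000000024000000000000000000480000000000000000001000000000000000000020000000000000000000c000000000000000000080000000000000000001000000000000000000020000000000000000000c0000000000000000000800000000000000000010000000000000000000200000000000000000004000000000000004000080000000000000000001,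
  0x800000000000000000010000000000000000000200000000000000000004000000000000000000080000000000000000001000000000000000000020800000000000000000410000000000000000008200000000000000000104000000000000000002080000000000000000041000000000000000000800000000000000000010000000000000000000200000000000000000004000000000000000000080000000000000000001000000000000000000020000000000000000000400000000000000000008000000000000000000100000000000000000002000000000000000000040000000000000000000800000000000000000010000000000000000000280000000000000000005000000000000000000080000000000000000001000000000000000000020000000000000000000400000000000000000008000000000000000000100000000000000000002200000000000000000044000000000000000000880000000000000000011000000000000000000200000000000000000004000000000000000000080000000000000000001000000000000000000020000000000000000000400000000000000000008000000000000000000100000000000000000002000000000000000000040000000000000000000c000000000000000000100000000000000000002000000000000000000040000000000000000000c0000000000000000001000000000000000000020000000000000000000480000000000000000009000000000000000000108001000000000000002000000000000000000040000000000000000000900000000000000000012000000000000000000200000000000000000004000000000000000000080000000000000000001000000000000000000030000000000000000000400000000000000000008000000000000000000100000000000000000003000000000000000000040000000000000000000800000000000000000010000000000000000000200000000000000000004000000000000000200080000000000000000001,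
  0x8000000000000000000100000000000000000002000000000000000000040000000000000000000800000000000000000010000000000000000000a0000000000000000001400000000000000000008000000000000000000100000000000000000002000000000000000000040000000000000000000800000000000000000010000000000000000000200000000000000000004000000000000000000080000000000000000001000000000000000000220000000000000000004400000000000000000088000000000000000001100000000000000000002000000000000000000040000000000000000000800000000000000000010000000000000000000a0000000000000000001400000000000000000008000000000000000000100000000000000000002000000000000000000040000000000000000000800000000000000000010000000000000000000a0000000000000000001400000000000000000008000000000000000000100000000000000000002000000000000000000040000000000000000000800000000000000000010000000000000000000a0000000000000000001400000000000000000008000000000000000000100000000000000000002000000000000000000040000000000000000000800000000000000000010000000000000000000600000000000000000004000000000000000000180000000000000000001000000000000000000020000000000000000000c0000000000000000000800000000000000000030000000000000000000200000000000000000004000000000000000000180008000000000000001000000000000000000020000000000000000000c000000000000000000080000000000000000003000000000000000000020000000000000000000400000000000000000018000000000000000000100000000000000000006000000000000000000040000000000000001000800000000000000000010000000000000000000200000000000000000004000000000000000000080000000000000040001,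
  0x8000000000000000000100000000000000000002000000000000000000040000000000000000000a0000000000000000001400000000000000000020000000000000000000400000000000000000008000000000000000000100000000000000000002000000000000000000040000000000000000000800000000000000000010000000000000000000220000000000000000004400000000000000000088000000000000000001100000000000000000020000000000000000000400000000000000000008000000000000000000100000000000000000002000000000000000000040000000000000000000a0000000000000000001400000000000000000020000000000000000000400000000000000000008000000000000000000100000000000000000002000000000000000000040000000000000000000a0000000000000000001400000000000000000020000000000000000000400000000000000000008000000000000000000100000000000000000002000000000000000000040000000000000000000a000000000000000000140000000000000000002000000000000000000040000000000000000000800000000000000000010000000000000000000200000000000000000004000000000000000000080000000000000000001800000000000000000020000000000000000000600000000000000000008000000000000000000100000000000000000003000000000000000000040000000000000000000c0000000000000000001000000000000000000020000000000000000000600020000000000000008000000000000000000100000000000000000003000000000000000000040000000000000000000c0000000000000000001000000000000000000020000000000000000000600000000000000000008000000000000000000180000000000000000002000000000000000000040000000000000000800800000000000000000010000000000000000000200000000000000000004000000000000000000080000000000000020001,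
  0x800000000000000000010000000000000000000a0000000000000000001400000000000000000008000000000010000000100000000000000000002000000000008000000040000000000000000000800000000000000000010000000000000000000a00000000000000000014000000000000000000080000000004000000001000000000000000000020000000000000000000400000000000000000028000000000000000000500000000000000000002000000000000000000040000000000000000002800000000000000000050000000000000000000200000000000000000004000000000000000000080000000000000000001000000000000000000020000000000000000000400000000000000000008000000000000000000100000000000000000302000000000020000004040000000000400000080800000000000000001010000000000000000020200000000000000000404000000000000000000080000040000000000001000000000000000008020000000000000000100400000000000000000008000008000000000000100000000000000000002000004000000000000040000000000000000000800000000000000000010000000000000000000a000000000000000000140000000000000000000800000000000000000010000000000000000000200000000000000000004000000000000000000080000000000000000001000000040000000000120000000400000000002400000000000000000008000000000000000000100000000400000000042000000000000000000040000000000000000000800000000000000000010000000000000000000200000000000000000004000000000000000000080000000000000000001000000000000400000420000000000001000002400000000000010000048000000000000000000100000000000000000002000000000000000000040000003000000000000800000040000000000010000000000000000000200000000000000000004000000000000000000080000000000000000001,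
  0x800000000000000000010000000000000000000e0000000000000000002400000000000000000008000000000010000000100000000000400000002000000000008000000040000000000200000000800000000000000000010000000000000000000600000000000000000034000000000000000000080000000004000000001000000000100000000020000000000000000000400000000000000000018000000000000000000d000000000000000000020000000000000000000400000000000000000018000000000000000000d00000000000000000002000000000000000000040000000000000000000800000000000000000010000000000000000000200000000000000000004000000000000000000080000000000000000001000000000000000001020000000000300000080400000000008000000c080000000000000000201000000000000000003020000000000000000080400000000000000000008000004000000000000100000100000000000c02000000000000000020040000000000000000000800000800000000000010000020000000000000200000400000000000004000010000000000000080000000000000000001000000000000000000060000000000000000003400000000000000000008000000000000000000100000000000000000002000000000000000000040000000000000000000800000000000000000010000000c0000000000120000000c00000000002400000000000000000008000000000000000000100000000c00000000042000000000000000000040000000000000000000800000000000000000010000000000000000000200000000000000000004000000000000000000080000000000000000001000000000000c000004200000000000030000024000000000000300000480000000000000000001000000000000000000020000000000000000000400000020000000000008000000c0000000000010000000000000000000200000000000000000004000000000000000000080000000000000000001,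
  0x80000000000000000001000000000000000000060000000000000000003400000000000000000008000000000000000000100000000000400000002000000000000000000040000000000200000000800000000000000000010000000000000000000e0000000000000000002400000000000000000008000000000000000000100000000010000000002000000000000000000040000000000000000003800000000000000000090000000000000000000200000000000000000004000000000000000000380000000000000000009000000000000000000020000000000000000000400000000000000000008000000000000000000100000000000000000002000000000000000000040000000000000000000800000000000000000010000000000000000020200000000001000000c040000000000c00000040800000000000000003010000000000000000010200000000000000000c04000000000000000000080000000000000000001000001000000000004020000000000000000300400000000000000000008000000000000000000100000200000000000002000000000000000000040000100000000000000800000000000000000010000000000000000000e000000000000000000240000000000000000000800000000000000000010000000000000000000200000000000000000004000000000000000000080000000000000000001000000080000000000120000000800000000002400000000000000000008000000000000000000100000000800000000042000000000000000000040000000000000000000800000000000000000010000000000000000000200000000000000000004000000000000000000080000000000000000001000000000000800000420000000000002000002400000000000020000048000000000000000000100000000000000000002000000000000000000040000001000000000000800000080000000000010000000000000000000200000000000000000004000000000000000000080000000000000000001,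
  0xa0000000000000000001400000000000000000020000000000000000000400000000000000000008000000000002000000100000000000000000002000000000001000000040000000000000000000a00000000000000000014000000000000000000200000000000000000004000000000000000000080000000000200000001000000000000000000028000000000000000000500000000000000000008000000000000000000100000000000000000002800000000000000000050000000000000000000800000000000000000010000000000000000000203000000000030000004040000000000400000080800000000000000001010000000000000000020200000000000000000404000000000000000008020000000000000000100400000000000000002000000000000000000040000000000000000000800000000000000000010000000000000000000200000000000000000004000000000000000000080000002000000000001000000000000000000020000000000000000000400000000000000000008000001000000000000100000000000000000002000000800000000000040000000000000000000a000000000000000000140000000000000000002000000000000000000040000000000000000000800000000000000000010000000000000000000200000001000000000004800000010000000000090000000010000000001080000000000000000020000000000000000000400000000000000000008000000000000000000100000000000000000002000000000000000000040000000000000000000800000000000010000010800000000000000000200000000000000000004000000000000040000090000000000000400001200000000000000000020000000000000000000400000000000000000008000000000000000000100000000000000000002000000000000000000040000000020000000000800000000400000000010000000000000000000200000000000000000004000000000000000000080000000000000000001,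
  0xb000000000000000000180000000000000000002000000000000000000040000000000000000000800000000000000000010000000000008000000200000000000000000004000000000004000000090000000000000000001c0000000000000000002000000000000000000040000000000000000000800000000000000000010000000000080000000240000000000000000007000000000000000000080000000000000000001000000000000000000024000000000000000000700000000000000000008000000000000000000100000000000000000002020000000000100000040c0000000000800000080c0000000000000000102000000000000000002030000000000000000040800000000000000000803000000000000000010080000000000000000200000000000000000004000000000000000000080000000000000000001000000000000000000020000000000000000000400000000000000000008000000000000000000100000008000000000002000000000000000000040000000000000000000800000000000000000010000004000000000000200000000000000000004000002000000000000090000000000000000001c0000000000000000002000000000000000000040000000000000000000800000000000000000010000000000000000000200000002000000000004800000020000000000090000000020000000001080000000000000000020000000000000000000400000000000000000008000000000000000000100000000000000000002000000000000000000040000000000000000000800000000000020000010800000000000000000200000000000000000004000000000000080000090000000000000800001200000000000000000020000000000000000000400000000000000000008000000000000000000100000000000000000002000000000000000000040000000030000000000800000000800000000010000000000000000000200000000000000000004000000000000000000080000000000000000001,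
  0x90000000000000000001c00000000000000000020000000000000000000400000000000000000008000000000002000000100000000000080000002000000000001000000040000000000040000000b0000000000000000001800000000000000000020000000000000000000400000000000000000008000000000020000000100000000000800000002c000000000000000000600000000000000000008000000000000000000100000000000000000002c00000000000000000060000000000000000000800000000000000000010000000000000000000201000000000020000004080000000000c0000008040000000000000000103000000000000000002010000000000000000040c000000000000000008010000000000000000100c00000000000000002000000000000000000040000000000000000000800000000000000000010000000000000000000200000000000000000004000000000000000000080000002000000000001000000080000000000020000000000000000000400000000000000000008000001000000000000100000040000000000002000000800000000000040000020000000000000b0000000000000000001800000000000000000020000000000000000000400000000000000000008000000000000000000100000000000000000002000000030000000000048000000300000000000900000000300000000010800000000000000000200000000000000000004000000000000000000080000000000000000001000000000000000000020000000000000000000400000000000000000008000000000000300000108000000000000000002000000000000000000040000000000000c0000090000000000000c00001200000000000000000020000000000000000000400000000000000000008000000000000000000100000000000000000002000000000000000000040000000010000000000800000000c00000000010000000000000000000200000000000000000004000000000000000000080000000000000000001,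
  0x800000000000200000010000000000000000000200000000000000000004000000000000000000280000000000000000005000000000000000000020000000000000000000400000000000000000028000000000000000000500000000000000000002000000000010000000040000000000000000000800000000000000000010000000000000000000a0000000000000000001400000000000000000008000000000200000000100000000000000000002000000000000000000040000000000000000000800000000000000000010000000000000000002200000000000000000044000000000000000000c80000000000080000011000000000001000000020000000080000000000400000000000000000008000000010000000000100000000000000000002000000000000000000040000000000000000002800000000000000000050000000000000000000200000000000000000004000000000000000000280000000000000000005000000000000000000020000000000000000000400000000000000000028000000000000000000500000000000000000002000000000000000000040000000000000000002800000000000000000050000000000000000000200000800000000000004000000000000000000080000000000000000001000000000000000000020000001000000000000c0000000000000000000800000000000000000010000000000000000000200000000000000000004000000010000000000180000000000000000001000000000000000000020000000010000000000c000000000000000000080000000000400000003000000000000000000020000000000000000000400000000004000000018000000000000000000100000000000000000002000000000000000000040000000000000000000800000000000004000030000000000000000000200000000000000000004000000000000000000080000000000000000001000000c000000000000200000100000000000004000004000000000000080000000000000000001,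
  0x80000000000020000001000000000000800000020000000000000000000400000000000000000018000000000000000000d000000000000000000020000000000000000000400000000000000000038000000000000000000900000000000000000002000000000010000000040000000000400000000800000000000000000010000000000000000000e00000000000000000024000000000000000000080000000002000000001000000000080000000020000000000000000000400000000000000000008000000000000000000100000000000000000012000000000000000000c40000000000000000004800000000000c000002100000000000200000002000000008000000000040000000200000000000800000001000000000010000000040000000000200000000000000000004000000000000000000380000000000000000009000000000000000000020000000000000000000400000000000000000018000000000000000000d000000000000000000020000000000000000000400000000000000000018000000000000000000d00000000000000000002000000000000000000040000000000000000003800000000000000000090000000000000000000200000800000000000004000020000000000000080000000000000000001000000000000000000020000003000000000000c0000000000000000000800000000000000000010000000000000000000200000000000000000004000000030000000000180000000000000000001000000000000000000020000000030000000000c000000000000000000080000000000c0000000300000000000000000002000000000000000000040000000000c00000001800000000000000000010000000000000000000200000000000000000004000000000000000000080000000000000c000030000000000000000000200000000000000000004000000000000000000080000000000000000001000000800000000000020000030000000000000400000c000000000000080000000000000000001,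
  0x800000000000000000010000000000008000000200000000000000000004000000000000000000380000000000000000009000000000000000000020000000000000000000400000000000000000018000000000000000000d00000000000000000002000000000000000000040000000000400000000800000000000000000010000000000000000000600000000000000000034000000000000000000080000000000000000001000000000080000000020000000000000000000400000000000000000008000000000000000000100000000000000000032000000000000000000840000000000000000008800000000000400000310000000000030000000200000000000000000004000000020000000000080000000000000000001000000004000000000020000000000000000000400000000000000000018000000000000000000d00000000000000000002000000000000000000040000000000000000003800000000000000000090000000000000000000200000000000000000004000000000000000000380000000000000000009000000000000000000020000000000000000000400000000000000000018000000000000000000d0000000000000000000200000000000000000004000020000000000000080000000000000000001000000000000000000020000002000000000000c0000000000000000000800000000000000000010000000000000000000200000000000000000004000000020000000000180000000000000000001000000000000000000020000000020000000000c0000000000000000000800000000008000000030000000000000000000200000000000000000004000000000080000000180000000000000000001000000000000000000020000000000000000000400000000000000000008000000000000080000300000000000000000002000000000000000000040000000000000000000800000000000000000010000004000000000000200000200000000000004000008000000000000080000000000000000001,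
  0x800000000000100000010000000000000000000280000000000000000005000000000000000000080000000000000000001000000000000000000028000000000000000000500000000000000000008000000000000000000100000000000000000002000000000008000000040000000000000000000a00000000000000000014000000000000000000200000000000000000004000000000000000000080000000001000000001000000000000000000022000000000000000000440000000000000000008c00000000000c00000110000000000010000002000000000000000000040000000000000000000800000000000000000010000000000000000000200000000400000000004000000000000000000080000000080000000001000000000000000000028000000000000000000500000000000000000008000000000000000000100000000000000000002800000000000000000050000000000000000000800000000000000000010000000000000000000280000000000000000005000000000000000000080000000000000000001000000000000000000028000000000000000000500000000000000000008000000000000000000100000000000000000002000004000000000000040000000000000000000800000000000000000010000000400000000000300000000000000000004000000000000000000080000000000000000001000000000000000000020000000040000000000600000000000000000008000000000000000000100000000040000000003000000000000000000040000000000100000000c0000000000000000001000000000000000000020000000000100000000600000000000000000008000000000000000000100000000000000000002000000000000000000040000000000000100000c000000000000000000100000000000000000002000000000000000000040000000000000000000800000000000000000010000000800000000000200000010000000000004000000400000000000080000000000000000001,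
  0x80000000000000000001000000000000400000024000000000000000000700000000000000000008000000000000000000100000000000000000002c000000000000000000600000000000000000008000000000000000000100000000000000000002000000000000000000040000000000200000000b000000000000000000180000000000000000002000000000000000000040000000000000000000800000000000000000010000000000400000000210000000000000000004c000000000000000000880000000000040000013000000000002000000200000000000000000004000000000000000000080000000000000000001000000000000000000020000000000000000000400000001000000000008000000000000000000100000000200000000002c00000000000000000060000000000000000000800000000000000000010000000000000000000240000000000000000007000000000000000000080000000000000000001000000000000000000024000000000000000000700000000000000000008000000000000000000100000000000000000002c000000000000000000600000000000000000008000000000000000000100000000000000000002000000000000000000040000100000000000000800000000000000000010000000800000000000300000000000000000004000000000000000000080000000000000000001000000000000000000020000000080000000000600000000000000000008000000000000000000100000000080000000003000000000000000000040000000000200000000c0000000000000000001000000000000000000020000000000200000000600000000000000000008000000000000000000100000000000000000002000000000000000000040000000000000200000c000000000000000000100000000000000000002000000000000000000040000000000000000000800000000000000000010000000c00000000000200000020000000000004000000800000000000080000000000000000001,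
  0x8000000000001000000100000000000040000002c000000000000000000600000000000000000008000000000000000000100000000000000000002400000000000000000070000000000000000000800000000000000000010000000000000000000200000000000800000004000000000020000000090000000000000000001c000000000000000000200000000000000000004000000000000000000080000000001000000001000000000040000000023000000000000000000480000000000000000008400000000000800000120000000000030000002000000000000000000040000000000000000000800000000000000000010000000000000000000200000000400000000004000000010000000000080000000080000000001000000002000000000024000000000000000000700000000000000000008000000000000000000100000000000000000002c000000000000000000600000000000000000008000000000000000000100000000000000000002c0000000000000000006000000000000000000080000000000000000001000000000000000000024000000000000000000700000000000000000008000000000000000000100000000000000000002000004000000000000040000100000000000000800000000000000000010000000c000000000003000000000000000000040000000000000000000800000000000000000010000000000000000000200000000c00000000006000000000000000000080000000000000000001000000000c0000000003000000000000000000040000000000300000000c0000000000000000001000000000000000000020000000000300000000600000000000000000008000000000000000000100000000000000000002000000000000000000040000000000000300000c000000000000000000100000000000000000002000000000000000000040000000000000000000800000000000000000010000000400000000000200000030000000000004000000c00000000000080000000000000000001]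

/-- spanning vectors -/
def vs : List ℕ := [
  0x100000,
  0x108001,
  0x300000,
  0x8000,
  0x348001,
  0x12c001,
  0x40000000000700000,
  0xc0000000000700000,
  0x80000000000700000,
  0xc000,
  0x24c003,
  0x410000000007c8001,
  0xc30000000007c8001,
  0x820000000007c8001,
  0x500000013e001,
  0xa00000013e001,
  0xf00000013e001,
  0x40000000000d00000,
  0x540000000002700000,
  0xf40000000002700000,
  0xa40000000002700000,
  0x7c0000000002700000,
  0xec0000000002700000,
  0x100000000e000,
  0x200000000e000,
  0x300000000e000,
  0x411000000006cc003,
  0xc33000000006cc003,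
  0x1100000024e003,
  0x2200000024e003,
  0x5550000000037c8001,
  0xf7d0000000037c8001,
  0xa690000000037c8001,
  0x7df0000000037c8001,
  0xefb0000000037c8001,
  0x500000011b001,
  0x505500013ec01,
  0x50aa00013ec01,
  0x50ff00013ec01,
  0xa09900013ec01,
  0xa0ee00013ec01,
  0x1540000000006d00000,
  0x3f40000000006d00000,
  0x2a40000000006d00000,
  0x100500000e400,
  0x100a00000e400,
  0x100f00000e400,
  0x200900000e400,
  0x200e00000e400,
  0x5555000000036cc003,
  0xf7dd000000036cc003,
  0x10100000048e013,
  0xc31120000006ce023,
  0x1110500024e403,
  0x1120a00024e403,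
  0x505540011be01,
  0x50aa80011be01,
  0x50ffc0011be01,
  0x1514000000000ed00000,
  0x3dd4000000000e900000,
  0x2994000000000e900000,
  0x1f34000000000ed00000,
  0x3bb4000000000e900000,
  0x41054100000348e013,
  0x7df5d20000036ce023,
  0x10140500048e413,
  0x10180a00048e413,
  0x504454011bf01,
  0x5066680109f01,
  0x50777c0109f01,
  0x5088a4011bf01,
  0x50bbb80109f01,
  0x1514000000001a700000,
  0x44100500300e417,
  0xc3064140a00348e41b,
  0x504454013ed81,
  0x1514000000003a700000,
  0x40405401309c0]

/-- vector number `k + 1` is the image of vector number `(tree k).1` under generator number `(tree k).2` -/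
def tree : List (ℕ × ℕ) := [
  (0, 1),
  (0, 2),
  (1, 0),
  (1, 2),
  (1, 3),
  (2, 10),
  (2, 11),
  (2, 12),
  (3, 3),
  (4, 3),
  (4, 10),
  (4, 11),
  (4, 12),
  (5, 13),
  (5, 14),
  (5, 15),
  (6, 2),
  (6, 4),
  (6, 5),
  (6, 6),
  (7, 4),
  (7, 5),
  (9, 13),
  (9, 14),
  (9, 15),
  (10, 10),
  (10, 11),
  (10, 13),
  (10, 14),
  (11, 4),
  (11, 5),
  (11, 6),
  (12, 4),
  (12, 5),
  (14, 3),
  (14, 7),
  (14, 8),
  (14, 9),
  (15, 7),
  (15, 8),
  (17, 4),
  (17, 5),
  (17, 6),
  (23, 7),
  (23, 8),
  (23, 9),
  (24, 7),
  (24, 8),
  (26, 4),
  (26, 5),
  (26, 13),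
  (26, 14),
  (28, 7),
  (28, 8),
  (35, 7),
  (35, 8),
  (35, 9),
  (41, 10),
  (41, 11),
  (41, 12),
  (42, 10),
  (42, 11),
  (49, 13),
  (49, 14),
  (51, 7),
  (51, 8),
  (55, 13),
  (55, 14),
  (55, 15),
  (56, 13),
  (56, 14),
  (58, 2),
  (63, 7),
  (63, 8),
  (67, 3),
  (72, 0),
  (75, 1)]

/-- inverse of the matrix of the spanning vectors -/
def VI : ℕ := 0xa00018000140041000050000600002800c000009000180000a0030000048000600007800000000000018000030000000000000c000018000000000000000000a0030000000000000005000c00000000000000090030000000000000004800c000000000000000000300000000000000000018000000000000a00a0630000000000005005018c00000000000090090630000000000004804818c0000000000000000063000000000000000003180000000180003000000000000002000044000800000000000000300060000000000000004000c1000060060001b00000000000800a0004840018000000000000008400180000000000000108006000000000000000a05000000000000000030180000000000000000a000000000000000000300000000100020800002000000002000810000080000000000100800042000000000002010001080000000000006c6c000000000000000121200180c00000000007878000000000000000141400180c00000000006c00000000000000000120000180000000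000007800000000000000000140000180000000000a00014000000000000030000600000000003600000050000030000090018001e00000000003c000000780000700800a0018000a00000c0004400000000000000000010004000e00001c00000000700008000000000000000000e00001e00400000000000000070010000000000001c01c08400000000000000008011400000000000000001c40000000000000000001400000000000000000010000000000000000e7500000000000000000017000000000000000008a8000000000000381c2200000000000000000002000000000000000002080000000000000e000800000000000080000402200000001c1c002010000000000070000080000000000e0001e000010000038008000000000000020200e0001c000000002800000150000180000b000000400000560070000000008000004803212100a0020c00a200030402008000100504802c0000000000000000001864000000000000000000b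

end Cfsg.Agent.TwoESix.ExtData
end

-- part: TwoESix/ExtAlg
section
/-!
# Extremal elements of a symplectic algebra over the field with two elements

`Alg V` : an alternating product `br` and a nondegenerate alternating form `B` on `V`, `B [x,y] z = B x [y,z]`.
`IsExt z` : extremal elements, `g z` : the involution `v ↦ v + [z,v] + B(z,v) z`, `Aut` : the automorphism group.
-/

set_option autoImplicit false

namespace Cfsg.Agent.TwoESix.ExtAlg

/-- An alternating product with an invariant nondegenerate alternating form. -/
structure Alg (V : Type*) [AddCommGroup V] [Module (ZMod 2) V] where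
  /-- the product -/
  br : V →ₗ[ZMod 2] V →ₗ[ZMod 2] V
  /-- the form -/
  B : V →ₗ[ZMod 2] V →ₗ[ZMod 2] ZMod 2
  br_self : ∀ x, br x x = 0
  B_self : ∀ x, B x x = 0
  nondeg : ∀ x, (∀ y, B x y = 0) → x = 0
  inv : ∀ x y z, B (br x y) z = B x (br y z)

theorem z2 (a : ZMod 2) : a = 0 ∨ a = 1 := by
  revert a
  decide

section

variable {V : Type*} [AddCommGroup V] [Module (ZMod 2) V]

theorem dbl (x : V) : x + x = 0 := ZModModule.add_self x

theorem dbl' (x y : V) : x + (x + y) = y := by rw [← add_assoc, dbl, zero_add]

theorem eq_of_add {x y : V} (h : x + y = 0) : x = y := by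
  rw [← add_zero x, ← dbl y, ← add_assoc, h, zero_add]

theorem ngt (x : V) : -x = x := ZModModule.neg_eq_self x

end

namespace Alg

variable {V : Type*} [AddCommGroup V] [Module (ZMod 2) V] (A : Alg V)

theorem br_comm (x y : V) : A.br x y = A.br y x := by
  have h := A.br_self (x + y)
  simp only [map_add, LinearMap.add_apply, A.br_self, zero_add, add_zero] at h
  exact eq_of_add ((add_comm _ _).trans h)

theorem B_comm (x y : V) : A.B x y = A.B y x := by
  have h := A.B_self (x + y)
  simp only [map_add, LinearMap.add_apply, A.B_self, zero_add, add_zero] at h
  exact eq_of_add ((add_comm _ _).trans h)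

/-- the form and `[x,y]` with `y` repeated -/
theorem B_br_self (x y : V) : A.B (A.br x y) y = 0 := by rw [A.inv, A.br_self, map_zero]

theorem B_self_br (x y : V) : A.B x (A.br x y) = 0 := by
  rw [A.br_comm, A.B_comm, A.B_br_self]

theorem eq_of_B {x y : V} (h : ∀ v, A.B x v = A.B y v) : x = y := by
  apply eq_of_add
  apply A.nondeg
  intro v
  rw [map_add, LinearMap.add_apply, h v]
  exact dbl _

/-- Extremal elements. -/
structure IsExt (z : V) : Prop where
  ne : z ≠ 0
  sq : ∀ v, A.br z (A.br z v) = 0
  der : ∀ v w, A.br z (A.br v w) = A.br (A.br z v) w + A.br v (A.br z w)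
  quad : ∀ v w, A.br (A.br z v) (A.br z w) = A.B z (A.br v w) • z + A.B z w • A.br z v + A.B z v • A.br z w

/-- the linear map `v ↦ v + [z,v] + B(z,v) z` -/
def gm (z : V) : V →ₗ[ZMod 2] V := LinearMap.id + A.br z + (A.B z).smulRight z

theorem gm_apply (z v : V) : A.gm z v = v + A.br z v + A.B z v • z := rfl

variable {A}

theorem IsExt.gm_gm {z : V} (h : A.IsExt z) (v : V) : A.gm z (A.gm z v) = v := by
  simp only [gm_apply, map_add, map_smul, h.sq, A.br_self, A.B_self, A.B_self_br, smul_zero, zero_smul, add_zero]
  have h1 := dbl (A.br z v)
  have h2 := dbl (A.B z v • z)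
  calc v + A.br z v + A.B z v • z + A.br z v + A.B z v • z
      = v + (A.br z v + A.br z v) + (A.B z v • z + A.B z v • z) := by abel
    _ = v := by rw [h1, h2, add_zero, add_zero]

variable (A)

/-- the automorphism group -/
def Aut : Subgroup (V ≃ₗ[ZMod 2] V) where
  carrier := {n | (∀ x y, n (A.br x y) = A.br (n x) (n y)) ∧ ∀ x y, A.B (n x) (n y) = A.B x y}
  mul_mem' {a b} ha hb := ⟨fun x y => by
    rw [LinearEquiv.mul_apply, hb.1, ha.1]; rfl, fun x y => by
    rw [LinearEquiv.mul_apply, LinearEquiv.mul_apply, ha.2, hb.2]⟩
  one_mem' := ⟨fun _ _ => rfl, fun _ _ => rfl⟩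
  inv_mem' {a} ha := by
    have h1 : ∀ x, a (a⁻¹ x) = x := fun x => by rw [← LinearEquiv.mul_apply, mul_inv_cancel]; rfl
    refine ⟨fun x y => ?_, fun x y => ?_⟩
    · apply a.injective
      rw [h1, ha.1, h1, h1]
    · rw [← ha.2, h1, h1]

variable {A}

theorem Aut_br {n : V ≃ₗ[ZMod 2] V} (h : n ∈ A.Aut) (x y : V) : n (A.br x y) = A.br (n x) (n y) := h.1 x y
theorem Aut_B {n : V ≃ₗ[ZMod 2] V} (h : n ∈ A.Aut) (x y : V) : A.B (n x) (n y) = A.B x y := h.2 x y

theorem apply_inv (n : V ≃ₗ[ZMod 2] V) (x : V) : n (n⁻¹ x) = x := by
  rw [← LinearEquiv.mul_apply, mul_inv_cancel]; rfl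
theorem inv_apply (n : V ≃ₗ[ZMod 2] V) (x : V) : n⁻¹ (n x) = x := by
  rw [← LinearEquiv.mul_apply, inv_mul_cancel]; rfl

theorem IsExt.map {z : V} (h : A.IsExt z) {n : V ≃ₗ[ZMod 2] V} (hn : n ∈ A.Aut) : A.IsExt (n z) where
  ne h0 := h.ne (n.map_eq_zero_iff.1 h0)
  sq v := by
    obtain ⟨v, rfl⟩ := n.surjective v
    rw [← Aut_br hn, ← Aut_br hn, h.sq, map_zero]
  der v w := by
    obtain ⟨v, rfl⟩ := n.surjective v
    obtain ⟨w, rfl⟩ := n.surjective w
    rw [← Aut_br hn, ← Aut_br hn, ← Aut_br hn, ← Aut_br hn, ← Aut_br hn, ← Aut_br hn, h.der, map_add]
  quad v w := by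
    obtain ⟨v, rfl⟩ := n.surjective v
    obtain ⟨w, rfl⟩ := n.surjective w
    rw [← Aut_br hn, ← Aut_br hn, ← Aut_br hn, ← Aut_br hn, Aut_B hn, Aut_B hn, Aut_B hn, h.quad,
      map_add, map_add, map_smul, map_smul, map_smul]

variable (A)

open Classical in
/-- the involution of an extremal element -/
noncomputable def g (z : V) : V ≃ₗ[ZMod 2] V :=
  if h : A.IsExt z then LinearEquiv.ofInvolutive (A.gm z) (fun v => h.gm_gm v) else 1

variable {A}

theorem g_apply {z : V} (h : A.IsExt z) (v : V) : A.g z v = v + A.br z v + A.B z v • z := by
  unfold g
  rw [dif_pos h]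
  rfl

theorem g_sq (z : V) : A.g z * A.g z = 1 := by
  by_cases h : A.IsExt z
  · ext v
    unfold g
    rw [dif_pos h]
    exact h.gm_gm v
  · unfold g
    rw [dif_neg h, mul_one]

theorem g_inv (z : V) : (A.g z)⁻¹ = A.g z := inv_eq_of_mul_eq_one_left (g_sq z)

theorem g_g (z v : V) : A.g z (A.g z v) = v := by
  rw [← LinearEquiv.mul_apply, g_sq]; rfl

theorem g_self {z : V} (h : A.IsExt z) : A.g z z = z := by
  rw [g_apply h, A.br_self, A.B_self, zero_smul, add_zero, add_zero]

/-- `[z,[v,w]] + …`: the involution of an extremal element preserves the product -/
theorem g_br {z : V} (h : A.IsExt z) (v w : V) : A.g z (A.br v w) = A.br (A.g z v) (A.g z w) := by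
  rw [g_apply h, g_apply h, g_apply h, h.der]
  simp only [map_add, map_smul, LinearMap.add_apply, LinearMap.smul_apply, A.br_self, smul_zero, add_zero]
  have h1 : A.br (A.br z v) z = 0 := by rw [A.br_comm, h.sq]
  have h2 : A.br v z = A.br z v := A.br_comm _ _
  have h3 : A.br z (A.br z w) = 0 := h.sq w
  rw [h1, h2, h3, h.quad]
  simp only [smul_zero, add_zero]
  abel_nf
  have h4 : ∀ x : V, (2 : ℤ) • x = 0 := fun x => by rw [two_smul]; exact dbl x
  simp [h4]

theorem g_B {z : V} (h : A.IsExt z) (v w : V) : A.B (A.g z v) (A.g z w) = A.B v w := by
  rw [g_apply h, g_apply h]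
  simp only [map_add, map_smul, LinearMap.add_apply, LinearMap.smul_apply, A.B_self, smul_zero, add_zero]
  have h1 : A.B (A.br z v) z = 0 := by rw [A.br_comm, A.B_br_self]
  have h2 : A.B z (A.br z w) = 0 := A.B_self_br _ _
  have h3 : A.B (A.br z v) (A.br z w) = 0 := by
    rw [A.br_comm z v, A.inv, h.sq, map_zero]
  have h4 : A.B v (A.br z w) = A.B (A.br z v) w := by rw [← A.inv, A.br_comm v z]
  have h5 : A.B v z = A.B z v := A.B_comm _ _
  rw [h1, h2, h3, h4, h5]
  simp only [smul_eq_mul, mul_zero, add_zero]
  generalize A.B v w = a
  generalize A.B (A.br z v) w = b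
  generalize A.B z v = c
  generalize A.B z w = d
  revert a b c d
  decide

theorem g_mem {z : V} (h : A.IsExt z) : A.g z ∈ A.Aut := ⟨g_br h, g_B h⟩

theorem g_map {z : V} (h : A.IsExt z) {n : V ≃ₗ[ZMod 2] V} (hn : n ∈ A.Aut) : A.g (n z) = n * A.g z * n⁻¹ := by
  ext v
  obtain ⟨v, rfl⟩ := n.surjective v
  rw [LinearEquiv.mul_apply, LinearEquiv.mul_apply, inv_apply, g_apply (h.map hn), g_apply h, ← Aut_br hn,
    Aut_B hn, map_add, map_add, map_smul]

theorem g_inj {x y : V} (hx : A.IsExt x) (hy : A.IsExt y) (h : A.g x = A.g y) : x = y := by
  apply A.eq_of_B
  intro v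
  have h1 : A.B (A.g x v) v = A.B (A.g y v) v := by rw [h]
  rw [g_apply hx, g_apply hy] at h1
  simp only [map_add, map_smul, LinearMap.add_apply, LinearMap.smul_apply, A.B_self, A.B_br_self] at h1
  revert h1
  generalize A.B x v = a
  generalize A.B y v = b
  revert a b
  decide

theorem g_ne_one {x : V} (hx : A.IsExt x) : A.g x ≠ 1 := by
  intro h
  apply hx.ne
  apply A.nondeg
  intro v
  have h1 : A.B (A.g x v) v = A.B v v := by rw [h]; rfl
  rw [g_apply hx] at h1
  simp only [map_add, map_smul, LinearMap.add_apply, LinearMap.smul_apply, A.B_self, A.B_br_self] at h1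
  revert h1
  generalize A.B x v = a
  revert a
  decide

/-! ### Pairs -/

theorem g_apply_of_one {x y : V} (hx : A.IsExt x) (h : A.B x y = 1) : A.g x y = y + A.br x y + x := by
  rw [g_apply hx, h, one_smul]

theorem g_apply_of_zero {x y : V} (hx : A.IsExt x) (h : A.B x y = 0) : A.g x y = y + A.br x y := by
  rw [g_apply hx, h, zero_smul, add_zero]

theorem comm_iff {x y : V} (hx : A.IsExt x) (hy : A.IsExt y) : A.g x * A.g y = A.g y * A.g x ↔ A.g x y = y := by
  have h1 := g_map hy (g_mem hx)
  rw [g_inv] at h1
  constructor
  · intro h
    apply g_inj (hy.map (g_mem hx)) hy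
    rw [h1, h, mul_assoc, g_sq, mul_one]
  · intro h
    rw [h] at h1
    calc A.g x * A.g y = A.g x * A.g y * (A.g x * A.g x) := by rw [g_sq, mul_one]
      _ = (A.g x * A.g y * A.g x) * A.g x := by group
      _ = A.g y * A.g x := by rw [← h1]

theorem fix_iff {x y : V} (hx : A.IsExt x) : A.g x y = y ↔ A.B x y = 0 ∧ A.br x y = 0 := by
  rw [g_apply hx]
  constructor
  · intro h
    have h1 : A.br x y + A.B x y • x = 0 := by
      have h0 : y + (y + A.br x y + A.B x y • x) = y + y := by rw [h]
      rwa [add_assoc y, dbl', dbl] at h0
    have h2 : A.B (A.br x y + A.B x y • x) y = 0 := by rw [h1]; simp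
    simp only [map_add, map_smul, LinearMap.add_apply, LinearMap.smul_apply, A.B_br_self] at h2
    have h3 : A.B x y = 0 := by
      revert h2
      generalize A.B x y = a
      revert a
      decide
    rw [h3, zero_smul, add_zero] at h1
    exact ⟨h3, h1⟩
  · rintro ⟨h1, h2⟩
    rw [h1, h2, zero_smul, add_zero, add_zero]

theorem swap {x y : V} (hx : A.IsExt x) (hy : A.IsExt y) (h : A.B x y = 1) : A.g x y = A.g y x := by
  rw [g_apply_of_one hx h, g_apply_of_one hy (by rw [A.B_comm, h]), A.br_comm y x]
  abel

theorem braid {x y : V} (hx : A.IsExt x) (hy : A.IsExt y) (h : A.B x y = 1) :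
    A.g x * A.g y * A.g x = A.g y * A.g x * A.g y := by
  have h1 := g_map hy (g_mem hx)
  have h2 := g_map hx (g_mem hy)
  rw [g_inv] at h1 h2
  rw [← h1, ← h2, swap hx hy h]

theorem pow_three_of_braid {G : Type*} [Group G] {a b : G} (ha : a * a = 1) (hb : b * b = 1)
    (h : a * b * a = b * a * b) : (a * b) ^ 3 = 1 := by
  calc (a * b) ^ 3 = (a * b * a) * (b * a * b) := by simp only [pow_succ, pow_zero, one_mul, mul_assoc]
    _ = (a * b * a) * (a * b * a) := by rw [h]
    _ = a * b * (a * a) * b * a := by group
    _ = a * (b * b) * a := by rw [ha]; group
    _ = 1 := by rw [hb, mul_one, ha]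

theorem braid_of_pow_three {G : Type*} [Group G] {a b : G} (ha : a * a = 1) (hb : b * b = 1)
    (h : (a * b) ^ 3 = 1) : a * b * a = b * a * b := by
  have h1 : (a * b * a) * (b * a * b) = 1 := by
    rw [← h]; simp only [pow_succ, pow_zero, one_mul, mul_assoc]
  have h2 : (b * a * b) * (b * a * b) = 1 := by
    calc (b * a * b) * (b * a * b) = b * a * (b * b) * a * b := by group
      _ = b * (a * a) * b := by rw [hb]; group
      _ = 1 := by rw [ha, mul_one, hb]
  calc a * b * a = a * b * a * ((b * a * b) * (b * a * b)) := by rw [h2, mul_one]
    _ = (a * b * a) * (b * a * b) * (b * a * b) := by group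
    _ = b * a * b := by rw [h1, one_mul]

theorem opp_iff {x y : V} (hx : A.IsExt x) (hy : A.IsExt y) :
    A.B x y = 1 ↔ ((A.g x * A.g y) ^ 3 = 1 ∧ A.g x ≠ A.g y) := by
  constructor
  · intro h
    refine ⟨pow_three_of_braid (g_sq _) (g_sq _) (braid hx hy h), fun h' => ?_⟩
    have := g_inj hx hy h'
    rw [this, A.B_self] at h
    exact zero_ne_one h
  · rintro ⟨h1, h2⟩
    rcases z2 (A.B x y) with h | h
    · exfalso
      apply h2
      have h3 := braid_of_pow_three (g_sq _) (g_sq _) h1
      have h4 := g_map hy (g_mem hx)
      have h5 := g_map hx (g_mem hy)
      rw [g_inv] at h4 h5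
      rw [← h4, ← h5] at h3
      have h6 := g_inj (hy.map (g_mem hx)) (hx.map (g_mem hy)) h3
      rw [g_apply_of_zero hx h, g_apply_of_zero hy (by rw [A.B_comm, h]), A.br_comm y x] at h6
      have h7 := add_right_cancel h6
      rw [h7]
    · exact h

/-- two root involutions have product of order 1, 2, 3 or 4 -/
theorem pow_four {x y : V} (hx : A.IsExt x) (hy : A.IsExt y) (h : A.B x y = 0) : (A.g x * A.g y) ^ 4 = 1 := by
  have h1 := g_map hx (g_mem hy)
  rw [g_inv] at h1
  have h2 : A.g x * A.g (A.g y x) = A.g (A.g y x) * A.g x := by
    rw [comm_iff hx (hx.map (g_mem hy)), fix_iff hx, g_apply_of_zero hy (by rw [A.B_comm, h])]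
    rw [map_add, map_add, A.B_self, A.br_self, A.br_comm y x, hx.sq, A.B_self_br]
    simp
  have h3 : A.g x * A.g y * (A.g x * A.g y) = A.g x * A.g (A.g y x) := by rw [h1]; group
  calc (A.g x * A.g y) ^ 4 = (A.g x * A.g y * (A.g x * A.g y)) * (A.g x * A.g y * (A.g x * A.g y)) := by
        simp only [pow_succ, pow_zero, one_mul, mul_assoc]
    _ = (A.g x * A.g (A.g y x)) * (A.g x * A.g (A.g y x)) := by rw [h3]
    _ = A.g x * (A.g (A.g y x) * A.g x) * A.g (A.g y x) := by group
    _ = A.g x * (A.g x * A.g (A.g y x)) * A.g (A.g y x) := by rw [h2]
    _ = (A.g x * A.g x) * (A.g (A.g y x) * A.g (A.g y x)) := by group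
    _ = 1 := by rw [g_sq, g_sq, one_mul]

variable (A)

/-- root involutions -/
def R : Set (V ≃ₗ[ZMod 2] V) := {t | ∃ z, A.IsExt z ∧ A.g z = t}

/-- the group generated by the root involutions -/
def E : Subgroup (V ≃ₗ[ZMod 2] V) := Subgroup.closure A.R

variable {A}

theorem g_mem_R {z : V} (h : A.IsExt z) : A.g z ∈ A.R := ⟨z, h, rfl⟩

theorem E_le : A.E ≤ A.Aut := by
  unfold E
  rw [Subgroup.closure_le]
  rintro _ ⟨z, hz, rfl⟩
  exact g_mem hz

theorem R_conj {n : V ≃ₗ[ZMod 2] V} (hn : n ∈ A.Aut) {t : V ≃ₗ[ZMod 2] V} (ht : t ∈ A.R) : n * t * n⁻¹ ∈ A.R := by
  obtain ⟨z, hz, rfl⟩ := ht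
  exact ⟨n z, hz.map hn, g_map hz hn⟩

open Classical in
/-- the extremal element of a root involution -/
noncomputable def vec (t : V ≃ₗ[ZMod 2] V) : V := if h : t ∈ A.R then h.choose else 0

end Alg

end Cfsg.Agent.TwoESix.ExtAlg
end

-- part: TwoESix/ExtModelA
section
/-!
# The algebra on the 78-dimensional module: product and form
-/

set_option autoImplicit false

namespace Cfsg.Agent.TwoESix.ExtModel

open Cfsg.Agent.Lib Cfsg.Agent.Lib.F2Mat
open Cfsg.Agent.TwoESix.ExtCode Cfsg.Agent.TwoESix.ExtData Cfsg.Agent.TwoESix.ExtAlg

theorem AD_length : AD.length = 78 := by decide +kernel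

/-- the operator of the product with the coded vector `v` -/
def adc (v : ℕ) : ℕ := force v fun v => sel AD v 0

/-- coordinate functional -/
def cf (i : Fin 78) : V →ₗ[ZMod 2] ZMod 2 := (LinearMap.proj i).comp coL.toLinearMap

/-- the product -/
noncomputable def br : V →ₗ[ZMod 2] V →ₗ[ZMod 2] V :=
  ∑ i : Fin 78, (cf i).smulRight (op (AD.getD i 0))

theorem br_apply (x y : V) : br x y = ∑ i : Fin 78, co x i • op (AD.getD i 0) y := by
  unfold br
  rw [LinearMap.sum_apply, LinearMap.sum_apply]
  rfl

theorem br_vc (v : ℕ) (y : V) : br (vc v) y = op (adc v) y := by
  rw [br_apply, adc, force_eq, op_sel' AD_length]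

theorem br_vc_vc (v w : ℕ) : br (vc v) (vc w) = vc (vmul 78 w (adc v)) := by rw [br_vc, op_vc]

theorem br_e (i : Fin 78) (y : V) : br (e i) y = op (AD.getD i 0) y := by
  rw [br_apply, Finset.sum_eq_single i]
  · rw [co_e, Pi.single_eq_same, one_smul]
  · intro j _ hj
    rw [co_e, Pi.single_eq_of_ne hj, zero_smul]
  · intro h
    exact absurd (Finset.mem_univ i) h

/-- the form -/
noncomputable def bil : V →ₗ[ZMod 2] V →ₗ[ZMod 2] ZMod 2 :=
  LinearMap.mk₂ (ZMod 2) (fun x y => co (op Jc x) ⬝ᵥ co y)
    (fun x x' y => by rw [map_add, co_add, add_dotProduct]) (fun c x y => by rw [map_smul, co_smul, smul_dotProduct])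
    (fun x y y' => by rw [co_add, dotProduct_add]) (fun c x y => by rw [co_smul, dotProduct_smul])

theorem bil_apply (x y : V) : bil x y = co (op Jc x) ⬝ᵥ co y := rfl

/-- the form on codes -/
def bilc (a b : ℕ) : Bool := force (vmul 78 a Jc) fun φ => dot φ b

theorem bil_vc (a b : ℕ) : bil (vc a) (vc b) = bz (bilc a b) := by
  rw [bilc, force_eq, bz_dot, bil_apply, op_vc]

/-- the functional `x ↦ bil (vc k) x` -/
theorem bil_out {k t : ℕ} (ht : Nat.blt t (Nat.pow 2 78) = true) (x : V) :
    op (out (vmul 78 k Jc) t) x = bil (vc k) x • vc t := by
  rw [op_out ht, bil_apply, op_vc]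

/-! ### Symmetry -/

/-- a symmetric bilinear map vanishing on the pairs `(e j, e j)` is alternating -/
theorem alt_of {W : Type*} [AddCommGroup W] [Module (ZMod 2) W] {f : V →ₗ[ZMod 2] V →ₗ[ZMod 2] W}
    (hs : ∀ i j, f (e i) (e j) = f (e j) (e i)) (hd : ∀ i, f (e i) (e i) = 0) (x : V) : f x x = 0 := by
  have hsym : ∀ x y, f x y = f y x := by
    have h1 : f = f.flip := ext_e fun i => ext_e fun j => hs i j
    intro x y
    conv_lhs => rw [h1]
    rfl
  let q : V →+ W :=
    { toFun := fun x => f x x
      map_zero' := by simp
      map_add' := fun x y => by
        rw [map_add, map_add, LinearMap.add_apply, LinearMap.add_apply, hsym y x]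
        calc f x x + f x y + (f x y + f y y) = f x x + f y y + (f x y + f x y) := by abel
          _ = f x x + f y y := by rw [dbl, add_zero] }
  have h2 : q x = 0 := by
    rw [eq_sum x, map_sum]
    refine Finset.sum_eq_zero fun i _ => ?_
    rcases z2 (co x i) with h | h
    · rw [h, zero_smul, map_zero]
    · rw [h, one_smul]; exact hd i
  exact h2

/-- check of the symmetry of the product -/
theorem sym_check : allI (fun i a => and (Nat.beq (row a i) 0)
    (allI (fun j b => Nat.beq (row a j) (row b i)) AD 0)) AD 0 = true := by decide +kernel

theorem sym_row (i j : Fin 78) : row (AD.getD i 0) j = row (AD.getD j 0) i := by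
  have h1 := allI_sound sym_check i (by rw [AD_length]; exact i.2)
  rw [Bool.and_eq_true] at h1
  have h2 := allI_sound h1.2 j (by rw [AD_length]; exact j.2)
  rw [zero_add, zero_add] at h2
  exact Nat.eq_of_beq_eq_true h2

theorem diag_row (i : Fin 78) : row (AD.getD i 0) i = 0 := by
  have h1 := allI_sound sym_check i (by rw [AD_length]; exact i.2)
  rw [Bool.and_eq_true, zero_add] at h1
  exact Nat.eq_of_beq_eq_true h1.1

theorem br_self (x : V) : br x x = 0 := by
  apply alt_of
  · intro i j
    rw [br_e, br_e, op_e, op_e, sym_row]
  · intro i
    rw [br_e, op_e, diag_row, vc_zero]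

theorem J_check : trOk Jc Jc = true := by decide +kernel

theorem J_diag : allN (fun i => Nat.beq (Nat.land (Nat.shiftRight Jc (Nat.mul 79 i)) 1) 0) 78 = true := by
  decide +kernel

theorem bil_self (x : V) : bil x x = 0 := by
  apply alt_of
  · intro i j
    rw [bil_apply, bil_apply, op_tr J_check, dotProduct_comm]
  · intro i
    rw [bil_apply, op_e, co_e, dotProduct_single, mul_one, vc_apply, row_eq, Nat.testBit_mod_two_pow,
      Nat.testBit_shiftRight]
    have h1 := Nat.eq_of_beq_eq_true (allN_sound J_diag i i.2)
    have h2 : (Jc >>> (79 * (i : ℕ)) &&& 1) = 0 := h1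
    have h3 : (Jc >>> (79 * (i : ℕ))).testBit 0 = false := by
      rw [Nat.testBit_zero]
      rw [Nat.and_one_is_mod] at h2
      simp [h2]
    rw [Nat.testBit_shiftRight, add_zero] at h3
    have h4 : 78 * (i : ℕ) + i = 79 * i := by ring
    rw [h4, h3]
    simp [bz]

theorem JI_check : Nat.beq (mul 78 Jc JI) (one 78) = true := by decide +kernel

theorem bil_nondeg (x : V) (h : ∀ y, bil x y = 0) : x = 0 := by
  have h1 : op Jc x = 0 := by
    apply co_inj
    funext i
    have h2 := h (e i)
    rw [bil_apply, co_e, dotProduct_single, mul_one] at h2
    rw [h2, co_zero, Pi.zero_apply]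
  have h2 : op (mul 78 Jc JI) x = x := by rw [op_eq_of JI_check, op_one]
  rw [← h2, op_mul, h1, map_zero]

end Cfsg.Agent.TwoESix.ExtModel
end

-- part: TwoESix/ExtModelB
section
/-!
# The generators preserve the product and the form
-/

set_option autoImplicit false

namespace Cfsg.Agent.TwoESix.ExtModel

open Cfsg.Agent.Lib Cfsg.Agent.Lib.F2Mat
open Cfsg.Agent.TwoESix.ExtCode Cfsg.Agent.TwoESix.ExtData Cfsg.Agent.TwoESix.ExtAlg
open Cfsg.Agent.TwoESix.Data Cfsg.Agent.TwoESix.Iso

/-- conjugation by the coordinate isomorphism -/
def cj : ((Fin 78 → ZMod 2) ≃ₗ[ZMod 2] (Fin 78 → ZMod 2)) ≃* (V ≃ₗ[ZMod 2] V) where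
  toFun f := (coL.trans f).trans coL.symm
  invFun f := (coL.symm.trans f).trans coL
  left_inv f := by ext; rfl
  right_inv f := by
    apply LinearEquiv.toLinearMap_injective
    refine LinearMap.ext fun x => ?_
    rfl
  map_mul' f g := by
    apply LinearEquiv.toLinearMap_injective
    refine LinearMap.ext fun x => ?_
    rfl

/-- matrices as linear maps -/
noncomputable def gl : GL (Fin 78) (ZMod 2) ≃* (V ≃ₗ[ZMod 2] V) :=
  (Matrix.GeneralLinearGroup.toLin.trans
    (LinearMap.GeneralLinearGroup.generalLinearEquiv (ZMod 2) (Fin 78 → ZMod 2))).trans cj

theorem gl_apply (g : GL (Fin 78) (ZMod 2)) (x : V) :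
    co (gl g x) = (g : Matrix (Fin 78) (Fin 78) (ZMod 2)).mulVec (co x) := by
  have h : co (gl g x) = Matrix.toLin' (g : Matrix (Fin 78) (Fin 78) (ZMod 2)) (co x) := rfl
  rw [h, Matrix.toLin'_apply]

/-- the generators -/
noncomputable def mM (k : Fin 16) : V ≃ₗ[ZMod 2] V := gl (gM k)

theorem tr_check : allN (fun k => trOk (Ms.getD k 0) (MT.getD k 0)) 16 = true := by decide +kernel

theorem mM_apply (k : Fin 16) (x : V) : mM k x = op (MT.getD k 0) x := by
  have h := toMat_tr (allN_sound tr_check k k.2)
  apply co_inj
  rw [mM, gl_apply, op_apply, h, Matrix.vecMul_transpose]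
  rfl

/-- the operator `G` preserves the product -/
def eqv (G : ℕ) : Bool := force G fun G => allI (fun i a => Nat.beq (mul 78 a G) (mul 78 G (adc (row G i)))) AD 0

theorem eqv_sound {G : ℕ} (h : eqv G = true) (x y : V) : op G (br x y) = br (op G x) (op G y) := by
  unfold eqv at h
  rw [force_eq] at h
  have h1 : br.compr₂ (op G) = br.compl₁₂ (op G) (op G) := by
    refine ext_e fun i => LinearMap.ext fun y => ?_
    rw [LinearMap.compr₂_apply, LinearMap.compl₁₂_apply, br_e, op_e, br_vc, ← op_mul, ← op_mul]
    have h2 := allI_sound h i (by rw [AD_length]; exact i.2)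
    rw [zero_add] at h2
    exact op_eq_of h2 y
  exact LinearMap.congr_fun (LinearMap.congr_fun h1 x) y

/-! all the 78 products at once (helper21) -/

private theorem dg_xor (s X Y i : ℕ) : PackMat.dg s (X ^^^ Y) i = PackMat.dg s X i ^^^ PackMat.dg s Y i := by
  rw [PackMat.dg_def, PackMat.dg_def, PackMat.dg_def, ← Nat.shiftRight_eq_div_pow, ← Nat.shiftRight_eq_div_pow,
    ← Nat.shiftRight_eq_div_pow, Nat.shiftRight_xor_distrib, Nat.xor_mod_two_pow]

private theorem dg_zero (s i : ℕ) : PackMat.dg s 0 i = 0 := by rw [PackMat.dg_def, Nat.zero_div, Nat.zero_mod]

private theorem dg_sh {N k c : ℕ} (hk : k ≤ N) (hc : c < 2 ^ (N - k)) (X i : ℕ) :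
    PackMat.dg N (X >>> k) i &&& c = (PackMat.dg N X i >>> k) &&& c := by
  rw [PackMat.dg_def, PackMat.dg_def, ← Nat.shiftRight_eq_div_pow, ← Nat.shiftRight_eq_div_pow]
  refine Nat.eq_of_testBit_eq fun t => ?_
  simp only [Nat.testBit_and, Nat.testBit_mod_two_pow, Nat.testBit_shiftRight]
  by_cases h : t < N - k
  · rw [decide_eq_true (show t < N by omega), decide_eq_true (show k + t < N by omega), Nat.add_left_comm]
  · rw [Nat.testBit_lt_two_pow (lt_of_lt_of_le hc (Nat.pow_le_pow_right Nat.two_pos (Nat.le_of_not_lt h))),
      Bool.and_false, Bool.and_false]

private theorem dg_tm {N K k c r i : ℕ} (hN : 0 < N) (hk : k ≤ N) (hc : c < 2 ^ (N - k)) (hr : c * r < 2 ^ N) (hi : i < K)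
    (X : ℕ) : PackMat.dg N (((X >>> k) &&& (c * PackMat.rep N K)) * r) i = ((PackMat.dg N X i >>> k) &&& c) * r := by
  rw [PackMat.land_rep hN (lt_of_lt_of_le hc (Nat.pow_le_pow_right Nat.two_pos (Nat.sub_le _ _))), PackMat.E_def,
    Finset.sum_mul, Finset.sum_congr rfl fun j _ => Nat.mul_right_comm _ _ r, ← dg_sh hk hc]
  exact PackMat.dg_E (f := fun j => (PackMat.dg N (X >>> k) j &&& c) * r)
    (fun j _ => lt_of_le_of_lt (Nat.mul_le_mul_right r Nat.and_le_right) hr) hi

private noncomputable def bL (M S G k : ℕ) : ℕ :=
  Nat.rec 0 (fun k ih => Nat.xor ih (Nat.mul (Nat.land (Nat.shiftRight S k) M) (row G k))) k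

private noncomputable def bW (M m U G k : ℕ) : ℕ :=
  Nat.rec 0 (fun k ih => Nat.xor ih (Nat.mul (Nat.land (Nat.shiftRight U (Nat.mul 78 k)) M) (Nat.land (Nat.shiftRight G k) m))) k

private noncomputable def bU (L : List ℕ) (R H : ℕ) : ℕ → ℕ :=
  List.rec (motive := fun _ => ℕ → ℕ) (fun _ => 0)
    (fun a _ ih p => Nat.xor (Nat.mul (Nat.land (Nat.shiftRight H p) R) a) (force (Nat.succ p) ih)) L

private theorem bL_dg {N K i m w : ℕ} (hN : 78 ≤ N) (h1 : m < 2 ^ (N - 77)) (hw : ∀ G k, row G k ≤ w) (h2 : m * w < 2 ^ N)
    (hi : i < K) (S G : ℕ) : ∀ k ≤ 78,
    PackMat.dg N (bL (m * PackMat.rep N K) S G k) i = mulAux 78 m (PackMat.dg N S i) G k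
  | 0, _ => dg_zero _ _
  | k + 1, hk => by
    rw [mulAux_succ, ← bL_dg hN h1 hw h2 hi S G k (Nat.le_of_succ_le hk)]
    have h3 := dg_tm (N := N) (k := k) (c := m) (r := row G k) (by omega) (by omega)
      (lt_of_lt_of_le h1 (Nat.pow_le_pow_right Nat.two_pos (by omega)))
      (lt_of_le_of_lt (Nat.mul_le_mul_left _ (hw G k)) h2) hi S
    exact (dg_xor _ _ _ _).trans (congrArg _ h3)

private theorem bW_dg {N K i m n : ℕ} (hn : n = 78) (hN : 6084 ≤ N) (h2 : (2 ^ n - 1) * m < 2 ^ N) (hi : i < K) (U G : ℕ) :
    ∀ k ≤ 78, PackMat.dg N (bW ((2 ^ n - 1) * PackMat.rep N K) m U G k) i = mulAux n m G (PackMat.dg N U i) k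
  | 0, _ => dg_zero _ _
  | k + 1, hk => by
    rw [mulAux_succ, ← bW_dg hn hN h2 hi U G k (Nat.le_of_succ_le hk)]
    have h3 := dg_tm (N := N) (k := 78 * k) (c := 2 ^ n - 1) (r := (G >>> k) &&& m) (by omega) (by omega)
      (lt_of_lt_of_le (Nat.sub_lt (Nat.two_pow_pos n) Nat.one_pos) (Nat.pow_le_pow_right Nat.two_pos (by omega)))
      (lt_of_le_of_lt (Nat.mul_le_mul_left _ Nat.and_le_right) h2) hi U
    refine (dg_xor _ _ _ _).trans (congrArg _ (h3.trans ?_))
    rw [Nat.and_two_pow_sub_one_eq_mod, ← hn]
    exact Nat.mul_comm _ _

private theorem bU_dg {N K i : ℕ} (hi : i < K) (H : ℕ) : ∀ (L : List ℕ) (p : ℕ), (∀ a ∈ L, a < 2 ^ N) → p + L.length ≤ N →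
    PackMat.dg N (bU L (1 * PackMat.rep N K) H p) i = sel L (PackMat.dg N H i) p
  | [], _, _, _ => dg_zero _ _
  | a :: L, p, hL, hp => by
    have hp' : p + 1 + L.length ≤ N := by rw [List.length_cons] at hp; omega
    rw [sel_cons, ← bU_dg hi H L (p + 1) (fun b hb => hL b (List.mem_cons_of_mem _ hb)) hp']
    refine (dg_xor _ _ _ _).trans (congrArg₂ _ ((dg_tm (by omega) (by omega) (Nat.one_lt_two_pow (by omega))
      (by rw [Nat.one_mul]; exact hL a List.mem_cons_self) hi H).trans ?_) rfl)
    rw [Nat.and_one_is_mod, Nat.shiftRight_eq_div_pow, Nat.testBit_eq_decide_div_mod_eq]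
    rcases Nat.mod_two_eq_zero_or_one (PackMat.dg N H i / 2 ^ p) with h | h <;> rw [h]
    · exact Nat.zero_mul a
    · exact Nat.one_mul a

private theorem allI_of {t : ℕ → ℕ → Bool} : ∀ (L : List ℕ) (p : ℕ), (∀ i < L.length, t (p + i) (L.getD i 0) = true) →
    allI t L p = true
  | [], _, _ => rfl
  | a :: L, p, h => by
    rw [allI_cons, show t p a = true from h 0 (Nat.succ_pos _), Bool.true_and]
    refine allI_of L (p + 1) fun i hi => ?_
    rw [Nat.add_assoc, Nat.add_comm 1 i]
    exact h (i + 1) (Nat.succ_lt_succ hi)

private noncomputable def eqvF (N G : ℕ) : Bool :=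
  force G fun G => force (PackMat.E N (fun i => AD.getD i 0) 78) fun S => force (PackMat.E N (row G) 78) fun H =>
  force (msk 78 * PackMat.rep N 78) fun M => force ((2 ^ 78 - 1) * PackMat.rep N 78) fun M' =>
  force (1 * PackMat.rep N 78) fun R => force (bU AD R H 0) fun U => force (msk 78) fun m =>
  Nat.beq (bL M S G 78) (bW M' m U G 78)

private theorem eqv_of' {N G : ℕ} (hN : N = 6084) (h : eqvF N G = true) : eqv G = true := by
  have hA : ∀ a ∈ AD, a < 2 ^ N := by rw [hN]; decide +kernel
  simp only [eqvF, force_eq] at h
  rw [eqv, force_eq]
  refine allI_of AD 0 fun i hi => ?_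
  have hi' : i < 78 := AD_length ▸ hi
  have h1 : PackMat.dg N _ i = PackMat.dg N _ i := congrArg (fun X => PackMat.dg N X i) (Nat.eq_of_beq_eq_true h)
  rw [bL_dg (by omega) (by rw [hN]; decide +kernel) (fun G k => Nat.le_sub_one_of_lt (row_lt G k))
      (by rw [hN]; decide +kernel) hi' _ _ 78 le_rfl,
    bW_dg rfl (by omega) (by rw [hN]; decide +kernel) hi' _ _ 78 le_rfl, bU_dg hi' _ AD 0 hA (by rw [AD_length]; omega),
    PackMat.dg_E (f := fun i => AD.getD i 0) (fun j hj => by
      show AD.getD j 0 < _
      rw [List.getD_eq_getElem _ _ (AD_length ▸ hj)]
      exact hA _ (List.getElem_mem _)) hi',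
    PackMat.dg_E (f := row G) (fun j _ => lt_of_lt_of_le (row_lt G j) (Nat.pow_le_pow_right Nat.two_pos (by omega))) hi'] at h1
  rw [mul_eq, mul_eq, Nat.zero_add, adc, force_eq]
  exact Nat.beq_eq.mpr h1

private theorem eqv_of {G : ℕ} (h : eqvF 6084 G = true) : eqv G = true := eqv_of' rfl h

theorem eqv_0 : eqv (MT.getD 0 0) = true := eqv_of (by decide +kernel)
theorem eqv_1 : eqv (MT.getD 1 0) = true := eqv_of (by decide +kernel)
theorem eqv_2 : eqv (MT.getD 2 0) = true := eqv_of (by decide +kernel)
theorem eqv_3 : eqv (MT.getD 3 0) = true := eqv_of (by decide +kernel)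
theorem eqv_4 : eqv (MT.getD 4 0) = true := eqv_of (by decide +kernel)
theorem eqv_5 : eqv (MT.getD 5 0) = true := eqv_of (by decide +kernel)
theorem eqv_6 : eqv (MT.getD 6 0) = true := eqv_of (by decide +kernel)
theorem eqv_7 : eqv (MT.getD 7 0) = true := eqv_of (by decide +kernel)
theorem eqv_8 : eqv (MT.getD 8 0) = true := eqv_of (by decide +kernel)
theorem eqv_9 : eqv (MT.getD 9 0) = true := eqv_of (by decide +kernel)
theorem eqv_10 : eqv (MT.getD 10 0) = true := eqv_of (by decide +kernel)
theorem eqv_11 : eqv (MT.getD 11 0) = true := eqv_of (by decide +kernel)
theorem eqv_12 : eqv (MT.getD 12 0) = true := eqv_of (by decide +kernel)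
theorem eqv_13 : eqv (MT.getD 13 0) = true := eqv_of (by decide +kernel)
theorem eqv_14 : eqv (MT.getD 14 0) = true := eqv_of (by decide +kernel)
theorem eqv_15 : eqv (MT.getD 15 0) = true := eqv_of (by decide +kernel)

theorem mM_br (k : Fin 16) (x y : V) : mM k (br x y) = br (mM k x) (mM k y) := by
  rw [mM_apply, mM_apply, mM_apply]
  apply eqv_sound
  fin_cases k
  · exact eqv_0
  · exact eqv_1
  · exact eqv_2
  · exact eqv_3
  · exact eqv_4
  · exact eqv_5
  · exact eqv_6
  · exact eqv_7
  · exact eqv_8
  · exact eqv_9
  · exact eqv_10
  · exact eqv_11
  · exact eqv_12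
  · exact eqv_13
  · exact eqv_14
  · exact eqv_15

/-- the operator with matrix `N`, transpose `G`, preserves the form -/
theorem form_check : allN (fun k => Nat.beq (mul 78 (mul 78 (MT.getD k 0) Jc) (Ms.getD k 0)) Jc) 16 = true := by
  decide +kernel

theorem mM_bil (k : Fin 16) (x y : V) : bil (mM k x) (mM k y) = bil x y := by
  have h := toMat_tr (allN_sound tr_check k k.2)
  have h1 := Nat.eq_of_beq_eq_true (allN_sound form_check k k.2)
  have h2 : toMat 78 (MT.getD k 0) * toMat 78 Jc * toMat 78 (Ms.getD k 0) = toMat 78 Jc := by
    rw [← toMat_mul, ← toMat_mul, h1]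
  rw [mM_apply, mM_apply, bil_apply, bil_apply, op_apply, op_apply, op_apply, op_apply, Matrix.vecMul_vecMul]
  conv_lhs => rw [h, Matrix.vecMul_transpose, Matrix.dotProduct_mulVec, Matrix.vecMul_vecMul, ← h, h2]

end Cfsg.Agent.TwoESix.ExtModel
end

-- part: TwoESix/ExtModelC
section
/-!
# The algebra, and an extremal element
-/

set_option autoImplicit false

namespace Cfsg.Agent.TwoESix.ExtModel

open Cfsg.Agent.Lib Cfsg.Agent.Lib.F2Mat
open Cfsg.Agent.TwoESix.ExtCode Cfsg.Agent.TwoESix.ExtData Cfsg.Agent.TwoESix.ExtAlg
open Cfsg.Agent.TwoESix.Data Cfsg.Agent.TwoESix.Iso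

/-! ### Maps preserving a product and a form -/

section

variable {W : Type*} [AddCommGroup W] [Module (ZMod 2) W] (br : W →ₗ[ZMod 2] W →ₗ[ZMod 2] W)
  (bil : W →ₗ[ZMod 2] W →ₗ[ZMod 2] ZMod 2)

/-- the maps preserving product and form -/
def Pres : Subgroup (W ≃ₗ[ZMod 2] W) where
  carrier := {n | (∀ x y, n (br x y) = br (n x) (n y)) ∧ ∀ x y, bil (n x) (n y) = bil x y}
  mul_mem' {a b} ha hb := ⟨fun x y => by
    rw [LinearEquiv.mul_apply, hb.1, ha.1]; rfl, fun x y => by
    rw [LinearEquiv.mul_apply, LinearEquiv.mul_apply, ha.2, hb.2]⟩
  one_mem' := ⟨fun _ _ => rfl, fun _ _ => rfl⟩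
  inv_mem' {a} ha := by
    have h1 : ∀ x, a (a⁻¹ x) = x := fun x => by rw [← LinearEquiv.mul_apply, mul_inv_cancel]; rfl
    refine ⟨fun x y => ?_, fun x y => ?_⟩
    · apply a.injective
      rw [h1, ha.1, h1, h1]
    · rw [← ha.2, h1, h1]

theorem Pres_eq (A : Alg W) : Pres A.br A.B = A.Aut := rfl

variable {br bil}

theorem mem_Pres {n : W ≃ₗ[ZMod 2] W} :
    n ∈ Pres br bil ↔ (∀ x y, n (br x y) = br (n x) (n y)) ∧ ∀ x y, bil (n x) (n y) = bil x y := Iff.rfl

theorem Pres_br {n : W ≃ₗ[ZMod 2] W} (h : n ∈ Pres br bil) (x y : W) : n (br x y) = br (n x) (n y) := h.1 x y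
theorem Pres_bil {n : W ≃ₗ[ZMod 2] W} (h : n ∈ Pres br bil) (x y : W) : bil (n x) (n y) = bil x y := h.2 x y

theorem der_of {z : W} (h : br.compr₂ (br z) = br.comp (br z) + br.compl₂ (br z)) (v w : W) :
    br z (br v w) = br (br z v) w + br v (br z w) :=
  LinearMap.congr_fun (LinearMap.congr_fun h v) w

theorem quad_of {z w : W} (h : (br.flip (br z w)).comp (br z) =
        ((bil z).comp (br.flip w)).smulRight z + bil z w • br z + (bil z).smulRight (br z w)) (v : W) :
    br (br z v) (br z w) = bil z (br v w) • z + bil z w • br z v + bil z v • br z w :=
  LinearMap.congr_fun h v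

end

/-- the group -/
noncomputable def Γ : Subgroup (V ≃ₗ[ZMod 2] V) := Gam.map gl.toMonoidHom

theorem mM_mem (k : Fin 16) : mM k ∈ Γ := ⟨gM k, Subgroup.subset_closure ⟨k, rfl⟩, rfl⟩

theorem Γ_eq : Γ = Subgroup.closure (Set.range mM) := by
  unfold Γ Gam
  rw [MonoidHom.map_closure]
  congr 1
  ext x
  constructor
  · rintro ⟨_, ⟨k, rfl⟩, rfl⟩
    exact ⟨k, rfl⟩
  · rintro ⟨k, rfl⟩
    exact ⟨_, ⟨k, rfl⟩, rfl⟩

theorem Γ_le_Pres : Γ ≤ Pres br bil := by
  rw [Γ_eq, Subgroup.closure_le]
  rintro _ ⟨k, rfl⟩
  exact mem_Pres.2 ⟨mM_br k, mM_bil k⟩

/-! ### Spanning vectors -/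

/-- the basis vector number 20 -/
def b0 : ℕ := 0x100000

theorem vs_head : Nat.beq (vs.getD 0 0) b0 = true := by decide +kernel

/-- check of the tree -/
def treeOk : Bool := allN (fun k => force (Prod.fst (tree.getD k (0, 0))) fun j => force (Prod.snd (tree.getD k (0, 0))) fun i =>
  and (and (Nat.ble j k) (Nat.blt i 16)) (Nat.beq (vmul 78 (vs.getD j 0) (MT.getD i 0)) (vs.getD (Nat.succ k) 0))) 77

private noncomputable def _root_.Cfsg.Agent.LsF.f412a79_1 : {f // @Cfsg.Agent.TwoESix.ExtCode.allN = f} := ⟨_, by first | (delta Cfsg.Agent.TwoESix.ExtCode.allN; rewrite [Cfsg.Agent.LsF.and_eq]; exact rfl) | exact rfl⟩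
private noncomputable def _root_.Cfsg.Agent.LsF.f412a79_6 : {f // @Cfsg.Agent.TwoESix.ExtModel.treeOk = f} := ⟨_, by first | (delta Cfsg.Agent.TwoESix.ExtModel.treeOk; rewrite [Cfsg.Agent.LsF.f412a79_1.2, Cfsg.Agent.LsF.and_eq, Cfsg.Agent.LsF.getD_eq]; exact rfl) | exact rfl⟩
theorem tree_check : treeOk = true := by ((try (rewrite [Cfsg.Agent.LsF.f412a79_6.2])); decide +kernel)

theorem vs_mem (k : ℕ) (hk : k < 78) : ∃ γ ∈ Γ, γ (vc b0) = vc (vs.getD k 0) := by
  induction k using Nat.strong_induction_on with
  | _ k ih =>
    rcases k with _ | k
    · exact ⟨1, Γ.one_mem, by rw [Nat.eq_of_beq_eq_true vs_head]; rfl⟩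
    · have h := allN_sound tree_check k (by omega)
      rw [force_eq, force_eq, Bool.and_eq_true, Bool.and_eq_true, Nat.ble_eq, Nat.blt_eq] at h
      obtain ⟨γ, hγ, h1⟩ := ih _ (by omega) (by omega : (tree.getD k (0, 0)).1 < 78)
      refine ⟨mM ⟨(tree.getD k (0, 0)).2, h.1.2⟩ * γ, Γ.mul_mem (mM_mem _) hγ, ?_⟩
      rw [LinearEquiv.mul_apply, h1, mM_apply, op_vc, Nat.eq_of_beq_eq_true h.2]

/-- the matrix with the given rows -/
def pack (L : List ℕ) : ℕ := List.rec 0 (fun a _ ih => Nat.xor a (Nat.shiftLeft ih 78)) L

theorem pack_cons (a : ℕ) (L : List ℕ) : pack (a :: L) = a ^^^ (pack L <<< 78) := rfl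

theorem row_pack {L : List ℕ} (hL : L.all (fun a => Nat.blt a (Nat.pow 2 78)) = true) (j : ℕ) :
    row (pack L) j = L.getD j 0 := by
  induction L generalizing j with
  | nil => rw [row_eq]; simp [pack]
  | cons a L ih =>
    rw [List.all_cons, Bool.and_eq_true, Nat.blt_eq] at hL
    have ha : a < 2 ^ 78 := hL.1
    rw [pack_cons, row_eq]
    rcases j with _ | j
    · rw [List.getD_cons_zero, Nat.mul_zero, Nat.shiftRight_zero]
      apply Nat.eq_of_testBit_eq
      intro i
      rw [Nat.testBit_mod_two_pow, Nat.testBit_xor, Nat.testBit_shiftLeft]
      by_cases hi : i < 78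
      · have h2 : ¬ 78 ≤ i := by omega
        simp [hi, h2]
      · have h1 : a.testBit i = false := Nat.testBit_lt_two_pow (lt_of_lt_of_le ha
          (Nat.pow_le_pow_right (by norm_num) (by omega)))
        simp [hi, h1]
    · rw [List.getD_cons_succ, ← ih hL.2, row_eq, Nat.shiftRight_xor_distrib]
      have h1 : a >>> (78 * (j + 1)) = 0 := by
        rw [Nat.shiftRight_eq_div_pow]
        apply Nat.div_eq_of_lt
        exact lt_of_lt_of_le ha (Nat.pow_le_pow_right (by norm_num) (by omega))
      have h2 : (pack L <<< 78) >>> (78 * (j + 1)) = pack L >>> (78 * j) := by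
        rw [show 78 * (j + 1) = 78 + 78 * j by ring, Nat.shiftRight_add, Nat.shiftLeft_shiftRight]
      rw [h1, h2, Nat.zero_xor]

/-- a list of 78 vectors with invertible matrix spans -/
theorem span_of {L : List ℕ} (hL : L.all (fun a => Nat.blt a (Nat.pow 2 78)) = true) {N : ℕ}
    (h : Nat.beq (mul 78 N (pack L)) (one 78) = true) (x : V) :
    x = ∑ j : Fin 78, co (op N x) j • vc (L.getD j 0) := by
  have h1 : op (mul 78 N (pack L)) x = x := by rw [op_eq_of h, op_one]
  rw [op_mul, eq_sum (op N x), map_sum] at h1
  conv_lhs => rw [← h1]
  refine Finset.sum_congr rfl fun j _ => ?_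
  rw [map_smul, op_e, row_pack hL]

theorem vs_lt : vs.all (fun a => Nat.blt a (Nat.pow 2 78)) = true := by decide +kernel

theorem VI_check : Nat.beq (mul 78 VI (pack vs)) (one 78) = true := by decide +kernel

/-- a linear condition satisfied on the orbit of `b0` holds everywhere -/
theorem orbit_induction {W : Type*} [AddCommMonoid W] [Module (ZMod 2) W] {f g : V →ₗ[ZMod 2] W}
    (h : ∀ γ ∈ Γ, f (γ (vc b0)) = g (γ (vc b0))) : f = g := by
  refine LinearMap.ext fun x => ?_
  rw [span_of vs_lt VI_check x, map_sum, map_sum]
  refine Finset.sum_congr rfl fun j _ => ?_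
  obtain ⟨γ, hγ, h1⟩ := vs_mem j j.2
  rw [map_smul, map_smul, ← h1, h γ hγ]

/-! ### Invariance of the form -/

theorem inv_check : (force (mul 78 (adc b0) Jc) fun S => trOk S S) = true := by decide +kernel

theorem br_comm' (x y : V) : br x y = br y x := by
  have h := br_self (x + y)
  simp only [map_add, LinearMap.add_apply, br_self, zero_add, add_zero] at h
  exact eq_of_add ((add_comm _ _).trans h)

theorem inv_b0 (x z : V) : bil (br x (vc b0)) z = bil x (br (vc b0) z) := by
  have h := inv_check
  rw [force_eq] at h
  rw [br_comm' x, br_vc, br_vc, bil_apply, ← op_mul, op_tr h, op_mul, bil_apply, op_tr J_check]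

theorem bil_inv (x y z : V) : bil (br x y) z = bil x (br y z) := by
  have h1 : ∀ x z : V, (bil.flip z).comp (br x) = (bil x).comp (br.flip z) := by
    intro x z
    apply orbit_induction
    intro γ hγ
    have hP := Γ_le_Pres hγ
    show bil (br x (γ (vc b0))) z = bil x (br (γ (vc b0)) z)
    obtain ⟨x, rfl⟩ := γ.surjective x
    obtain ⟨z, rfl⟩ := γ.surjective z
    rw [← Pres_br hP, ← Pres_br hP, Pres_bil hP, Pres_bil hP, inv_b0]
  exact LinearMap.congr_fun (h1 x z) y

/-- **The algebra.** -/
noncomputable def A : Alg V where
  br := br
  B := bil
  br_self := br_self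
  B_self := bil_self
  nondeg := bil_nondeg
  inv := bil_inv

theorem A_br : A.br = br := rfl
theorem A_B : A.B = bil := rfl

theorem Γ_le : Γ ≤ A.Aut := by
  rw [← Pres_eq, A_br, A_B]
  exact Γ_le_Pres

/-! ### The extremal element `b0` -/

theorem sq_check : Nat.beq (mul 78 (adc b0) (adc b0)) 0 = true := by decide +kernel

/-- derivation -/
theorem der_check : (force (adc b0) fun X => allI (fun i a =>
    Nat.beq (mul 78 a X) (Nat.xor (adc (row X i)) (mul 78 X a))) AD 0) = true := by decide +kernel

/-- the quadratic identity -/
theorem quad_check : (force (adc b0) fun X => force (vmul 78 b0 Jc) fun φ => allN (fun i =>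
    force (row X i) fun r => Nat.beq (mul 78 X (adc r))
      (Nat.xor (Nat.xor (out (vmul 78 r Jc) b0) (out φ r)) (cond (tb φ i) X 0))) 78) = true := by decide +kernel

theorem b0_ext : A.IsExt (vc b0) where
  ne h := by
    have h1 := congrFun (congrArg co h) ⟨20, by norm_num⟩
    rw [vc_apply, co_zero] at h1
    have h2 : b0.testBit 20 = true := by decide
    rw [h2] at h1
    exact absurd h1 (by decide)
  sq v := by
    rw [A_br, br_vc, br_vc, ← op_mul, op_eq_of sq_check, op_zero]
  der v w := by
    rw [A_br]
    have hc := der_check
    rw [force_eq] at hc
    have h1 : br.compr₂ (br (vc b0)) = br.comp (br (vc b0)) + br.compl₂ (br (vc b0)) := by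
      refine ext_e fun i => LinearMap.ext fun y => ?_
      have h2 := allI_sound hc i (by rw [AD_length]; exact i.2)
      rw [zero_add] at h2
      have h3 := op_eq_of h2 y
      rw [op_mul] at h3
      have h4 : op (Nat.xor (adc (row (adc b0) i)) (mul 78 (adc b0) (AD.getD i 0))) y =
        op (adc (row (adc b0) i)) y + op (mul 78 (adc b0) (AD.getD i 0)) y := op_xor _ _ _
      rw [h4, op_mul] at h3
      rw [LinearMap.compr₂_apply, LinearMap.add_apply, LinearMap.add_apply, LinearMap.comp_apply,
        LinearMap.compl₂_apply, br_e, br_e, br_vc, br_vc, br_vc, op_e, br_vc]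
      exact h3
    exact der_of h1 v w
  quad v w := by
    rw [A_br, A_B]
    have hc := quad_check
    rw [force_eq, force_eq] at hc
    have key : ∀ i : Fin 78, ∀ w, br (br (vc b0) (e i)) (br (vc b0) w) =
        bil (vc b0) (br (e i) w) • vc b0 + bil (vc b0) w • br (vc b0) (e i) + bil (vc b0) (e i) • br (vc b0) w := by
      intro i w
      have h2 := allN_sound hc i i.2
      rw [force_eq] at h2
      have h3 := op_eq_of h2 w
      have h4 : ∀ a b c : ℕ, op (Nat.xor (Nat.xor a b) c) w = op a w + op b w + op c w := by
        intro a b c
        have h5 : op (Nat.xor (Nat.xor a b) c) w = op (Nat.xor a b) w + op c w := op_xor _ _ _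
        have h6 : op (Nat.xor a b) w = op a w + op b w := op_xor _ _ _
        rw [h5, h6]
      have hr : Nat.blt (row (adc b0) i) (Nat.pow 2 78) = true := by
        rw [Nat.blt_eq]; exact row_lt _ _
      rw [h4, op_mul, bil_out (show Nat.blt b0 (Nat.pow 2 78) = true by decide +kernel), bil_out hr] at h3
      have h7 : op (cond (tb (vmul 78 b0 Jc) i) (adc b0) 0) w = bil (vc b0) (e i) • br (vc b0) w := by
        rw [bil_apply, op_vc, co_e, dotProduct_single, mul_one, vc_apply, ← tb_eq, br_vc]
        cases tb (vmul 78 b0 Jc) i
        · rw [cond_false, op_zero, bz_false, zero_smul]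
        · rw [cond_true, bz_true, one_smul]
      have h8 : br (vc b0) (e i) = vc (row (adc b0) i) := by rw [br_vc, op_e]
      rw [h7] at h3
      rw [br_vc b0 w] at h3
      rw [← bil_inv, h8, br_vc (row (adc b0) i), br_vc b0 w]
      exact h3
    have h1 : (br.flip (br (vc b0) w)).comp (br (vc b0)) =
        ((bil (vc b0)).comp (br.flip w)).smulRight (vc b0) + bil (vc b0) w • br (vc b0) +
          (bil (vc b0)).smulRight (br (vc b0) w) := by
      refine ext_e fun i => ?_
      rw [LinearMap.add_apply, LinearMap.add_apply, LinearMap.smulRight_apply, LinearMap.smulRight_apply,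
        LinearMap.smul_apply, LinearMap.comp_apply, LinearMap.comp_apply, LinearMap.flip_apply, LinearMap.flip_apply]
      exact key i w
    exact quad_of h1 v

end Cfsg.Agent.TwoESix.ExtModel
end

private theorem dce_df106373f6c7 : _root_.True := by
  try have : _root_.True := by simp only [_root_.Cfsg.Agent.TwoESix.ExtCode.dot.eq_1]
  try have : _root_.True := by simp only [_root_.Cfsg.Agent.TwoESix.ExtModel.adc.eq_1]
  try have : _root_.True := by simp only [_root_.Cfsg.Agent.TwoESix.ExtCode.dotN.eq_1]
  try have : _root_.True := by simp only [_root_.Cfsg.Agent.TwoESix.ExtModel.pack.eq_1]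
  try have : _root_.True := by simp only [_root_.Cfsg.Agent.TwoESix.ExtCode.out.eq_1]
  try have : _root_.True := by simp only [_root_.Cfsg.Agent.TwoESix.ExtModel.bilc.eq_1]
  try have : _root_.True := by simp only [_root_.Cfsg.Agent.TwoESix.ExtModel.mM.eq_1]
  exact _root_.True.intro
end

-- part: BabyU/Lab
section
set_option linter.all false
open scoped Cfsg.Agent.FastGrp

/-!
# Canonical lifts of root involutions to a double cover  (U-B, piece [LAB])

`Roots E T` collects the facts about the class `T` of root involutions of `E = 2E6(2)` which are
used; `Cover π t` says that `π : M →* E` is onto with kernel `{1, t}`.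

For `r ∈ T` the two lifts of `r` are distinguished: `w r = ⁅x, y⁆` for all lifts `x`, `y` of a
special pair of roots with commutator `r`; `lab r = t * w r` is the other one.
-/

set_option autoImplicit false

namespace Cfsg.Agent.BabyU.Lab

open scoped commutatorElement

/-- The facts about the class of root involutions. -/
structure Roots (E : Type*) [Group E] (T : Set E) : Prop where
  ne_one : ∀ r ∈ T, r ≠ 1
  sq : ∀ r ∈ T, r * r = 1
  conj : ∀ r ∈ T, ∀ g : E, g * r * g⁻¹ ∈ T
  one : ∀ r ∈ T, ∀ s ∈ T, ∃ g : E, g * r * g⁻¹ = s
  /-- there are special pairs, and they form one orbit -/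
  spe_ex : ∃ a ∈ T, ∃ b ∈ T, (a * b) ^ 2 ∈ T
  spe : ∀ a ∈ T, ∀ b ∈ T, ∀ a' ∈ T, ∀ b' ∈ T, (a * b) ^ 2 ∈ T → (a' * b') ^ 2 ∈ T →
    ∃ g : E, g * a * g⁻¹ = a' ∧ g * b * g⁻¹ = b'
  /-- collinear pairs form one orbit -/
  col : ∀ a ∈ T, ∀ b ∈ T, ∀ a' ∈ T, ∀ b' ∈ T, a * b ∈ T → a' * b' ∈ T →
    ∃ g : E, g * a * g⁻¹ = a' ∧ g * b * g⁻¹ = b'
  /-- symplectic pairs form one orbit -/
  sym : ∀ a ∈ T, ∀ b ∈ T, ∀ a' ∈ T, ∀ b' ∈ T, a ≠ b → a * b = b * a → a * b ∉ T →
    a' ≠ b' → a' * b' = b' * a' → a' * b' ∉ T →
    ∃ g : E, g * a * g⁻¹ = a' ∧ g * b * g⁻¹ = b'
  /-- the centraliser of a root involution has no subgroup of index two -/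
  perf : ∀ r ∈ T, ∀ H : Subgroup E, H.relIndex (Subgroup.centralizer ({r} : Set E)) ≠ 2
  /-- a line `a`, `b`, `a * b` and a root `x` special to its three points -/
  cfg_line : ∃ a ∈ T, ∃ b ∈ T, ∃ x ∈ T, a * b ∈ T ∧ (x * a) ^ 2 ∈ T ∧ (x * b) ^ 2 ∈ T ∧
    (x * (a * b)) ^ 2 ∈ T ∧ a * (x * b) ^ 2 = (x * b) ^ 2 * a
  /-- a symplectic pair `a`, `b` and a root `x` opposite to both -/
  cfg_sym : ∃ a ∈ T, ∃ b ∈ T, ∃ x ∈ T, a ≠ b ∧ a * b = b * a ∧ a * b ∉ T ∧
    (a * x) ^ 3 = 1 ∧ (x * b) ^ 3 = 1

/-- `π : M →* E` is onto with kernel `{1, t}`, `t ≠ 1`. -/
structure Cover {M E : Type*} [Group M] [Group E] (π : M →* E) (t : M) : Prop where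
  surj : Function.Surjective π
  ker : ∀ m : M, π m = 1 ↔ m = 1 ∨ m = t
  ne : t ≠ 1

section cover

variable {M E : Type*} [Group M] [Group E] {π : M →* E} {t : M}

theorem Cover.map_t (C : Cover π t) : π t = 1 := (C.ker t).2 (Or.inr rfl)

theorem Cover.t_mul_t (C : Cover π t) : t * t = 1 := by
  have h : π (t * t) = 1 := by rw [map_mul, C.map_t, one_mul]
  rcases (C.ker _).1 h with h1 | h1
  · exact h1
  · exact absurd (mul_eq_left.1 h1) C.ne

theorem Cover.inv_t (C : Cover π t) : t⁻¹ = t := by
  rw [inv_eq_iff_mul_eq_one, C.t_mul_t]

theorem Cover.central (C : Cover π t) (m : M) : m * t = t * m := by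
  have h : π (m * t * m⁻¹) = 1 := by
    rw [map_mul, map_mul, C.map_t, mul_one, map_inv, mul_inv_cancel]
  rcases (C.ker _).1 h with h1 | h1
  · exact absurd (by simpa using h1) C.ne
  · calc m * t = m * t * m⁻¹ * m := by group
      _ = t * m := by rw [h1]

theorem Cover.eq_or (C : Cover π t) {a b : M} (h : π a = π b) : a = b ∨ a = t * b := by
  have h1 : π (a * b⁻¹) = 1 := by rw [map_mul, map_inv, h, mul_inv_cancel]
  rcases (C.ker _).1 h1 with h2 | h2
  · exact Or.inl (by rwa [mul_inv_eq_one] at h2)
  · exact Or.inr (by rw [← h2]; group)

theorem Cover.map_t_mul (C : Cover π t) (a : M) : π (t * a) = π a := by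
  rw [map_mul, C.map_t, one_mul]

/-- the commutator of two elements depends only on their images -/
theorem Cover.commutator_eq (C : Cover π t) {a b a' b' : M} (ha : π a = π a') (hb : π b = π b') :
    ⁅a, b⁆ = ⁅a', b'⁆ := by
  have key : ∀ x y : M, ⁅t * x, y⁆ = ⁅x, y⁆ := by
    intro x y
    rw [commutatorElement_def, commutatorElement_def, mul_inv_rev, C.inv_t]
    calc t * x * y * (x⁻¹ * t) * y⁻¹ = t * (x * y * x⁻¹ * t) * y⁻¹ := by group
      _ = t * (t * (x * y * x⁻¹)) * y⁻¹ := by rw [C.central]
      _ = (t * t) * (x * y * x⁻¹ * y⁻¹) := by group
      _ = _ := by rw [C.t_mul_t, one_mul]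
  have key2 : ∀ x y : M, ⁅x, t * y⁆ = ⁅x, y⁆ := by
    intro x y
    rw [← commutatorElement_inv, key, commutatorElement_inv]
  rcases C.eq_or ha with rfl | rfl <;> rcases C.eq_or hb with rfl | rfl
  · rfl
  · rw [key2]
  · rw [key]
  · rw [key, key2]

end cover

/-- for involutions `(a * b) ^ 2 = ⁅a, b⁆` -/
theorem sq_mul_eq {E : Type*} [Group E] {a b : E} (ha : a * a = 1) (hb : b * b = 1) :
    (a * b) ^ 2 = ⁅a, b⁆ := by
  have ha' : a⁻¹ = a := inv_eq_iff_mul_eq_one.2 ha
  have hb' : b⁻¹ = b := inv_eq_iff_mul_eq_one.2 hb
  rw [commutatorElement_def, ha', hb', pow_two]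
  group

open Classical in
/-- The canonical lift of a root involution: the commutator of lifts of a special pair. -/
noncomputable def w {M E : Type*} [Group M] [Group E] (π : M →* E) (T : Set E) (r : E) : M :=
  if h : ∃ x y : M, π x ∈ T ∧ π y ∈ T ∧ ⁅π x, π y⁆ = r then ⁅h.choose, h.choose_spec.choose⁆
  else 1

/-- The other lift. -/
noncomputable def lab {M E : Type*} [Group M] [Group E] (π : M →* E) (t : M) (T : Set E) (r : E) :
    M := t * w π T r

section main

variable {M E : Type*} [Group M] [Group E] {π : M →* E} {t : M} {T : Set E}

/-- Lifts of commuting elements commute if one of the elements is a root. -/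
theorem commute_lift (C : Cover π t) (R : Roots E T) {x y : M} (hx : π x ∈ T)
    (h : π x * π y = π y * π x) : x * y = y * x := by
  classical
  set D : Subgroup E := Subgroup.centralizer ({π x} : Set E) with hD
  set H : Subgroup E := (Subgroup.centralizer ({x} : Set M)).map π with hH
  have memH : ∀ m : M, x * m = m * x → π m ∈ H := fun m hm =>
    Subgroup.mem_map.2 ⟨m, Subgroup.mem_centralizer_iff.2 (by
      intro z hz; rw [Set.mem_singleton_iff] at hz; subst hz; exact hm), rfl⟩
  have ofH : ∀ m : M, π m ∈ H → x * m = m * x := by
    intro m hm
    obtain ⟨m', hm', he⟩ := Subgroup.mem_map.1 hm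
    have hc := Subgroup.mem_centralizer_iff.1 hm' x rfl
    rcases C.eq_or he.symm with rfl | rfl
    · exact hc
    · rw [← mul_assoc, C.central, mul_assoc, hc, mul_assoc]
  by_contra hne
  have hdi : ∀ m : M, π x * π m = π m * π x → x * m = m * x ∨ x * m = t * (m * x) := by
    intro m hm
    exact C.eq_or (by rw [map_mul, map_mul, hm])
  apply R.perf (π x) hx H
  rw [Subgroup.relIndex, Subgroup.index_eq_two_iff]
  refine ⟨⟨π y, Subgroup.mem_centralizer_iff.2 (by
      intro z hz; rw [Set.mem_singleton_iff] at hz; subst hz; exact h)⟩, ?_⟩
  rintro ⟨b, hb⟩
  obtain ⟨m, rfl⟩ := C.surj b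
  have hm : π x * π m = π m * π x := Subgroup.mem_centralizer_iff.1 hb _ rfl
  rw [Subgroup.mem_subgroupOf, Subgroup.mem_subgroupOf]
  simp only [Subgroup.coe_mul]
  have hy : x * y = t * (y * x) := by
    rcases hdi y h with h1 | h1
    · exact absurd h1 hne
    · exact h1
  rw [← map_mul]
  by_cases hm' : x * m = m * x
  · refine Or.inr ⟨memH m hm', fun hc => hne ?_⟩
    have h2 := ofH _ hc
    have h3 : x * (m * y) = m * (x * y) := by rw [← mul_assoc, hm', mul_assoc]
    rw [h3, mul_assoc] at h2
    exact mul_left_cancel h2
  · refine Or.inl ⟨memH _ ?_, fun hc => hm' (ofH _ hc)⟩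
    have h4 : x * m = t * (m * x) := (hdi m hm).resolve_left hm'
    calc x * (m * y) = x * m * y := by group
      _ = t * (m * (x * y)) := by rw [h4]; group
      _ = t * (m * (t * (y * x))) := by rw [hy]
      _ = t * (m * t) * (y * x) := by group
      _ = t * (t * m) * (y * x) := by rw [C.central]
      _ = (t * t) * (m * y * x) := by group
      _ = m * y * x := by rw [C.t_mul_t, one_mul]

/-- Two special pairs with the same commutator have lifts with the same commutator. -/
theorem spe_unique (C : Cover π t) (R : Roots E T) {x y x' y' : M} (hx : π x ∈ T) (hy : π y ∈ T)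
    (hx' : π x' ∈ T) (hy' : π y' ∈ T) (h : ⁅π x, π y⁆ ∈ T) (he : ⁅π x, π y⁆ = ⁅π x', π y'⁆) :
    ⁅x, y⁆ = ⁅x', y'⁆ := by
  obtain ⟨g, hg1, hg2⟩ := R.spe _ hx _ hy _ hx' _ hy'
    (by rwa [sq_mul_eq (R.sq _ hx) (R.sq _ hy)])
    (by rw [sq_mul_eq (R.sq _ hx') (R.sq _ hy'), ← he]; exact h)
  obtain ⟨m, rfl⟩ := C.surj g
  have h1 : m * ⁅x, y⁆ * m⁻¹ = ⁅x', y'⁆ := by
    rw [show m * ⁅x, y⁆ * m⁻¹ = ⁅m * x * m⁻¹, m * y * m⁻¹⁆ by
      rw [commutatorElement_def, commutatorElement_def]; group]
    exact C.commutator_eq (by rw [← hg1]; simp only [_root_.map_mul, _root_.map_inv]) (by rw [← hg2]; simp only [_root_.map_mul, _root_.map_inv])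
  have h2 : π ⁅x, y⁆ ∈ T := by rw [map_commutatorElement]; exact h
  have h3 : ⁅x, y⁆ * m = m * ⁅x, y⁆ := by
    apply commute_lift C R h2
    have h4 : π (m * ⁅x, y⁆ * m⁻¹) = π ⁅x, y⁆ := by
      rw [h1, map_commutatorElement, map_commutatorElement, he]
    rw [map_mul, map_mul, map_inv, mul_inv_eq_iff_eq_mul] at h4
    exact h4.symm
  rw [← h1, ← h3]
  group

theorem exists_spe (C : Cover π t) (R : Roots E T) {r : E} (hr : r ∈ T) :
    ∃ x y : M, π x ∈ T ∧ π y ∈ T ∧ ⁅π x, π y⁆ = r := by
  obtain ⟨a, ha, b, hb, hab⟩ := R.spe_ex
  obtain ⟨g, hg⟩ := R.one _ hab _ hr
  obtain ⟨x, hx⟩ := C.surj (g * a * g⁻¹)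
  obtain ⟨y, hy⟩ := C.surj (g * b * g⁻¹)
  refine ⟨x, y, hx ▸ R.conj _ ha g, hy ▸ R.conj _ hb g, ?_⟩
  rw [hx, hy, ← hg, sq_mul_eq (R.sq _ ha) (R.sq _ hb), commutatorElement_def,
    commutatorElement_def]
  group

/-- (special pairs) -/
theorem w_commutator (C : Cover π t) (R : Roots E T) {x y : M} (hx : π x ∈ T) (hy : π y ∈ T)
    (h : ⁅π x, π y⁆ ∈ T) : w π T ⁅π x, π y⁆ = ⁅x, y⁆ := by
  classical
  have hex : ∃ x' y' : M, π x' ∈ T ∧ π y' ∈ T ∧ ⁅π x', π y'⁆ = ⁅π x, π y⁆ := ⟨x, y, hx, hy, rfl⟩
  rw [w, dif_pos hex]
  obtain ⟨h1, h2, h3⟩ := hex.choose_spec.choose_spec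
  exact spe_unique C R h1 h2 hx hy (by rw [h3]; exact h) h3

theorem map_w (C : Cover π t) (R : Roots E T) {r : E} (hr : r ∈ T) : π (w π T r) = r := by
  obtain ⟨x, y, hx, hy, rfl⟩ := exists_spe C R hr
  rw [w_commutator C R hx hy hr, map_commutatorElement]

theorem map_lab (C : Cover π t) (R : Roots E T) {r : E} (hr : r ∈ T) : π (lab π t T r) = r := by
  rw [lab, C.map_t_mul, map_w C R hr]

theorem eq_w_or_lab (C : Cover π t) (R : Roots E T) {m : M} (hm : π m ∈ T) :
    m = w π T (π m) ∨ m = lab π t T (π m) :=
  C.eq_or (by rw [map_w C R hm])

/-- equivariance under isomorphisms of covers -/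
theorem w_iso {M' E' : Type*} [Group M'] [Group E'] {π' : M' →* E'} {t' : M'} {T' : Set E'}
    (C : Cover π t) (R : Roots E T) (C' : Cover π' t') (R' : Roots E' T')
    (φ : M →* M') (ψ : E →* E') (hc : ∀ m, π' (φ m) = ψ (π m)) (hT : ∀ r ∈ T, ψ r ∈ T')
    {r : E} (hr : r ∈ T) : φ (w π T r) = w π' T' (ψ r) := by
  obtain ⟨x, y, hx, hy, rfl⟩ := exists_spe C R hr
  rw [w_commutator C R hx hy hr, map_commutatorElement, map_commutatorElement, ← hc, ← hc]
  symm
  apply w_commutator C' R' (by rw [hc]; exact hT _ hx) (by rw [hc]; exact hT _ hy)
  rw [hc, hc, ← map_commutatorElement]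
  exact hT _ hr

/-- equivariance under an automorphism of `M` over an automorphism of `E` preserving `T` -/
theorem w_aut (C : Cover π t) (R : Roots E T) (φ : M →* M) (ψ : E →* E)
    (hc : ∀ m, π (φ m) = ψ (π m)) (hT : ∀ r ∈ T, ψ r ∈ T) {r : E} (hr : r ∈ T) :
    φ (w π T r) = w π T (ψ r) := w_iso C R C R φ ψ hc hT hr

theorem w_conj (C : Cover π t) (R : Roots E T) (m : M) {r : E} (hr : r ∈ T) :
    m * w π T r * m⁻¹ = w π T (π m * r * (π m)⁻¹) :=
  w_aut C R (MulAut.conj m).toMonoidHom (MulAut.conj (π m)).toMonoidHom (by intro; simp only [_root_.MulEquiv.toMonoidHom_eq_coe, _root_.MonoidHom.coe_coe, _root_.MulAut.conj_apply, _root_.map_mul, _root_.map_inv])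
    (by intro r hr; simpa using R.conj r hr (π m)) hr

theorem lab_conj (C : Cover π t) (R : Roots E T) (m : M) {r : E} (hr : r ∈ T) :
    m * lab π t T r * m⁻¹ = lab π t T (π m * r * (π m)⁻¹) := by
  rw [lab, lab, ← w_conj C R m hr, ← mul_assoc, C.central]
  group

/-- the lifts of root involutions are involutions -/
theorem w_sq (C : Cover π t) (R : Roots E T) {r : E} (hr : r ∈ T) : w π T r * w π T r = 1 := by
  obtain ⟨x, y, hx, hy, rfl⟩ := exists_spe C R hr
  set v := w π T ⁅π x, π y⁆ with hv
  have hv' : v = ⁅x, y⁆ := w_commutator C R hx hy hr
  have hy2 : y * y = 1 ∨ y * y = t := by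
    rw [← C.ker, map_mul, R.sq _ hy]
  -- `y * y` is central
  have hcy : ∀ m : M, m * (y * y) = y * y * m := by
    intro m
    rcases hy2 with h | h
    · rw [h, mul_one, one_mul]
    · rw [h, C.central]
  have h1 : x * y * x⁻¹ = v * y := by rw [hv', commutatorElement_def]; group
  have hvy : v * y = y * v := by
    apply commute_lift C R (by rw [hv, map_w C R hr]; exact hr)
    rw [hv, map_w C R hr]
    -- `⁅a, b⁆ = (a * b) ^ 2` commutes with `b`, since its square is one
    have ha := R.sq _ hx
    have hb := R.sq _ hy
    have h2 := R.sq _ hr
    rw [← sq_mul_eq ha hb] at h2 ⊢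
    have h3 : (π x * π y) ^ 2 = ((π x * π y) ^ 2)⁻¹ := by rw [eq_inv_iff_mul_eq_one, h2]
    have hb' : (π y)⁻¹ = π y := inv_eq_iff_mul_eq_one.2 hb
    have ha' : (π x)⁻¹ = π x := inv_eq_iff_mul_eq_one.2 ha
    calc (π x * π y) ^ 2 * π y = π x * π y * π x * (π y * π y) := by rw [pow_two]; group
      _ = π x * π y * π x := by rw [hb, mul_one]
      _ = (π y * π y) * (π x * π y * π x) := by rw [hb, one_mul]
      _ = π y * (π y * π x * π y * π x) := by group
      _ = π y * ((π x * π y) ^ 2)⁻¹ := by
          rw [pow_two, mul_inv_rev, mul_inv_rev, ha', hb']; group
      _ = π y * (π x * π y) ^ 2 := by rw [← h3]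
  have h4 : x * (y * y) * x⁻¹ = y * y := by rw [hcy]; group
  have h5 : x * (y * y) * x⁻¹ = (v * y) * (v * y) := by rw [← h1]; group
  have h6 : (v * y) * (v * y) = v * v * (y * y) := by
    calc (v * y) * (v * y) = v * (y * v) * y := by group
      _ = v * (v * y) * y := by rw [hvy]
      _ = _ := by group
  rw [h4, h6] at h5
  exact (right_eq_mul.1 h5)

theorem lab_sq (C : Cover π t) (R : Roots E T) {r : E} (hr : r ∈ T) :
    lab π t T r * lab π t T r = 1 := by
  rw [lab, show t * w π T r * (t * w π T r) = t * (w π T r * t) * w π T r by group, C.central,
    show t * (t * w π T r) * w π T r = (t * t) * (w π T r * w π T r) by group, C.t_mul_t,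
    w_sq C R hr, one_mul]

theorem w_inv (C : Cover π t) (R : Roots E T) {r : E} (hr : r ∈ T) : (w π T r)⁻¹ = w π T r :=
  inv_eq_iff_mul_eq_one.2 (w_sq C R hr)

theorem w_ne_one (C : Cover π t) (R : Roots E T) {r : E} (hr : r ∈ T) : w π T r ≠ 1 := by
  intro h
  apply R.ne_one r hr
  rw [← map_w C R hr, h, map_one]

/-- special pairs, `(w a * w b) ^ 2 = w ((a * b) ^ 2)` -/
theorem w_spe (C : Cover π t) (R : Roots E T) {a b : E} (ha : a ∈ T) (hb : b ∈ T)
    (h : (a * b) ^ 2 ∈ T) : (w π T a * w π T b) ^ 2 = w π T ((a * b) ^ 2) := by
  have h' : ⁅a, b⁆ ∈ T := by rwa [← sq_mul_eq (R.sq _ ha) (R.sq _ hb)]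
  rw [sq_mul_eq (w_sq C R ha) (w_sq C R hb), sq_mul_eq (R.sq _ ha) (R.sq _ hb)]
  have := w_commutator C R (x := w π T a) (y := w π T b) (by rw [map_w C R ha]; exact ha)
    (by rw [map_w C R hb]; exact hb) (by rw [map_w C R ha, map_w C R hb]; exact h')
  rw [map_w C R ha, map_w C R hb] at this
  exact this.symm

/-- commuting pairs -/
theorem w_comm (C : Cover π t) (R : Roots E T) {a b : E} (ha : a ∈ T) (hb : b ∈ T)
    (h : a * b = b * a) : w π T a * w π T b = w π T b * w π T a :=
  commute_lift C R (by rw [map_w C R ha]; exact ha) (by rw [map_w C R ha, map_w C R hb]; exact h)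

theorem lab_mul_lab (C : Cover π t) (a b : E) :
    lab π t T a * lab π t T b = w π T a * w π T b := by
  rw [lab, lab, show t * w π T a * (t * w π T b) = t * (w π T a * t) * w π T b by group,
    C.central, show t * (t * w π T a) * w π T b = (t * t) * (w π T a * w π T b) by group,
    C.t_mul_t, one_mul]

/-- lines -/
theorem w_line (C : Cover π t) (R : Roots E T) {a b : E} (ha : a ∈ T) (hb : b ∈ T)
    (h : a * b ∈ T) : w π T a * w π T b = w π T (a * b) := by
  obtain ⟨a₀, ha₀, b₀, hb₀, x, hx, hab, hxa, hxb, hxab, hcom⟩ := R.cfg_line
  set A := w π T a₀ with hA
  set B := w π T b₀ with hB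
  set X := w π T x with hX
  have hπA : π A = a₀ := map_w C R ha₀
  have hπB : π B = b₀ := map_w C R hb₀
  have hπX : π X = x := map_w C R hx
  have hxa' : ⁅x, a₀⁆ ∈ T := by rwa [← sq_mul_eq (R.sq _ hx) (R.sq _ ha₀)]
  have hxb' : ⁅x, b₀⁆ ∈ T := by rwa [← sq_mul_eq (R.sq _ hx) (R.sq _ hb₀)]
  have hxab' : ⁅x, a₀ * b₀⁆ ∈ T := by rwa [← sq_mul_eq (R.sq _ hx) (R.sq _ hab)]
  rw [sq_mul_eq (R.sq _ hx) (R.sq _ hb₀)] at hcom
  have e1 : w π T ⁅x, a₀⁆ = ⁅X, A⁆ := by
    rw [← hπX, ← hπA]; exact w_commutator C R (hπX ▸ hx) (hπA ▸ ha₀) (by rw [hπX, hπA]; exact hxa')
  have e2 : w π T ⁅x, b₀⁆ = ⁅X, B⁆ := by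
    rw [← hπX, ← hπB]; exact w_commutator C R (hπX ▸ hx) (hπB ▸ hb₀) (by rw [hπX, hπB]; exact hxb')
  have e3 : w π T ⁅x, a₀ * b₀⁆ = ⁅X, A * B⁆ := by
    rw [← hπX, ← hπA, ← hπB, ← map_mul]
    exact w_commutator C R (hπX ▸ hx) (by rw [map_mul, hπA, hπB]; exact hab)
      (by rw [map_mul, hπX, hπA, hπB]; exact hxab')
  have e4 : ⁅x, a₀ * b₀⁆ = ⁅x, a₀⁆ * ⁅x, b₀⁆ := by
    rw [show ⁅x, a₀ * b₀⁆ = ⁅x, a₀⁆ * (a₀ * ⁅x, b₀⁆ * a₀⁻¹) by
      simp only [commutatorElement_def]; group, hcom]
    group
  have e5 : A * ⁅X, B⁆ = ⁅X, B⁆ * A := by
    apply commute_lift C R (by rw [hπA]; exact ha₀)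
    rw [map_commutatorElement, hπA, hπX, hπB]
    exact hcom
  have e6 : ⁅X, A * B⁆ = ⁅X, A⁆ * ⁅X, B⁆ := by
    rw [show ⁅X, A * B⁆ = ⁅X, A⁆ * (A * ⁅X, B⁆ * A⁻¹) by
      simp only [commutatorElement_def]; group, e5]
    group
  -- the law holds for the collinear pair `⁅x, a₀⁆`, `⁅x, b₀⁆`
  have e7 : w π T ⁅x, a₀⁆ * w π T ⁅x, b₀⁆ = w π T (⁅x, a₀⁆ * ⁅x, b₀⁆) := by
    rw [← e4, e3, e6, e1, e2]
  obtain ⟨g, hg1, hg2⟩ := R.col _ hxa' _ hxb' _ ha _ hb (by rw [← e4]; exact hxab') h
  obtain ⟨m, rfl⟩ := C.surj g
  have f1 := w_conj C R m hxa'
  have f2 := w_conj C R m hxb'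
  have f3 := w_conj C R m (r := ⁅x, a₀⁆ * ⁅x, b₀⁆) (by rw [← e4]; exact hxab')
  rw [hg1] at f1
  rw [hg2] at f2
  rw [show π m * (⁅x, a₀⁆ * ⁅x, b₀⁆) * (π m)⁻¹ =
    (π m * ⁅x, a₀⁆ * (π m)⁻¹) * (π m * ⁅x, b₀⁆ * (π m)⁻¹) by group, hg1, hg2] at f3
  rw [← f3, ← e7, ← f1, ← f2]
  group

/-- the centraliser of the lift of a root is the full preimage of the centraliser of the root -/
theorem mem_centralizer_w (C : Cover π t) (R : Roots E T) {r : E} (hr : r ∈ T) (m : M) :
    m ∈ Subgroup.centralizer ({w π T r} : Set M) ↔ π m ∈ Subgroup.centralizer ({r} : Set E) := by
  constructor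
  · intro h
    refine Subgroup.mem_centralizer_iff.2 fun z hz => ?_
    rw [Set.mem_singleton_iff] at hz
    subst hz
    have := Subgroup.mem_centralizer_iff.1 h _ rfl
    conv_lhs => rw [← map_w C R hr]
    conv_rhs => rw [← map_w C R hr]
    rw [← map_mul, this, map_mul]
  · intro h
    refine Subgroup.mem_centralizer_iff.2 fun z hz => ?_
    rw [Set.mem_singleton_iff] at hz
    subst hz
    apply commute_lift C R (by rw [map_w C R hr]; exact hr)
    rw [map_w C R hr]
    exact Subgroup.mem_centralizer_iff.1 h _ rfl

/-- products of good lifts and of canonical lifts of an odd word differ by `t` -/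
theorem prod_lab (C : Cover π t) (l : List E) :
    (l.map (lab π t T)).prod = t ^ l.length * (l.map (w π T)).prod := by
  have hcen : ∀ (n : ℕ) (m : M), m * t ^ n = t ^ n * m := by
    intro n m
    induction n with
    | zero => simp
    | succ n ih => rw [pow_succ, ← mul_assoc, ih, mul_assoc, C.central, ← mul_assoc]
  induction l with
  | nil => simp
  | cons a l ih =>
    rw [List.map_cons, List.prod_cons, List.map_cons, List.prod_cons, ih, List.length_cons, lab,
      pow_succ', mul_assoc t (w π T a), ← mul_assoc (w π T a), hcen]
    simp only [mul_assoc]

/-- **perfectness of the centraliser in `M`** (in the form: no subgroup of index two):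
it is enough to know an odd word in roots symplectic to `r` whose canonical lift is `1`, and one
whose canonical lift is `t`. -/
theorem relIndex_ne_two (C : Cover π t) (R : Roots E T) {r : E} (hr : r ∈ T) (u v : List E)
    (hu : ∀ a ∈ u, a ∈ T ∧ a ≠ r ∧ a * r = r * a ∧ r * a ∉ T)
    (hv : ∀ a ∈ v, a ∈ T ∧ a ≠ r ∧ a * r = r * a ∧ r * a ∉ T)
    (hodd : Odd u.length) (hu1 : (u.map (w π T)).prod = 1) (hv1 : (v.map (w π T)).prod = t)
    (H : Subgroup M) : H.relIndex (Subgroup.centralizer ({w π T r} : Set M)) ≠ 2 := by
  classical
  intro hH
  set D := Subgroup.centralizer ({w π T r} : Set M) with hD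
  rw [Subgroup.relIndex, Subgroup.index_eq_two_iff] at hH
  obtain ⟨⟨y, hy⟩, hxor⟩ := hH
  -- membership in `H` of elements of `D`
  have key : ∀ b ∈ D, Xor (b * y ∈ H) (b ∈ H) := by
    intro b hb
    have := hxor ⟨b, hb⟩
    rwa [Subgroup.mem_subgroupOf, Subgroup.mem_subgroupOf] at this
  have tD : t ∈ D := by
    rw [hD, mem_centralizer_w C R hr, C.map_t]; exact one_mem _
  -- products
  have pm : ∀ a ∈ D, ∀ b ∈ D, (a * b ∈ H ↔ (a ∈ H ↔ b ∈ H)) := by
    -- index two
    have hidx : (H.subgroupOf D).index = 2 := by
      rw [Subgroup.index_eq_two_iff]
      exact ⟨⟨y, hy⟩, hxor⟩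
    intro a ha b hb
    have := Subgroup.mul_mem_iff_of_index_two hidx (a := ⟨a, ha⟩) (b := ⟨b, hb⟩)
    simpa only [Subgroup.mem_subgroupOf, Subgroup.coe_mul] using this
  have cm : ∀ a ∈ D, ∀ g ∈ D, (g * a * g⁻¹ ∈ H ↔ a ∈ H) := by
    intro a ha g hg
    rw [pm _ (D.mul_mem hg ha) _ (D.inv_mem hg), pm _ hg _ ha, inv_mem_iff]
    (clear * -; tauto)
  -- `t ∉ H`, otherwise the image of `H ⊓ D` has index two
  have htH : t ∉ H := by
    intro ht
    apply R.perf r hr ((H ⊓ D).map π)
    rw [Subgroup.relIndex, Subgroup.index_eq_two_iff]
    have hyr : π y ∈ Subgroup.centralizer ({r} : Set E) := (mem_centralizer_w C R hr y).1 hy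
    refine ⟨⟨π y, hyr⟩, ?_⟩
    rintro ⟨b, hb⟩
    obtain ⟨m, rfl⟩ := C.surj b
    have hm : m ∈ D := (mem_centralizer_w C R hr m).2 hb
    have himg : ∀ z ∈ D, (π z ∈ (H ⊓ D).map π ↔ z ∈ H) := by
      intro z hz
      constructor
      · intro h
        obtain ⟨z', hz', he⟩ := Subgroup.mem_map.1 h
        rcases C.eq_or he.symm with rfl | rfl
        · exact hz'.1
        · exact H.mul_mem ht hz'.1
      · intro h
        exact Subgroup.mem_map.2 ⟨z, ⟨h, hz⟩, rfl⟩
    rw [Subgroup.mem_subgroupOf, Subgroup.mem_subgroupOf]
    simp only [Subgroup.coe_mul]
    rw [← map_mul, himg _ (D.mul_mem hm hy), himg _ hm]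
    exact key m hm
  -- all canonical lifts of roots symplectic to `r` are conjugate in `D`
  have same : ∀ a b : E, (a ∈ T ∧ a ≠ r ∧ a * r = r * a ∧ r * a ∉ T) →
      (b ∈ T ∧ b ≠ r ∧ b * r = r * b ∧ r * b ∉ T) → (w π T a ∈ H ↔ w π T b ∈ H) := by
    rintro a b ⟨ha, ha1, ha2, ha3⟩ ⟨hb, hb1, hb2, hb3⟩
    obtain ⟨g, hg1, hg2⟩ := R.sym _ hr _ ha _ hr _ hb ha1.symm ha2.symm ha3 hb1.symm hb2.symm hb3
    obtain ⟨m, rfl⟩ := C.surj g
    have hm : m ∈ D := by
      rw [hD, mem_centralizer_w C R hr, Subgroup.mem_centralizer_iff]
      intro z hz
      rw [Set.mem_singleton_iff] at hz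
      subst hz
      exact (mul_inv_eq_iff_eq_mul.1 hg1).symm
    have haD : w π T a ∈ D := by
      rw [hD, mem_centralizer_w C R hr, map_w C R ha, Subgroup.mem_centralizer_iff]
      intro z hz
      rw [Set.mem_singleton_iff] at hz
      subst hz
      exact ha2.symm
    have := cm _ haD _ hm
    rw [w_conj C R m ha, hg2] at this
    exact this.symm
  have memD : ∀ a : E, (a ∈ T ∧ a ≠ r ∧ a * r = r * a ∧ r * a ∉ T) → w π T a ∈ D := by
    rintro a ⟨ha, -, ha2, -⟩
    rw [hD, mem_centralizer_w C R hr, map_w C R ha, Subgroup.mem_centralizer_iff]
    intro z hz
    rw [Set.mem_singleton_iff] at hz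
    subst hz
    exact ha2.symm
  have prodD : ∀ l : List E, (∀ a ∈ l, a ∈ T ∧ a ≠ r ∧ a * r = r * a ∧ r * a ∉ T) →
      (l.map (w π T)).prod ∈ D := by
    intro l hl
    apply Subgroup.list_prod_mem
    intro x hx
    obtain ⟨a, ha, rfl⟩ := List.mem_map.1 hx
    exact memD a (hl a ha)
  -- the canonical lifts lie in `H`
  have hall : ∀ a : E, (a ∈ T ∧ a ≠ r ∧ a * r = r * a ∧ r * a ∉ T) → w π T a ∈ H := by
    intro a ha
    by_contra hna
    have hno : ∀ b : E, (b ∈ T ∧ b ≠ r ∧ b * r = r * b ∧ r * b ∉ T) → w π T b ∉ H :=
      fun b hb h => hna ((same a b ha hb).2 h)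
    have hpar : ∀ l : List E, (∀ a ∈ l, a ∈ T ∧ a ≠ r ∧ a * r = r * a ∧ r * a ∉ T) →
        ((l.map (w π T)).prod ∈ H ↔ Even l.length) := by
      intro l
      induction l with
      | nil => intro _; simp
      | cons b l ih =>
        intro hl
        have hb := hl b List.mem_cons_self
        have hl' : ∀ a ∈ l, a ∈ T ∧ a ≠ r ∧ a * r = r * a ∧ r * a ∉ T :=
          fun a ha => hl a (List.mem_cons_of_mem _ ha)
        rw [List.map_cons, List.prod_cons, pm _ (memD b hb) _ (prodD l hl'), ih hl',
          List.length_cons, Nat.even_add_one]
        have := hno b hb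
        (clear * - this; tauto)
    have h1 := (hpar u hu)
    rw [hu1] at h1
    exact (Nat.not_even_iff_odd.2 hodd) (h1.1 H.one_mem)
  apply htH
  rw [← hv1]
  apply Subgroup.list_prod_mem
  intro x hx
  obtain ⟨a, ha, rfl⟩ := List.mem_map.1 hx
  exact hall a (hv a ha)

end main

end Cfsg.Agent.BabyU.Lab

private theorem dce_af8056ec6d58 : _root_.True := by
  try have : _root_.True := by simp only [_root_.Cfsg.Agent.BabyU.Lab.w.eq_1]
  try have : _root_.True := by simp only [_root_.Cfsg.Agent.BabyU.Lab.lab.eq_1]
  exact _root_.True.intro
end

-- part: TwoESix/ClassIso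
section
set_option linter.all false
open scoped Cfsg.Agent.FastGrp
set_option autoImplicit false

namespace Cfsg.Agent.TwoESix.ClassIso

open Cfsg.Lie Cfsg.Agent.BabyU Cfsg.Agent.TwoESix.Iso Cfsg.Agent.TwoESix.RootsCfg Cfsg.Agent.TwoESix.Coded
open Cfsg.Agent.TwoESix.Main Cfsg.Agent.TwoESix.Data

/-- an isomorphism carrying `rootClass K` to `TG` -/
theorem exists_equiv (K : Type*) [Field K] [Fintype K] (hK : Fintype.card K = 4) :
    ∃ θ : twistedE6 K 2 ≃* Gam, ∀ x, x ∈ rootClass K ↔ ((θ x : Gam) : GL (Fin 78) (ZMod 2)) ∈ TG := by
  obtain ⟨w, f, h2, hw, hf, hmap, hval⟩ := exists_phi K hK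
  have hmem : ∀ g ∈ Gam, f g ∈ twistedE6 K 2 := fun g hg => hmap ▸ ⟨g, hg, rfl⟩
  have hval0 : ((f (gM 0) : GL chevE6.Idx K) : Matrix chevE6.Idx chevE6.Idx K) = chevE6.x K e6p2 1 := by
    rw [hval]
    simp [lw, ws, ChevalleyDatum.wordMat, Coded.cv_one]
    rfl
  let φ : Gam →* twistedE6 K 2 := (f.comp Gam.subtype).codRestrict (twistedE6 K 2) fun g => hmem g g.2
  have hφ : ∀ g : Gam, ((φ g : twistedE6 K 2) : GL chevE6.Idx K) = f g := fun _ => rfl
  have hinj : Function.Injective φ := fun a b h => Subtype.ext (hf (by
    rw [← hφ, ← hφ, h]))
  have hsurj : Function.Surjective φ := by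
    rintro ⟨x, hx⟩
    rw [← hmap] at hx
    obtain ⟨g, hg, rfl⟩ := hx
    exact ⟨⟨g, hg⟩, rfl⟩
  let θ : Gam ≃* twistedE6 K 2 := MulEquiv.ofBijective φ ⟨hinj, hsurj⟩
  have hθ : ∀ g : Gam, ((θ g : twistedE6 K 2) : GL chevE6.Idx K) = f g := fun _ => rfl
  have h0 : gM 0 ∈ Gam := Subgroup.subset_closure ⟨0, rfl⟩
  have key : ∀ y : Gam, θ y ∈ rootClass K ↔ (y : GL (Fin 78) (ZMod 2)) ∈ TG := by
    intro y
    constructor
    · rintro ⟨g, r, hr, hy⟩
      have hr' : r = θ ⟨gM 0, h0⟩ := by
        apply Subtype.ext
        apply Units.ext
        rw [hr, hθ]
        exact hval0.symm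
      obtain ⟨g, rfl⟩ := θ.surjective g
      rw [hr', ← map_inv, ← map_mul, ← map_mul] at hy
      have h1 := θ.injective hy
      exact ⟨g, g.2, by rw [h1]; rfl⟩
    · rintro ⟨g, hg, hy⟩
      refine ⟨θ ⟨g, hg⟩, θ ⟨gM 0, h0⟩, hval0, ?_⟩
      have h1 : y = ⟨g, hg⟩ * ⟨gM 0, h0⟩ * (⟨g, hg⟩ : Gam)⁻¹ := Subtype.ext hy
      rw [h1, map_mul, map_mul, map_inv]
  refine ⟨θ.symm, fun x => ?_⟩
  rw [← key, θ.apply_symm_apply]

end Cfsg.Agent.TwoESix.ClassIso
end

-- part: TwoESix/ExtTwisted
section
prune_inst 0x34203904042210000000001200000020600001000008000038c00100000610600000280074200b020020080000000048110000100220000000008000400000000400500213000104000000802882000000000000000000000000000000041000000000000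
set_option linter.all false
open scoped Cfsg.Agent.FastGrp

-- part: TwoESix/ExtData2
section
/-!
Certificates about the extremal elements `ec = e_θ` and `yc = e_{-θ}` (generated by a program, checked in the importing
files).
-/

set_option autoImplicit false

namespace Cfsg.Agent.TwoESix.ExtData2

/-- `e_θ` -/
def ec : ℕ := 0x20000000

/-- `e_{-θ}` -/
def yc : ℕ := 0x40

/-- `[e,y]` -/
def hc : ℕ := 0x6

/-- words in the generators: the image of `b0` is `ec` -/
def ew : List ℕ := [1, 3, 13, 9, 0, 2, 3, 14, 11, 4, 2, 10, 3, 2]

/-- words in the generators: the image of `b0` is `yc` -/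
def yw : List ℕ := [0, 2, 10, 1, 3, 13, 4, 2, 10, 7, 3, 13, 2, 3, 0, 1]

/-- extremal elements collinear to `yc` -/
def cs : List ℕ := [
  0x8000,
  0xc000,
  0x100000000e000,
  0x200000000e000,
  0x300000000e000,
  0x300d00000e400,
  0x300b00000e400,
  0x300600000e400,
  0x300000000b000,
  0x200700000e400,
  0x200e00000e400,
  0x100fc0000b600,
  0x200940000b600,
  0x200e80000b600,
  0x200f9c0009700,
  0x200cb8000b700,
  0x200da40009700,
  0x200a7c0009700,
  0x200868000b700,
  0x100e6c000d580]

/-- their words -/
def cw : List (List ℕ) := [
  [0, 1],
  [3, 0, 1],
  [13, 3, 0, 1],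
  [14, 3, 0, 1],
  [15, 3, 0, 1],
  [7, 15, 3, 0, 1],
  [9, 15, 3, 0, 1],
  [8, 15, 3, 0, 1],
  [3, 15, 3, 0, 1],
  [9, 14, 3, 0, 1],
  [8, 14, 3, 0, 1],
  [9, 3, 13, 3, 0, 1],
  [7, 3, 14, 3, 0, 1],
  [8, 3, 14, 3, 0, 1],
  [15, 8, 3, 14, 3, 0, 1],
  [14, 8, 3, 14, 3, 0, 1],
  [13, 8, 3, 14, 3, 0, 1],
  [15, 7, 3, 14, 3, 0, 1],
  [14, 7, 3, 14, 3, 0, 1],
  [3, 15, 9, 3, 13, 3, 0, 1]]

/-- the dual basis -/
def cps : List ℕ := [
  0x8580,
  0x2000000008700,
  0x2003040002200,
  0x100998000a200,
  0x100a9c0003600,
  0x100d400003000,
  0x1200003000,
  0x2006f00009000,
  0xa400,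
  0x2006e00008000,
  0x100c70000a000,
  0x300000a000,
  0x200d000002000,
  0x200e000006000,
  0x4000004000,
  0x300800000c000,
  0x1000000004000,
  0x3004000008000,
  0x1008000008000,
  0x8000]

/-- `cps j = [y, aps j]` -/
def aps : List ℕ := [
  0x10b00000,
  0x20000000000010e00000,
  0x23040000000004400000,
  0x19980000000014400000,
  0x1a9c0000000006c00000,
  0x1d400000000006000000,
  0x1200000000006000000,
  0x26f00000000012000000,
  0x14800000,
  0x26e00000000010000000,
  0x1c700000000014000000,
  0x3000000000014000000,
  0x2d000000000004000000,
  0x2e00000000000c000000,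
  0x4000000000008000000,
  0x38000000000018000000,
  0x10000000000008000000,
  0x34000000000010000000,
  0x18000000000010000000,
  0x10000000]

/-- `[y,x] = ∑ B(k,x) t` over the pairs `(k,t)` -/
def L1 : List (ℕ × ℕ) := [
  (0x8580, 0x8000),
  (0x2000000008700, 0xc000),
  (0x2003040002200, 0x100000000e000),
  (0x100998000a200, 0x200000000e000),
  (0x100a9c0003600, 0x300000000e000),
  (0x100d400003000, 0x300d00000e400),
  (0x1200003000, 0x300b00000e400),
  (0x2006f00009000, 0x300600000e400),
  (0xa400, 0x300000000b000),
  (0x2006e00008000, 0x200700000e400),
  (0x100c70000a000, 0x200e00000e400),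
  (0x300000a000, 0x100fc0000b600),
  (0x200d000002000, 0x200940000b600),
  (0x200e000006000, 0x200e80000b600),
  (0x4000004000, 0x200f9c0009700),
  (0x300800000c000, 0x200cb8000b700),
  (0x1000000004000, 0x200da40009700),
  (0x3004000008000, 0x200a7c0009700),
  (0x1008000008000, 0x200868000b700),
  (0x8000, 0x100e6c000d580),
  (0x6, 0x40),
  (0x40, 0x6)]

/-- functional part of the core certificate -/
def L2 : List (ℕ × ℕ) := [
  (0x8580, 0x0),
  (0x2000000008700, 0x18000000),
  (0x2003040002200, 0x0),
  (0x100998000a200, 0x2000000000001c000000),
  (0x100a9c0003600, 0x3000000000001c000000),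
  (0x100d400003000, 0x3d00000000001c800000),
  (0x1200003000, 0x0),
  (0x2006f00009000, 0x3600000000001c800000),
  (0xa400, 0x30000000000016000000),
  (0x2006e00008000, 0x2700000000001c800000),
  (0x100c70000a000, 0x0),
  (0x300000a000, 0x1fc00000000016c00000),
  (0x200d000002000, 0x29400000000016c00000),
  (0x200e000006000, 0x2e800000000016c00000),
  (0x4000004000, 0x2f9c0000000012e00000),
  (0x300800000c000, 0x2cb80000000016e00000),
  (0x1000000004000, 0x2da40000000012e00000),
  (0x3004000008000, 0x2a7c0000000012e00000),
  (0x1008000008000, 0x28680000000016e00000),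
  (0x8000, 0x1e6c000000001ab00000),
  (0x40, 0x0),
  (0x1, 0x6),
  (0x20000000, 0x40)]

/-- core certificate -/
def TA : ℕ := 0x3a8fc1200010500010003b0031c0000380000000c400000000000000000eb2c35400041800540000000000000000000000300000000000000000002400c700000e0000000053a3d8000028005000390e8f600010b0014000db1c35400043c00040038c8ce400010b00150000000c0354000240000000001000000000000000000000000000000000000000000000000000000000000000000000000000000000000000000000cf160ec00003c0000003f0583400000f000000004290040000000000003688c20000105001500000000000000000000000000000000000000000000000028000000000000000000100000000000000004007400024000000000100d10000900000000000020800000000000000000810000000000000000020200000000000000100d54000900000000000000080000000000000000000000000000000000000000000003b00000000001c80000054000000000000000000000a400c700000e0000000000000000000000000000000000000000000000000000000000000000000000000000000000000cfad3d8000008008000014e8f600000e00140001b1308c0004380004000d458f600000a001400000004031c00008000000000100c70000e0000000000403540002c000000000100c70000b00000026353ec0004282050000000000c00000040000000004025400024800000000000000000010000000004011c0002820000000000000000000000002a3816c00000c00e40032cfcd500000f0001000093712400040c00a4000acb0120001040015000da2300000041400100000000000000000000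

/-- core certificate -/
def TB : ℕ := 0x24c0c700000e000000000000000000000000000000000000000000000000000000000000000000000000000000000000000000000000000000000000000000000000000000000000000000000000000000000000000000000000000000000000000000000000000000000000000000000000000000000000000000000000000000000000000000000000000000000000000000000000000000000000000000000000000000000000000000000000000000000001000000000000000000000000001000000000001c0000000003c2a1e000041c0070003442000000105000000000000000000000000000e480c700000e00000000000000000000000000000000000000000000000000000000000000000000000000000000000000f1104800040000e0000000000000000000000000004031c000280000000000000000000000000000040354000240000000000000000000000000fd1c23800042400b0000a400c700010e0000000720000000040000000032000c700000e0000000cfcf23800040800e00000000000000000000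

/-- pairs -/
def gp : List (ℕ × ℕ) := [
  (0, 0),
  (0, 1),
  (0, 2),
  (0, 3),
  (0, 4),
  (0, 5),
  (0, 6),
  (0, 7),
  (0, 8),
  (0, 9),
  (0, 10),
  (0, 11),
  (0, 12),
  (0, 13),
  (0, 14),
  (0, 15),
  (0, 16),
  (0, 17),
  (0, 18),
  (0, 19),
  (1, 2),
  (1, 3),
  (1, 4),
  (1, 5),
  (1, 6),
  (1, 7),
  (1, 8),
  (1, 9),
  (1, 10),
  (1, 12),
  (1, 15),
  (1, 16),
  (2, 3),
  (2, 4),
  (2, 5),
  (2, 7)]

/-- their products `[aps i, cps j]` -/
def brs : List ℕ := [
  0x6,
  0x2028000000080001,
  0x30280300000d0800,
  0x27014bb0000090801,
  0x26014b800010c0011,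
  0x110147c0001040011,
  0x8000210001040011,
  0x3e028e50001050010,
  0x10801,
  0x3a028f50000040001,
  0x1d0144d0000010001,
  0x30000010001,
  0x20283d0000050000,
  0x20283e00000f0003,
  0x1400000a0003,
  0x303c2800000e0002,
  0x10140000000a0003,
  0x303c140000040001,
  0x1014280000040001,
  0x40001,
  0x7020c000000c0836,
  0x3ffd0f60001000803,
  0x38fd03600000f0837,
  0x39910310000070002,
  0x40680001070002,
  0x26a06f00010f0011,
  0x2000000000080013,
  0x66607b00000c0000,
  0x3d9904d0001080013,
  0x2a220700000040013,
  0x13330200001040003,
  0x1110000001080003,
  0x1ef500d00010c081b,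
  0x19f84cd000102083e,
  0x2999494000106001a,
  0x3f694e300000e0027]

/-- inverse of the matrix of the generating vectors -/
def GI : ℕ := 0xb4000000000000000003b0000000000000000002c000000000000000003e000000000000000000e18000000000000000007a0000000000000000015a600000000000000029bb00000000000000009eea0000000000000003ff18000000000000000809f4000000000000001fdfe0b0c73d51c0000000000200714bec800000000008fd9ee6a400000000000c578503b000000000000000809f4000000000000001fdfe0000000000009cdb3794000000000000bb45af500000000000027add1bc000000000019bb06f7200000000000b1b29e0680000000000206d3ca5c0000000000001bf4bffc00000000001bab391490000000000001bf7f60800000000001bab1dcb700000000000000000000b4000000000000000003b000000000b0c7c977c000000000020073aa5c800000000008fd97080400000000000c57baf23000000000008fd95c80400000000000c5784f23000000000000000e18000000000000000007a00000000000000000000002c000000000000000003e000000000000000000e18000000000000000007a0000000000000000015a600000000000000029bb00000000000000009eea0000000000000003ff18000000000000000809f4000000000000001fdfe00000000000000000000000004000000000000020000000000000000000fc000000000000000001fe00000000000000000ffee0006e00e000000000000000000000000000ff9000000000000000012fff000000000000000806fe000000000000003ffffc0000b46fc00000000000000201bf8000000000001f87f714000000000000003ffbf8000000000000000000080000000000000000003f0000000000000000007f800000000000000003ffb80000000000ff90000000000000000000003fe400000000000000004bffc00000000000000201bf800000000000000fffff000000000000000000000000201834b8f10000000000006e00fb800000000000114af0eec0000000000007e0ddc5c000000000001f83771600000000000000001bf80000000000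

/-- the extremal elements of the ten involutions `T i` -/
def xs : List ℕ := [
  0x1a78000000000e900000,
  0xf0cc400109201,
  0x36f8000000000e900000,
  0xa055ec0109f01,
  0x3180000000004900000,
  0x800001200,
  0x1f98000000000e900000,
  0x1a24000000000ed00000,
  0xa000000109001,
  0x2240000000004900000]

/-- their words -/
def xw : List (List ℕ) := [
  [10, 6, 2, 12, 2],
  [7, 13, 3, 15, 3, 1],
  [11, 6, 2, 12, 2],
  [15, 9, 3, 14, 3, 1],
  [5, 3, 2, 12, 2],
  [2, 10, 8, 3, 13, 2, 3, 0, 1],
  [10, 5, 2, 12, 2],
  [10, 6, 2, 10, 2],
  [13, 3, 14, 3, 1],
  [6, 3, 2, 10, 2]]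

end Cfsg.Agent.TwoESix.ExtData2
end

-- part: TwoESix/ExtModelD
section
/-!
# More extremal elements; the group is generated by root involutions
-/

set_option autoImplicit false

namespace Cfsg.Agent.TwoESix.ExtModel

open Cfsg.Agent.Lib Cfsg.Agent.Lib.F2Mat
open Cfsg.Agent.TwoESix.ExtCode Cfsg.Agent.TwoESix.ExtData Cfsg.Agent.TwoESix.ExtData2 Cfsg.Agent.TwoESix.ExtAlg
open Cfsg.Agent.TwoESix.Data Cfsg.Agent.TwoESix.Iso

/-! ### Words -/

/-- image of a code under a word -/
def runW (w : List ℕ) (v : ℕ) : ℕ := List.rec v (fun k _ ih => force ih fun a => vmul 78 a (MT.getD k 0)) w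

theorem runW_cons (k : ℕ) (w : List ℕ) (v : ℕ) : runW (k :: w) v = vmul 78 (runW w v) (MT.getD k 0) := by
  show force (runW w v) (fun a => vmul 78 a (MT.getD k 0)) = _
  rw [force_eq]

theorem runW_mem {w : List ℕ} (hw : (w.all fun k => Nat.blt k 16) = true) (v : ℕ) :
    ∃ γ ∈ Γ, γ (vc v) = vc (runW w v) := by
  induction w with
  | nil => exact ⟨1, Γ.one_mem, rfl⟩
  | cons k w ih =>
    rw [List.all_cons, Bool.and_eq_true, Nat.blt_eq] at hw
    obtain ⟨γ, hγ, h1⟩ := ih hw.2
    refine ⟨mM ⟨k, hw.1⟩ * γ, Γ.mul_mem (mM_mem _) hγ, ?_⟩
    rw [LinearEquiv.mul_apply, h1, mM_apply, op_vc, runW_cons]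

/-- test of a word -/
def wOk (w : List ℕ) (v : ℕ) : Bool := and (List.all w fun k => Nat.blt k 16) (Nat.beq (runW w b0) v)

theorem word_mem {w : List ℕ} {v : ℕ} (h : wOk w v = true) : ∃ γ ∈ Γ, γ (vc b0) = vc v := by
  unfold wOk at h
  rw [Bool.and_eq_true] at h
  obtain ⟨γ, hγ, h1⟩ := runW_mem h.1 b0
  exact ⟨γ, hγ, by rw [h1, Nat.eq_of_beq_eq_true h.2]⟩

theorem ext_of_word {w : List ℕ} {v : ℕ} (h : wOk w v = true) : A.IsExt (vc v) := by
  obtain ⟨γ, hγ, h1⟩ := word_mem h
  rw [← h1]
  exact b0_ext.map (Γ_le hγ)

/-! ### The involution of an extremal element -/

/-- the code of the involution -/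
def gc (v : ℕ) : ℕ := force v fun v => Nat.xor (Nat.xor (one 78) (adc v)) (out (vmul 78 v Jc) v)

theorem op_gc {v : ℕ} (hv : Nat.blt v (Nat.pow 2 78) = true) (h : A.IsExt (vc v)) (x : V) :
    op (gc v) x = A.g (vc v) x := by
  have h4 : ∀ a b c : ℕ, op (Nat.xor (Nat.xor a b) c) x = op a x + op b x + op c x := by
    intro a b c
    have h5 : op (Nat.xor (Nat.xor a b) c) x = op (Nat.xor a b) x + op c x := op_xor _ _ _
    have h6 : op (Nat.xor a b) x = op a x + op b x := op_xor _ _ _
    rw [h5, h6]
  rw [gc, force_eq, h4, op_one, bil_out hv, ← br_vc, Alg.g_apply h, A_br, A_B]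

theorem g_check : Nat.beq (gc b0) (MT.getD 0 0) = true := by decide +kernel

theorem g_b0 : A.g (vc b0) = mM 0 := by
  refine LinearEquiv.ext fun x => ?_
  rw [← op_gc (by decide +kernel) b0_ext, mM_apply, op_eq_of g_check]
  rfl

theorem g_mem_of {v : V} (h : ∃ γ ∈ Γ, γ (vc b0) = v) : A.g v ∈ Γ := by
  obtain ⟨γ, hγ, rfl⟩ := h
  rw [Alg.g_map b0_ext (Γ_le hγ), g_b0]
  exact Γ.mul_mem (Γ.mul_mem hγ (mM_mem 0)) (Γ.inv_mem hγ)

/-! ### `e` and `y` -/

theorem ew_check : wOk ew ec = true := by decide +kernel
theorem yw_check : wOk yw yc = true := by decide +kernel

/-- `e_θ` is extremal -/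
theorem ec_ext : A.IsExt (vc ec) := ext_of_word ew_check

/-- `e_{-θ}` is extremal -/
theorem yc_ext : A.IsExt (vc yc) := ext_of_word yw_check

theorem ec_mem : ∃ γ ∈ Γ, γ (vc b0) = vc ec := word_mem ew_check
theorem yc_mem : ∃ γ ∈ Γ, γ (vc b0) = vc yc := word_mem yw_check

/-! ### The ten involutions `T i` -/

open Cfsg.Agent.TwoESix.Gens

theorem xw_check : allN (fun i => wOk (xw.getD i []) (xs.getD i 0)) 10 = true := by decide +kernel

theorem xs_ext (i : Fin 10) : A.IsExt (vc (xs.getD i 0)) := ext_of_word (allN_sound xw_check i i.2)

theorem xs_lt : allN (fun i => Nat.blt (xs.getD i 0) (Nat.pow 2 78)) 10 = true := by decide +kernel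

theorem T_check : allN (fun i => trOk (Ts.getD i 0) (gc (xs.getD i 0))) 10 = true := by decide +kernel

theorem gl_T (i : Fin 10) : gl (T i) = A.g (vc (xs.getD i 0)) := by
  have h := toMat_tr (allN_sound T_check i i.2)
  refine LinearEquiv.ext fun x => ?_
  rw [← op_gc (allN_sound xs_lt i i.2) (xs_ext i)]
  apply co_inj
  rw [gl_apply, op_apply, h, Matrix.vecMul_transpose]
  rfl

theorem Γ_eq_closure : Γ = Subgroup.closure (Set.range fun i : Fin 10 => A.g (vc (xs.getD i 0))) := by
  unfold Γ
  rw [← H_eq]
  unfold H
  rw [MonoidHom.map_closure]
  congr 1
  ext x
  constructor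
  · rintro ⟨_, ⟨k, rfl⟩, rfl⟩
    exact ⟨k, (gl_T k).symm⟩
  · rintro ⟨k, rfl⟩
    exact ⟨_, ⟨k, rfl⟩, gl_T k⟩

theorem Γ_le_E : Γ ≤ A.E := by
  rw [Γ_eq_closure, Subgroup.closure_le]
  rintro _ ⟨k, rfl⟩
  exact Subgroup.subset_closure (Alg.g_mem_R (xs_ext k))

end Cfsg.Agent.TwoESix.ExtModel
end

-- part: TwoESix/ExtLocal
section
/-!
# The stabiliser of an extremal element

`V0 y` : the elements `x` of `y^⊥` with `[x,y] ∈ {0,y}`; `Rad y` : the automorphisms fixing `y` and acting trivially on
`y^⊥ / V0 y`.  Structure `Loc Γ e y` : the numerical facts about a pair `e, y` of opposite extremal elements from which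
it follows that `Rad y` is a 2-subgroup of `Γ`, regular on the extremal elements opposite `y`.
-/

set_option autoImplicit false

namespace Cfsg.Agent.TwoESix.ExtLocal

open Cfsg.Agent.TwoESix.ExtAlg Cfsg.Agent.TwoESix.ExtAlg.Alg

variable {V : Type*} [AddCommGroup V] [Module (ZMod 2) V] (A : Alg V)

/-- the normaliser of `y` in `y^⊥` -/
def V0 (y : V) : AddSubgroup V where
  carrier := {x | A.B x y = 0 ∧ (A.br x y = 0 ∨ A.br x y = y)}
  zero_mem' := by simp
  add_mem' {a b} ha hb := by
    refine ⟨by rw [map_add, LinearMap.add_apply, ha.1, hb.1, add_zero], ?_⟩
    rw [map_add, LinearMap.add_apply]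
    rcases ha.2 with h | h <;> rcases hb.2 with h' | h' <;> rw [h, h'] <;> simp [dbl]
  neg_mem' {a} ha := by rw [ngt]; exact ha

variable {A}

theorem map_V0 {x y : V} {n : V ≃ₗ[ZMod 2] V} (hn : n ∈ A.Aut) (h : x ∈ V0 A y) : n x ∈ V0 A (n y) := by
  obtain ⟨h1, h2⟩ := h
  refine ⟨by rw [Aut_B hn, h1], ?_⟩
  rw [← Aut_br hn]
  rcases h2 with h2 | h2
  · left; rw [h2, map_zero]
  · right; rw [h2]

theorem map_V0_fix {x y : V} {n : V ≃ₗ[ZMod 2] V} (hn : n ∈ A.Aut) (hy : n y = y) (h : x ∈ V0 A y) :
    n x ∈ V0 A y := by
  have := map_V0 hn h
  rwa [hy] at this

theorem B_fix {x y : V} {n : V ≃ₗ[ZMod 2] V} (hn : n ∈ A.Aut) (hy : n y = y) : A.B (n x) y = A.B x y := by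
  conv_lhs => rw [← hy]
  exact Aut_B hn x y

theorem inv_fix {y : V} {n : V ≃ₗ[ZMod 2] V} (hy : n y = y) : n⁻¹ y = y := by
  conv_lhs => rw [← hy]
  exact inv_apply n y

/-- `[y,a]` is in `V0` for `a ∈ y^⊥` -/
theorem br_mem_V0 {y : V} (hy : A.IsExt y) (a : V) : A.br y a ∈ V0 A y := by
  refine ⟨by rw [A.B_comm, A.B_self_br], Or.inl ?_⟩
  rw [A.br_comm, hy.sq]

theorem B_V0 {x y a : V} (hx : x ∈ V0 A y) (ha : A.B y a = 0) : A.B x (A.br y a) = 0 := by
  rw [← A.inv]
  rcases hx.2 with h | h
  · rw [h, map_zero, LinearMap.zero_apply]
  · rw [h, ha]

variable (A)

/-- the unipotent radical of the stabiliser of `y` -/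
def Rad (y : V) : Subgroup (V ≃ₗ[ZMod 2] V) where
  carrier := {u | u ∈ A.Aut ∧ u y = y ∧ ∀ v, A.B v y = 0 → u v + v ∈ V0 A y}
  one_mem' := ⟨A.Aut.one_mem, rfl, fun v _ => by
    rw [show (1 : V ≃ₗ[ZMod 2] V) v = v from rfl, dbl]; exact (V0 A y).zero_mem⟩
  mul_mem' {a b} ha hb := by
    refine ⟨A.Aut.mul_mem ha.1 hb.1, by rw [LinearEquiv.mul_apply, hb.2.1, ha.2.1], fun v hv => ?_⟩
    have h1 := map_V0_fix ha.1 ha.2.1 (hb.2.2 v hv)
    have h2 := ha.2.2 v hv
    rw [LinearEquiv.mul_apply]
    have h3 : a (b v) + v = a (b v + v) + (a v + v) := by
      rw [map_add]
      have := dbl (a v)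
      calc a (b v) + v = a (b v) + (a v + a v) + v := by rw [this, add_zero]
        _ = a (b v) + a v + (a v + v) := by abel
    rw [h3]
    exact (V0 A y).add_mem h1 h2
  inv_mem' {a} ha := by
    have hy : a⁻¹ y = y := inv_fix ha.2.1
    have hi : a⁻¹ ∈ A.Aut := A.Aut.inv_mem ha.1
    refine ⟨hi, hy, fun v hv => ?_⟩
    have h1 := map_V0_fix hi hy (ha.2.2 v hv)
    rw [map_add, inv_apply] at h1
    rwa [add_comm]

variable {A}

theorem Rad_conj {u n : V ≃ₗ[ZMod 2] V} {y : V} (hu : u ∈ Rad A y) (hn : n ∈ A.Aut) :
    n * u * n⁻¹ ∈ Rad A (n y) := by
  refine ⟨A.Aut.mul_mem (A.Aut.mul_mem hn hu.1) (A.Aut.inv_mem hn), ?_, fun v hv => ?_⟩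
  · rw [LinearEquiv.mul_apply, LinearEquiv.mul_apply, inv_apply, hu.2.1]
  · obtain ⟨v, rfl⟩ := n.surjective v
    rw [Aut_B hn] at hv
    rw [LinearEquiv.mul_apply, LinearEquiv.mul_apply, inv_apply, ← map_add]
    exact map_V0 hn (hu.2.2 v hv)

theorem g_mem_Rad {y : V} (hy : A.IsExt y) : A.g y ∈ Rad A y := by
  refine ⟨g_mem hy, g_self hy, fun v hv => ?_⟩
  rw [g_apply hy, A.B_comm, hv, zero_smul, add_zero, add_comm, dbl']
  exact br_mem_V0 hy v

/-- numerical facts about a pair of opposite extremal elements -/
structure Loc (A : Alg V) (Γ : Subgroup (V ≃ₗ[ZMod 2] V)) (m : ℕ) (e y : V) where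
  le : Γ ≤ A.Aut
  he : A.IsExt e
  hy : A.IsExt y
  hey : A.B e y = 1
  ge : A.g e ∈ Γ
  gy : A.g y ∈ Γ
  /-- extremal elements collinear to `y` -/
  c : Fin m → V
  /-- dual basis -/
  c' : Fin m → V
  hc : ∀ i, A.IsExt (c i)
  gc : ∀ i, A.g (c i) ∈ Γ
  cy : ∀ i, A.g (c i) y = y
  cc : ∀ i j, A.g (c i) (c' j) = if i = j then c' j + y else c' j
  ce : ∀ j, A.B e (c' j) = 0
  low : ∀ x, A.B x y = 0 → (∀ j, A.B x (c' j) = 0) → A.br x y = 0 ∨ A.br x y = y
  cmem : ∀ j, ∃ a, A.B y a = 0 ∧ c' j = A.br y a
  cspan : ∀ a, A.B y a = 0 → A.br y a ∈ AddSubgroup.closure (Set.range c ∪ {y})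
  core : ∀ x, A.B x y = 0 → (∀ j, A.B x (c' j) = 0) →
    (∀ i j, A.br (A.br e (c' i)) (A.br x (c' j)) + A.br (A.br x (c' i)) (A.br e (c' j)) +
        A.B e (A.br (c' i) (c' j)) • x ∈ AddSubgroup.closure {y}) →
    x ∈ AddSubgroup.closure {A.br e y, y}
  top : ∃ a, a ≠ 0 ∧ A.br (A.br e y) a = a ∧ A.br e a = 0
  gen : ∀ u ∈ A.Aut, u e = e → u y = y → (∀ v, A.br e v = 0 → A.br (A.br e y) v = v → u v = v) → u = 1

theorem mem_closure_one {x y : V} (h : x ∈ AddSubgroup.closure ({y} : Set V)) : x = 0 ∨ x = y := by
  induction h using AddSubgroup.closure_induction with
  | mem x hx => exact Or.inr hx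
  | zero => exact Or.inl rfl
  | add a b _ _ ha hb =>
    rcases ha with rfl | rfl <;> rcases hb with rfl | rfl <;> simp [dbl]
  | neg a _ ha => rw [ngt]; exact ha

theorem mem_closure_two {x a b : V} (h : x ∈ AddSubgroup.closure ({a, b} : Set V)) :
    x = 0 ∨ x = a ∨ x = b ∨ x = a + b := by
  have key : ∃ s t : ZMod 2, x = s • a + t • b := by
    induction h using AddSubgroup.closure_induction with
    | mem x hx =>
      rcases hx with rfl | rfl
      · exact ⟨1, 0, by simp⟩
      · exact ⟨0, 1, by simp⟩
    | zero => exact ⟨0, 0, by simp⟩
    | add p q _ _ hp hq =>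
      obtain ⟨s, t, rfl⟩ := hp
      obtain ⟨s', t', rfl⟩ := hq
      exact ⟨s + s', t + t', by rw [add_smul, add_smul]; abel⟩
    | neg p _ hp =>
      rw [ngt]
      exact hp
  obtain ⟨s, t, rfl⟩ := key
  rcases z2 s with rfl | rfl <;> rcases z2 t with rfl | rfl <;> simp

theorem closure_one_mem (y : V) : y ∈ AddSubgroup.closure ({y} : Set V) :=
  AddSubgroup.subset_closure rfl

namespace Loc

variable {Γ : Subgroup (V ≃ₗ[ZMod 2] V)} {m : ℕ} {e y : V} (L : Loc A Γ m e y)

include L

theorem B_V0_c' {x : V} (hx : x ∈ V0 A y) (j : Fin m) : A.B x (L.c' j) = 0 := by
  obtain ⟨a, ha, h⟩ := L.cmem j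
  rw [h]
  exact B_V0 hx ha

theorem mem_V0_iff {x : V} : x ∈ V0 A y ↔ A.B x y = 0 ∧ ∀ j, A.B x (L.c' j) = 0 :=
  ⟨fun h => ⟨h.1, L.B_V0_c' h⟩, fun h => ⟨h.1, L.low x h.1 h.2⟩⟩

/-- the effect of the `g (c i)` on the functionals -/
theorem f_gc (i j : Fin m) (z : V) :
    A.B (A.g (L.c i) z) (L.c' j) = A.B z (L.c' j) + (if i = j then A.B z y else 0) := by
  have h1 : L.c' j = A.g (L.c i) (A.g (L.c i) (L.c' j)) := (g_g _ _).symm
  conv_lhs => rw [h1]
  rw [g_B (L.hc i), L.cc]
  split
  · rw [map_add]
  · rw [add_zero]

theorem gc_mem_Rad (i : Fin m) : A.g (L.c i) ∈ Rad A y := by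
  refine ⟨g_mem (L.hc i), L.cy i, fun v hv => ?_⟩
  rw [L.mem_V0_iff]
  refine ⟨?_, fun j => ?_⟩
  · rw [map_add, LinearMap.add_apply, B_fix (g_mem (L.hc i)) (L.cy i), hv, add_zero]
  · rw [map_add, LinearMap.add_apply, L.f_gc, hv, ite_self, add_zero, dbl]

/-- every functional value can be corrected -/
theorem exists_kill (z : V) (hz : A.B z y = 1) :
    ∃ u ∈ Γ ⊓ Rad A y, ∀ j, A.B (u z) (L.c' j) = 0 := by
  have key : ∀ k ≤ m, ∃ u ∈ Γ ⊓ Rad A y, ∀ j : Fin m, (j : ℕ) < k → A.B (u z) (L.c' j) = 0 := by
    intro k
    induction k with
    | zero => exact fun _ => ⟨1, Subgroup.one_mem _, fun j hj => absurd hj (Nat.not_lt_zero _)⟩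
    | succ k ih =>
      intro hk
      obtain ⟨u, hu, h⟩ := ih (by omega)
      let i : Fin m := ⟨k, by omega⟩
      have hB : A.B (u z) y = 1 := by rw [B_fix hu.2.1 hu.2.2.1, hz]
      rcases z2 (A.B (u z) (L.c' i)) with h1 | h1
      · refine ⟨u, hu, fun j hj => ?_⟩
        rcases Nat.lt_succ_iff_lt_or_eq.1 hj with h2 | h2
        · exact h j h2
        · have : j = i := Fin.ext h2
          rw [this, h1]
      · refine ⟨A.g (L.c i) * u, Subgroup.mul_mem _ ⟨L.gc i, L.gc_mem_Rad i⟩ hu, fun j hj => ?_⟩
        rw [LinearEquiv.mul_apply, L.f_gc, hB]
        rcases Nat.lt_succ_iff_lt_or_eq.1 hj with h2 | h2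
        · have h3 : i ≠ j := by
            intro h4
            rw [← h4] at h2
            exact lt_irrefl _ h2
          rw [if_neg h3, add_zero, h j h2]
        · have h3 : i = j := Fin.ext h2.symm
          rw [if_pos h3, ← h3, h1]
          decide
  obtain ⟨u, hu, h⟩ := key m le_rfl
  exact ⟨u, hu, fun j => h j j.2⟩

/-- the commutator structure: `[x', [y,a]]` for `x' ∈ V0` -/
theorem quad_zero {z : V} (hz : A.IsExt z) (hzy : A.B z y = 1) (h0 : ∀ j, A.B z (L.c' j) = 0) :
    z = e ∨ z = A.g y e := by
  have hx : z + e ∈ V0 A y := by
    rw [L.mem_V0_iff]
    refine ⟨?_, fun j => ?_⟩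
    · rw [map_add, LinearMap.add_apply, hzy, L.hey]; decide
    · rw [map_add, LinearMap.add_apply, h0, L.ce, add_zero]
  obtain ⟨x, hxz⟩ : ∃ x, x = z + e := ⟨_, rfl⟩
  have hze : z = e + x := by rw [hxz, add_comm z, dbl']
  rw [← hxz] at hx
  -- `[x, [y, a]]` is in the span of `[y, y^⊥]` and `y`
  have hbr : ∀ a, A.B y a = 0 → ∃ a', A.B y a' = 0 ∧ A.br x (A.br y a) = A.br y a' := by
    intro a ha
    have h1 := L.hy.der x a
    have h2 : A.br x (A.br y a) = A.br y (A.br x a) + A.br (A.br y x) a := by
      rw [h1, add_comm, dbl']
    rw [A.br_comm y x] at h2
    rcases hx.2 with h | h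
    · rw [h, map_zero, LinearMap.zero_apply, add_zero] at h2
      refine ⟨A.br x a, ?_, h2⟩
      rw [← A.inv, A.br_comm y x, h, map_zero, LinearMap.zero_apply]
    · rw [h, ← map_add] at h2
      refine ⟨A.br x a + a, ?_, h2⟩
      rw [map_add, ← A.inv, A.br_comm y x, h, ha, add_zero]
  have hyy : ∀ a b, A.B y a = 0 → A.B y b = 0 → A.br (A.br y a) (A.br y b) ∈ AddSubgroup.closure ({y} : Set V) := by
    intro a b ha hb
    rw [L.hy.quad, ha, hb, zero_smul, zero_smul, add_zero, add_zero]
    rcases z2 (A.B y (A.br a b)) with h | h
    · rw [h, zero_smul]; exact AddSubgroup.zero_mem _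
    · rw [h, one_smul]; exact closure_one_mem y
  have hcore := L.core x hx.1 (fun j => L.B_V0_c' hx j) (by
    intro i j
    obtain ⟨a, ha, hva⟩ := L.cmem i
    obtain ⟨b, hb, hvb⟩ := L.cmem j
    obtain ⟨a', ha', hxa⟩ := hbr a ha
    obtain ⟨b', hb', hxb⟩ := hbr b hb
    have h1 : A.br (A.br x (L.c' i)) (A.br x (L.c' j)) ∈ AddSubgroup.closure ({y} : Set V) := by
      rw [hva, hvb, hxa, hxb]
      exact hyy a' b' ha' hb'
    have hvw := hyy a b ha hb
    rw [← hva, ← hvb] at hvw
    have hzw : ∀ j, A.B z (L.c' j) = 0 := h0
    have h2 := hz.quad (L.c' i) (L.c' j)
    have h3 := L.he.quad (L.c' i) (L.c' j)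
    rw [hzw, hzw, zero_smul, zero_smul, add_zero, add_zero] at h2
    rw [L.ce, L.ce, zero_smul, zero_smul, add_zero, add_zero] at h3
    have h4 : A.B z (A.br (L.c' i) (L.c' j)) = A.B e (A.br (L.c' i) (L.c' j)) := by
      rcases mem_closure_one hvw with h | h
      · rw [h, map_zero, map_zero]
      · rw [h, hzy, L.hey]
    rw [h4, hze] at h2
    simp only [map_add, LinearMap.add_apply, smul_add] at h2
    rw [h3] at h2
    generalize A.B e (A.br (L.c' i) (L.c' j)) • e = p at h2
    generalize A.B e (A.br (L.c' i) (L.c' j)) • x = q at h2 ⊢
    generalize A.br (A.br x (L.c' i)) (A.br x (L.c' j)) = r at h2 h1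
    generalize A.br (A.br e (L.c' i)) (A.br x (L.c' j)) = k1 at h2 ⊢
    generalize A.br (A.br x (L.c' i)) (A.br e (L.c' j)) = k2 at h2 ⊢
    have h5 : k1 + k2 + q = r := by
      have h6 : p + (k1 + k2 + r) = p + q := by rw [← h2]; abel
      have h7 : k1 + k2 + r = q := add_left_cancel h6
      rw [← h7]
      calc k1 + k2 + (k1 + k2 + r) = (k1 + k1) + (k2 + k2) + r := by abel
        _ = r := by rw [dbl, dbl, add_zero, zero_add]
    rw [h5]
    exact h1)
  obtain ⟨a, ha, hha, hea⟩ := L.top
  rcases mem_closure_two hcore with h | h | h | h
  · left; rw [hze, h, add_zero]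
  · exfalso
    have h1 := hz.sq a
    rw [hze, h] at h1
    simp only [map_add, LinearMap.add_apply, hha, hea, zero_add] at h1
    exact ha h1
  · exfalso
    have h1 := hz.sq a
    have h2 := L.he.der y a
    rw [hha, hea, map_zero, add_zero] at h2
    rw [hze, h] at h1
    simp only [map_add, LinearMap.add_apply, hea, zero_add, L.hy.sq, add_zero, h2] at h1
    exact ha h1
  · right
    rw [hze, h, g_apply_of_one L.hy (by rw [A.B_comm, L.hey]), A.br_comm y e, add_assoc]

/-- `Γ ⊓ Rad y` is transitive on the extremal elements opposite `y` -/
theorem exists_rad {z : V} (hz : A.IsExt z) (hzy : A.B z y = 1) : ∃ u ∈ Γ ⊓ Rad A y, u e = z := by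
  obtain ⟨u, hu, h⟩ := L.exists_kill z hzy
  have h1 : A.B (u z) y = 1 := by rw [B_fix hu.2.1 hu.2.2.1, hzy]
  rcases L.quad_zero (hz.map hu.2.1) h1 h with h2 | h2
  · exact ⟨u⁻¹, Subgroup.inv_mem _ hu, by rw [← h2, inv_apply]⟩
  · refine ⟨u⁻¹ * A.g y, Subgroup.mul_mem _ (Subgroup.inv_mem _ hu) ⟨L.gy, g_mem_Rad L.hy⟩, ?_⟩
    rw [LinearEquiv.mul_apply, ← h2, inv_apply]

/-- an element of `Rad y` fixing `e` is trivial -/
theorem eq_one_of_fix {u : V ≃ₗ[ZMod 2] V} (hu : u ∈ Rad A y) (he : u e = e) : u = 1 := by
  refine L.gen u hu.1 he hu.2.1 fun v hev hhv => ?_
  have hby : A.B v y = 0 := by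
    rw [← hhv, A.br_comm, A.inv, A.br_comm (A.br e y), A.br_comm e y, L.hy.sq, map_zero]
  have h1 := hu.2.2 v hby
  have h2 : A.br e (u v) = 0 := by
    have h := Aut_br hu.1 e v
    rw [he, hev, map_zero] at h
    exact h.symm
  have h3 : A.br (A.br e y) (u v) = u v := by
    have h := Aut_br hu.1 (A.br e y) v
    rw [hhv, Aut_br hu.1 e y, he, hu.2.1] at h
    exact h.symm
  have h4 : A.br e (u v + v) = 0 := by rw [map_add, h2, hev, add_zero]
  have h5 : A.br (A.br e y) (u v + v) = u v + v := by rw [map_add, h3, hhv]
  apply eq_of_add
  generalize u v + v = x at h1 h4 h5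
  have h6 := L.he.der y x
  rw [h4, h5, map_zero, add_zero] at h6
  rcases h1.2 with h | h
  · rw [← h6, A.br_comm y x, h, map_zero]
  · rw [A.br_comm y x, h] at h6
    rw [← h5, ← h6, A.br_self]

theorem rad_inj {u u' : V ≃ₗ[ZMod 2] V} (hu : u ∈ Rad A y) (hu' : u' ∈ Rad A y) (h : u e = u' e) : u = u' := by
  have h1 : u'⁻¹ * u = 1 := L.eq_one_of_fix (Subgroup.mul_mem _ (Subgroup.inv_mem _ hu') hu) (by
    rw [LinearEquiv.mul_apply, h, inv_apply])
  exact (inv_mul_eq_one.1 h1).symm

theorem B_rad_e {u : V ≃ₗ[ZMod 2] V} (hu : u ∈ A.Aut) (hy : u y = y) : A.B (u e) y = 1 := by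
  rw [B_fix hu hy, L.hey]

/-- `Rad y` is contained in `Γ` -/
theorem rad_le : Rad A y ≤ Γ := by
  intro u hu
  obtain ⟨u', hu', h⟩ := L.exists_rad (L.he.map hu.1) (L.B_rad_e hu.1 hu.2.1)
  rw [L.rad_inj hu hu'.2 h.symm]
  exact hu'.1

theorem fix_cases {u : V ≃ₗ[ZMod 2] V} (hu : u ∈ A.Aut) (hy : u y = y) (h : u e + e ∈ V0 A y) :
    u e = e ∨ u e = A.g y e := by
  apply L.quad_zero (L.he.map hu) (L.B_rad_e hu hy)
  intro j
  have h1 := L.B_V0_c' h j
  rwa [map_add, LinearMap.add_apply, L.ce, add_zero] at h1

theorem rad_cases {u : V ≃ₗ[ZMod 2] V} (hu : u ∈ Rad A y) (h : u e + e ∈ V0 A y) : u = 1 ∨ u = A.g y := by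
  rcases L.fix_cases hu.1 hu.2.1 h with h | h
  · exact Or.inl (L.eq_one_of_fix hu h)
  · exact Or.inr (L.rad_inj hu (g_mem_Rad L.hy) h)

theorem B_add_e {u : V ≃ₗ[ZMod 2] V} (hu : u ∈ Rad A y) : A.B (u e + e) y = 0 := by
  rw [map_add, LinearMap.add_apply, L.B_rad_e hu.1 hu.2.1, L.hey]
  decide

theorem mul_apply_e {u w : V ≃ₗ[ZMod 2] V} (hu : u ∈ Rad A y) (hw : w ∈ Rad A y) :
    u (w e) + (u e + e + (w e + e)) + e ∈ V0 A y := by
  have h1 := hu.2.2 _ (L.B_add_e hw)
  rw [map_add] at h1
  have h2 : u (w e) + (u e + e + (w e + e)) + e = u (w e) + u e + (w e + e) + (e + e) := by abel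
  rw [h2, dbl, add_zero]
  exact h1

/-- squares in `Rad y` -/
theorem sq_cases {u : V ≃ₗ[ZMod 2] V} (hu : u ∈ Rad A y) : u * u = 1 ∨ u * u = A.g y := by
  apply L.rad_cases (Subgroup.mul_mem _ hu hu)
  have h1 := L.mul_apply_e hu hu
  rw [dbl, add_zero] at h1
  exact h1

theorem gy_comm {u : V ≃ₗ[ZMod 2] V} (hu : u ∈ A.Aut) (hy : u y = y) : u * A.g y = A.g y * u := by
  have h := g_map L.hy hu
  rw [hy] at h
  calc u * A.g y = (u * A.g y * u⁻¹) * u := by group
    _ = A.g y * u := by rw [← h]

/-- commutators in `Rad y` -/
theorem comm_cases {u w : V ≃ₗ[ZMod 2] V} (hu : u ∈ Rad A y) (hw : w ∈ Rad A y) :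
    u * w = w * u ∨ u * w = w * u * A.g y := by
  have hk : u⁻¹ * w⁻¹ * (u * w) ∈ Rad A y :=
    Subgroup.mul_mem _ (Subgroup.mul_mem _ (Subgroup.inv_mem _ hu) (Subgroup.inv_mem _ hw)) (Subgroup.mul_mem _ hu hw)
  have h1 := L.mul_apply_e hu hw
  have h2 := L.mul_apply_e hw hu
  have h3 : u (w e) + w (u e) ∈ V0 A y := by
    have h4 := (V0 A y).add_mem h1 h2
    have h5 : u (w e) + (u e + e + (w e + e)) + e + (w (u e) + (w e + e + (u e + e)) + e) =
        u (w e) + w (u e) + ((u e + u e) + (w e + w e) + ((e + e) + (e + e) + (e + e))) := by abel
    rw [h5] at h4
    simpa only [dbl, add_zero] using h4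
  have h6 : (u⁻¹ * w⁻¹ * (u * w)) e + e ∈ V0 A y := by
    have h7 := map_V0_fix (A.Aut.mul_mem (A.Aut.inv_mem hu.1) (A.Aut.inv_mem hw.1))
      (show (u⁻¹ * w⁻¹) y = y by rw [LinearEquiv.mul_apply, inv_fix hw.2.1, inv_fix hu.2.1]) h3
    rw [map_add] at h7
    have h8 : (u⁻¹ * w⁻¹) (w (u e)) = e := by
      rw [LinearEquiv.mul_apply, inv_apply, inv_apply]
    rw [h8] at h7
    exact h7
  rcases L.rad_cases hk h6 with h | h
  · left
    calc u * w = w * u * (u⁻¹ * w⁻¹ * (u * w)) := by group
      _ = w * u := by rw [h, mul_one]
  · right
    calc u * w = w * u * (u⁻¹ * w⁻¹ * (u * w)) := by group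
      _ = w * u * A.g y := by rw [h]

/-- `Rad y` is a 2-group -/
theorem isPGroup : IsPGroup 2 (Rad A y) := by
  intro u
  refine ⟨2, ?_⟩
  apply Subtype.ext
  have h : (u : V ≃ₗ[ZMod 2] V) ^ (2 ^ 2) = 1 := by
    have h1 : (u : V ≃ₗ[ZMod 2] V) ^ (2 ^ 2) = (u * u) * (u * u) := by
      show (u : V ≃ₗ[ZMod 2] V) ^ 4 = (u * u) * (u * u)
      simp only [pow_succ, pow_zero, one_mul, mul_assoc]
    rw [h1]
    rcases L.sq_cases u.2 with h | h
    · rw [h, one_mul]
    · rw [h, g_sq]
  exact h

/-- an automorphism commuting with all `g (c i)` and fixing `e` and `y` is trivial -/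
theorem eq_one_of_comm {n : V ≃ₗ[ZMod 2] V} (hn : n ∈ A.Aut) (he : n e = e) (hy : n y = y)
    (hc : ∀ i, n (L.c i) = L.c i) : n = 1 := by
  have key : ∀ a, A.B y a = 0 → n (A.br y a) = A.br y a := by
    intro a ha
    have h1 := L.cspan a ha
    have h2 : AddSubgroup.closure (Set.range L.c ∪ {y}) ≤ (n.toLinearMap.toAddMonoidHom).eqLocus (AddMonoidHom.id V) := by
      rw [AddSubgroup.closure_le]
      rintro x (⟨i, rfl⟩ | rfl)
      · exact hc i
      · exact hy
    exact h2 h1
  refine L.gen n hn he hy fun v hev hhv => ?_
  have hby : A.B y v = 0 := by
    rw [A.B_comm, ← hhv, A.br_comm, A.inv, A.br_comm (A.br e y), A.br_comm e y, L.hy.sq, map_zero]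
  have h1 := L.he.der y v
  rw [hev, hhv, map_zero, add_zero] at h1
  rw [← h1, Aut_br hn, he, key v hby]

/-- the centraliser of `Rad y` -/
theorem cent_rad {t : V ≃ₗ[ZMod 2] V} (ht : t ∈ A.Aut) (hc : ∀ w ∈ Rad A y, t * w = w * t) :
    t = 1 ∨ t = A.g y := by
  have key : ∀ z, A.IsExt z → A.g z ∈ Rad A y → t z = z := by
    intro z hz h
    apply g_inj (hz.map ht) hz
    rw [g_map hz ht, hc _ h, mul_assoc, mul_inv_cancel, mul_one]
  have hy := key y L.hy (g_mem_Rad L.hy)
  have hci : ∀ i, t (L.c i) = L.c i := fun i => key _ (L.hc i) (L.gc_mem_Rad i)
  have h1 : ∀ a, A.B y a = 0 → A.B (t e + e) (A.br y a) = 0 := by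
    intro a ha
    have h2 : AddSubgroup.closure (Set.range L.c ∪ {y}) ≤ ((A.B (t e + e)).toAddMonoidHom).ker := by
      rw [AddSubgroup.closure_le]
      have h3 : ∀ x, t x = x → A.B (t e + e) x = 0 := by
        intro x hx
        rw [map_add, LinearMap.add_apply, B_fix ht hx, dbl]
      rintro x (⟨i, rfl⟩ | rfl)
      · exact h3 _ (hci i)
      · exact h3 _ hy
    exact h2 (L.cspan a ha)
  have h2 : t e + e ∈ V0 A y := by
    refine ⟨?_, ?_⟩
    · rw [map_add, LinearMap.add_apply, B_fix ht hy, dbl]
    · have h3 : ∀ a, A.B (A.br (t e + e) y) a = A.B y a * A.B (A.br (t e + e) y) e := by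
        intro a
        have h4 := h1 (a + A.B y a • e) (by
          rw [map_add, map_smul, A.B_comm y e, L.hey, smul_eq_mul, mul_one, dbl])
        rw [← A.inv, map_add, map_smul, smul_eq_mul] at h4
        exact eq_of_add h4
      rcases z2 (A.B (A.br (t e + e) y) e) with h | h
      · left
        apply A.nondeg
        intro a
        rw [h3, h, mul_zero]
      · right
        apply A.eq_of_B
        intro a
        rw [h3, h, mul_one]
  rcases L.fix_cases ht hy h2 with h | h
  · exact Or.inl (L.eq_one_of_comm ht h hy hci)
  · right
    have h4 : A.g y * t = 1 := by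
      apply L.eq_one_of_comm (A.Aut.mul_mem (g_mem L.hy) ht)
      · rw [LinearEquiv.mul_apply, h, g_g]
      · rw [LinearEquiv.mul_apply, hy, g_self L.hy]
      · intro i
        rw [LinearEquiv.mul_apply, hci]
        have h5 := (comm_iff (L.hc i) L.hy).2 (L.cy i)
        exact (comm_iff L.hy (L.hc i)).1 h5.symm
    rw [← g_inv, eq_inv_iff_mul_eq_one]
    have h5 := L.gy_comm ht hy
    rw [h5, h4]

/-- the only extremal element fixed by `Rad y` is `y` -/
theorem fixed_rad {z : V} (hz : A.IsExt z) (h : ∀ w ∈ Rad A y, w z = z) : z = y := by
  have h1 : ∀ w ∈ Rad A y, A.g z * w = w * A.g z := by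
    intro w hw
    have h2 := g_map hz hw.1
    rw [h w hw] at h2
    calc A.g z * w = (w * A.g z * w⁻¹) * w := by rw [← h2]
      _ = w * A.g z := by group
  rcases L.cent_rad (g_mem hz) h1 with h2 | h2
  · exact absurd h2 (g_ne_one hz)
  · exact g_inj hz L.hy h2

end Loc

end Cfsg.Agent.TwoESix.ExtLocal
end

-- part: TwoESix/ExtGlobal
section
/-!
# Global consequences

Under the numerical facts `Glob Γ e y`: `Γ` is transitive on the extremal elements and on the pairs of opposite
extremal elements, `Γ = A.E`, and the root involutions are exactly the 2-central involutions of `Γ`.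
-/

set_option autoImplicit false

open scoped Pointwise

namespace Cfsg.Agent.TwoESix.ExtGlobal

open Cfsg.Agent.TwoESix.ExtAlg Cfsg.Agent.TwoESix.ExtAlg.Alg Cfsg.Agent.TwoESix.ExtLocal

variable {V : Type*} [AddCommGroup V] [Module (ZMod 2) V] {A : Alg V}

/-- numerical facts -/
structure Glob (A : Alg V) (Γ : Subgroup (V ≃ₗ[ZMod 2] V)) (m : ℕ) (e y : V) extends Loc A Γ m e y where
  span : ∀ z, z ≠ 0 → ∃ γ ∈ Γ, A.B z (γ y) = 1
  leE : Γ ≤ A.E

/-- the extremal elements as a type -/
abbrev Om (A : Alg V) : Type _ := {z : V // A.IsExt z}

/-- action on the extremal elements -/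
@[instance_reducible] def act {Γ : Subgroup (V ≃ₗ[ZMod 2] V)} (hΓ : Γ ≤ A.Aut) : MulAction Γ (Om A) where
  smul γ z := ⟨(γ : V ≃ₗ[ZMod 2] V) z.1, z.2.map (hΓ γ.2)⟩
  one_smul _ := Subtype.ext rfl
  mul_smul _ _ _ := Subtype.ext rfl

namespace Glob

variable {Γ : Subgroup (V ≃ₗ[ZMod 2] V)} {m : ℕ} {e y : V} (L : Glob A Γ m e y)

include L

theorem e_eq : e = (A.g y * A.g e) y := by
  have h := swap L.he L.hy L.hey
  rw [LinearEquiv.mul_apply, h, g_g]

/-- transitivity on opposite pairs -/
theorem trans_opp {z w : V} (hz : A.IsExt z) (hw : A.IsExt w) (h : A.B z w = 1)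
    (hwy : ∃ γ ∈ Γ, γ y = w) : ∃ γ ∈ Γ, γ e = z ∧ γ y = w := by
  obtain ⟨γ, hγ, rfl⟩ := hwy
  have hγ' := L.le hγ
  have h1 : A.B (γ⁻¹ z) y = 1 := by
    rw [← Aut_B hγ', apply_inv, h]
  obtain ⟨u, hu, hue⟩ := L.exists_rad (hz.map (A.Aut.inv_mem hγ')) h1
  refine ⟨γ * u, Γ.mul_mem hγ hu.1, ?_, ?_⟩
  · rw [LinearEquiv.mul_apply, hue, apply_inv]
  · rw [LinearEquiv.mul_apply, hu.2.2.1]

/-- transitivity on extremal elements -/
theorem trans {z : V} (hz : A.IsExt z) : ∃ γ ∈ Γ, γ y = z := by
  obtain ⟨γ, hγ, h⟩ := L.span z hz.ne
  obtain ⟨δ, hδ, h1, -⟩ := L.trans_opp hz (L.hy.map (L.le hγ)) h ⟨γ, hγ, rfl⟩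
  refine ⟨δ * (A.g y * A.g e), Γ.mul_mem hδ (Γ.mul_mem L.gy L.ge), ?_⟩
  rw [LinearEquiv.mul_apply, ← L.e_eq, h1]

theorem exists_opp {z w : V} (hz : A.IsExt z) (hw : A.IsExt w) (h : A.B z w = 1) :
    ∃ γ ∈ Γ, γ e = z ∧ γ y = w := L.trans_opp hz hw h (L.trans hw)

theorem opp_trans {z w z' w' : V} (hz : A.IsExt z) (hw : A.IsExt w) (h : A.B z w = 1)
    (hz' : A.IsExt z') (hw' : A.IsExt w') (h' : A.B z' w' = 1) : ∃ γ ∈ Γ, γ z = z' ∧ γ w = w' := by
  obtain ⟨γ, hγ, h1, h2⟩ := L.exists_opp hz hw h
  obtain ⟨δ, hδ, h3, h4⟩ := L.exists_opp hz' hw' h'
  refine ⟨δ * γ⁻¹, Γ.mul_mem hδ (Γ.inv_mem hγ), ?_, ?_⟩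
  · rw [LinearEquiv.mul_apply, ← h1, inv_apply, h3]
  · rw [LinearEquiv.mul_apply, ← h2, inv_apply, h4]

/-! ### `Rad z` for all extremal elements -/

theorem Rad_map {γ : V ≃ₗ[ZMod 2] V} (hγ : γ ∈ A.Aut) : Rad A (γ y) = (Rad A y).map (MulAut.conj γ).toMonoidHom := by
  ext u
  rw [Subgroup.mem_map]
  constructor
  · intro hu
    refine ⟨γ⁻¹ * u * γ, ?_, ?_⟩
    · have := Rad_conj hu (A.Aut.inv_mem hγ)
      rwa [inv_apply, inv_inv] at this
    · show γ * (γ⁻¹ * u * γ) * γ⁻¹ = u
      group
  · rintro ⟨w, hw, rfl⟩
    exact Rad_conj hw hγ

theorem rad_le' {z : V} (hz : A.IsExt z) : Rad A z ≤ Γ := by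
  obtain ⟨γ, hγ, rfl⟩ := L.trans hz
  rw [L.Rad_map (L.le hγ)]
  rintro _ ⟨w, hw, rfl⟩
  exact Γ.mul_mem (Γ.mul_mem hγ (L.rad_le hw)) (Γ.inv_mem hγ)

theorem isPGroup' {z : V} (hz : A.IsExt z) : IsPGroup 2 (Rad A z) := by
  obtain ⟨γ, hγ, rfl⟩ := L.trans hz
  rw [L.Rad_map (L.le hγ)]
  exact L.isPGroup.map _

theorem cent_rad' {z : V} (hz : A.IsExt z) {t : V ≃ₗ[ZMod 2] V} (ht : t ∈ A.Aut)
    (hc : ∀ w ∈ Rad A z, t * w = w * t) : t = 1 ∨ t = A.g z := by
  obtain ⟨γ, hγ, rfl⟩ := L.trans hz
  have hγ' := L.le hγ
  have h1 := L.cent_rad (t := γ⁻¹ * t * γ) (A.Aut.mul_mem (A.Aut.mul_mem (A.Aut.inv_mem hγ') ht) hγ') (by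
    intro w hw
    have h2 := hc _ (Rad_conj hw hγ')
    calc γ⁻¹ * t * γ * w = γ⁻¹ * (t * (γ * w * γ⁻¹)) * γ := by group
      _ = γ⁻¹ * (γ * w * γ⁻¹ * t) * γ := by rw [h2]
      _ = w * (γ⁻¹ * t * γ) := by group)
  rcases h1 with h1 | h1
  · left
    calc t = γ * (γ⁻¹ * t * γ) * γ⁻¹ := by group
      _ = 1 := by rw [h1, mul_one, mul_inv_cancel]
  · right
    rw [g_map L.hy hγ', ← h1]
    group

/-- `g z` is in the radical and central in the stabiliser -/
theorem g_comm {z : V} (hz : A.IsExt z) {u : V ≃ₗ[ZMod 2] V} (hu : u ∈ A.Aut) (h : u z = z) :
    u * A.g z = A.g z * u := by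
  have h1 := g_map hz hu
  rw [h] at h1
  calc u * A.g z = (u * A.g z * u⁻¹) * u := by group
    _ = A.g z * u := by rw [← h1]

/-! ### Parity -/

theorem odd_card [Finite V] : Nat.card (Om A) % 2 = 1 := by
  letI : MulAction Γ (Om A) := act L.le
  have : Finite (Om A) := inferInstance
  let Q : Subgroup Γ := (Rad A y).subgroupOf Γ
  have hQ : IsPGroup 2 Q := L.isPGroup.comap_of_injective Γ.subtype Subtype.coe_injective
  have hfix : MulAction.fixedPoints Q (Om A) = {⟨y, L.hy⟩} := by
    ext z
    rw [MulAction.mem_fixedPoints, Set.mem_singleton_iff]
    constructor
    · intro h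
      apply Subtype.ext
      apply L.fixed_rad z.2
      intro w hw
      have h1 := h ⟨⟨w, L.rad_le hw⟩, hw⟩
      exact congrArg Subtype.val h1
    · rintro rfl u
      apply Subtype.ext
      have h1 : ((u : Γ) : V ≃ₗ[ZMod 2] V) ∈ Rad A y := u.2
      exact h1.2.1
  have h1 := hQ.card_modEq_card_fixedPoints (Om A)
  rw [hfix] at h1
  have h2 : Nat.card ({⟨y, L.hy⟩} : Set (Om A)) = 1 := Nat.card_unique
  rw [h2] at h1
  exact h1

/-- a 2-subgroup of `Γ` fixes an extremal element -/
theorem exists_fixed [Finite V] (P : Subgroup Γ) (hP : IsPGroup 2 P) :
    ∃ z, A.IsExt z ∧ ∀ p ∈ P, (p : V ≃ₗ[ZMod 2] V) z = z := by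
  letI : MulAction Γ (Om A) := act L.le
  have : Finite (Om A) := inferInstance
  have h1 := hP.card_modEq_card_fixedPoints (Om A)
  have h2 := L.odd_card
  have h3 : Nat.card (MulAction.fixedPoints P (Om A)) ≠ 0 := by
    intro h
    rw [h] at h1
    have h4 : Nat.card (Om A) % 2 = 0 % 2 := h1
    omega
  obtain ⟨z, hz⟩ := (Nat.card_ne_zero.1 h3).1
  refine ⟨z.1, z.2, fun p hp => ?_⟩
  exact congrArg Subtype.val (hz ⟨p, hp⟩)

/-- a Sylow 2-subgroup fixing `z` contains `Rad z` -/
theorem rad_le_sylow [Finite V] (P : Sylow 2 Γ) {z : V} (hz : A.IsExt z)
    (h : ∀ p ∈ P, (p : V ≃ₗ[ZMod 2] V) z = z) : (Rad A z).subgroupOf Γ ≤ P := by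
  have hQ : IsPGroup 2 ((Rad A z).subgroupOf Γ) :=
    (L.isPGroup' hz).comap_of_injective Γ.subtype Subtype.coe_injective
  have hn : (P : Subgroup Γ) ≤ Subgroup.normalizer ((Rad A z).subgroupOf Γ : Set Γ) := by
    intro p hp
    have key : ∀ q ∈ P, ∀ w : Γ, w ∈ (Rad A z).subgroupOf Γ → q * w * q⁻¹ ∈ (Rad A z).subgroupOf Γ := by
      intro q hq w hw
      have h1 := Rad_conj (show (w : V ≃ₗ[ZMod 2] V) ∈ Rad A z from hw) (L.le q.2)
      rw [h q hq] at h1
      exact h1
    rw [Subgroup.mem_normalizer_iff]
    intro w
    refine ⟨key p hp w, fun hw => ?_⟩
    have h2 := key p⁻¹ (P.inv_mem hp) _ hw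
    have h3 : p⁻¹ * (p * w * p⁻¹) * p⁻¹⁻¹ = w := by group
    rwa [h3] at h2
  have h1 : IsPGroup 2 ((P : Subgroup Γ) ⊔ (Rad A z).subgroupOf Γ : Subgroup Γ) :=
    IsPGroup.to_sup_of_normal_right' P.2 hQ hn
  have h2 := P.3 h1 le_sup_left
  rw [← h2]
  exact le_sup_right

/-- **The root involutions are the 2-central involutions.** -/
theorem twoCentral_iff [Finite V] (t : Γ) : IsTwoCentralInvolution t ↔ (t : V ≃ₗ[ZMod 2] V) ∈ A.R := by
  constructor
  · rintro ⟨ho, P, htP, hc⟩
    obtain ⟨z, hz, hfix⟩ := L.exists_fixed P P.2
    have h1 := L.rad_le_sylow P hz hfix
    rcases L.cent_rad' hz (L.le t.2) (by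
      intro w hw
      have h2 := hc ⟨w, L.rad_le' hz hw⟩ (h1 (show (⟨w, L.rad_le' hz hw⟩ : Γ) ∈ (Rad A z).subgroupOf Γ from hw))
      exact (congrArg Subtype.val h2).symm) with h2 | h2
    · exfalso
      have h3 : t = 1 := Subtype.ext h2
      rw [h3, orderOf_one] at ho
      exact absurd ho (by norm_num)
    · exact ⟨z, hz, h2.symm⟩
  · rintro ⟨w, hw, hgw⟩
    obtain ⟨P⟩ : Nonempty (Sylow 2 Γ) := inferInstance
    obtain ⟨z, hz, hfix⟩ := L.exists_fixed P P.2
    obtain ⟨γ, hγ, rfl⟩ := L.trans hw
    obtain ⟨δ, hδ, rfl⟩ := L.trans hz
    obtain ⟨q, hq⟩ : ∃ q : Γ, q = (⟨γ, hγ⟩ : Γ) * (⟨δ, hδ⟩ : Γ)⁻¹ := ⟨_, rfl⟩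
    have hqz : (q : V ≃ₗ[ZMod 2] V) (δ y) = γ y := by
      rw [hq]
      show γ (δ⁻¹ (δ y)) = γ y
      rw [inv_apply]
    have hfix' : ∀ x ∈ (MulAut.conj q • P : Sylow 2 Γ), (x : V ≃ₗ[ZMod 2] V) (γ y) = γ y := by
      intro x hx
      have hx' : x ∈ MulAut.conj q • (P : Subgroup Γ) := hx
      rw [Subgroup.mem_smul_pointwise_iff_exists] at hx'
      obtain ⟨p, hp, rfl⟩ := hx'
      show (q : V ≃ₗ[ZMod 2] V) ((p : V ≃ₗ[ZMod 2] V) (((q⁻¹ : Γ) : V ≃ₗ[ZMod 2] V) (γ y))) = γ y
      rw [← hqz]
      have h1 : ((q⁻¹ : Γ) : V ≃ₗ[ZMod 2] V) ((q : V ≃ₗ[ZMod 2] V) (δ y)) = δ y := inv_apply _ _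
      rw [h1, hfix p hp]
    refine ⟨?_, MulAut.conj q • P, ?_, ?_⟩
    · rw [orderOf_eq_prime_iff]
      refine ⟨Subtype.ext ?_, fun h => ?_⟩
      · show (t : V ≃ₗ[ZMod 2] V) ^ 2 = 1
        rw [pow_two, ← hgw, g_sq]
      · rw [h] at hgw
        exact g_ne_one hw hgw
    · apply L.rad_le_sylow _ hw hfix'
      show (t : V ≃ₗ[ZMod 2] V) ∈ Rad A (γ y)
      rw [← hgw]
      exact g_mem_Rad hw
    · intro x hx
      apply Subtype.ext
      show (x : V ≃ₗ[ZMod 2] V) * t = t * x
      rw [← hgw]
      exact L.g_comm hw (L.le x.2) (hfix' x hx)

end Glob

end Cfsg.Agent.TwoESix.ExtGlobal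
end

-- part: TwoESix/ExtModelE
section
/-!
# The local certificates for the algebra
-/

set_option autoImplicit false

namespace Cfsg.Agent.TwoESix.ExtModel

open Cfsg.Agent.Lib Cfsg.Agent.Lib.F2Mat
open Cfsg.Agent.TwoESix.ExtCode Cfsg.Agent.TwoESix.ExtData Cfsg.Agent.TwoESix.ExtData2 Cfsg.Agent.TwoESix.ExtAlg
open Cfsg.Agent.TwoESix.Data Cfsg.Agent.TwoESix.Iso

/-! ### Sums of rank one operators -/

/-- the code of `x ↦ ∑ B(k,x) t` over the pairs `(k,t)` of the list -/
def ktop (L : List (ℕ × ℕ)) : ℕ :=
  List.rec 0 (fun a _ ih => force (Prod.fst a) fun k => force (Prod.snd a) fun t => Nat.xor ih (out (vmul 78 k Jc) t)) L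

theorem ktop_cons (a : ℕ × ℕ) (L : List (ℕ × ℕ)) : ktop (a :: L) = ktop L ^^^ out (vmul 78 a.1 Jc) a.2 := by
  show force (Prod.fst a) (fun k => force (Prod.snd a) fun t => Nat.xor (ktop L) (out (vmul 78 k Jc) t)) = _
  rw [force_eq, force_eq]
  rfl

theorem op_ktop {L : List (ℕ × ℕ)} (hL : L.all (fun a => Nat.blt a.2 (Nat.pow 2 78)) = true) (x : V) :
    op (ktop L) x = (L.map fun a => bil (vc a.1) x • vc a.2).sum := by
  induction L with
  | nil => exact op_zero x
  | cons a L ih =>
    rw [List.all_cons, Bool.and_eq_true] at hL
    rw [ktop_cons, op_xor, ih hL.2, bil_out hL.1, List.map_cons, List.sum_cons, add_comm]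

/-! ### Numbers -/

theorem hey_check : Nat.beq (vmul 78 yc (adc ec)) hc = true := by decide +kernel

theorem br_ey : A.br (vc ec) (vc yc) = vc hc := by
  rw [A_br, br_vc_vc, Nat.eq_of_beq_eq_true hey_check]

theorem B_ey : A.B (vc ec) (vc yc) = 1 := by
  rw [A_B, bil_vc, show bilc ec yc = true from by decide +kernel]
  rfl

/-- extremal elements collinear to `y` -/
noncomputable def cF (i : Fin 20) : V := vc (cs.getD i 0)

/-- dual basis -/
noncomputable def cF' (i : Fin 20) : V := vc (cps.getD i 0)

theorem cw_check : allN (fun i => wOk (cw.getD i []) (cs.getD i 0)) 20 = true := by decide +kernel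

theorem cF_ext (i : Fin 20) : A.IsExt (cF i) := ext_of_word (allN_sound cw_check i i.2)

theorem cF_mem (i : Fin 20) : ∃ γ ∈ Γ, γ (vc b0) = cF i := word_mem (allN_sound cw_check i i.2)

theorem cy_check : allN (fun i => and (not (bilc (cs.getD i 0) yc)) (Nat.beq (vmul 78 yc (adc (cs.getD i 0))) 0)) 20 =
    true := by decide +kernel

theorem cF_y (i : Fin 20) : A.g (cF i) (vc yc) = vc yc := by
  have h := allN_sound cy_check i i.2
  rw [Bool.and_eq_true, Bool.not_eq_true'] at h
  rw [Alg.fix_iff (cF_ext i), A_B, A_br, cF, bil_vc, br_vc_vc, h.1, Nat.eq_of_beq_eq_true h.2, vc_zero]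
  exact ⟨rfl, rfl⟩

private noncomputable def _root_.Cfsg.Agent.LsF.f1765ec_0 : {f // @Cfsg.Agent.TwoESix.ExtCode.allN = f} := ⟨_, by first | (delta Cfsg.Agent.TwoESix.ExtCode.allN; rewrite [Cfsg.Agent.LsF.and_eq]; exact rfl) | exact rfl⟩
private noncomputable def _root_.Cfsg.Agent.LsF.f1765ec_1 : {f // @Cfsg.Agent.TwoESix.ExtCode.sel = f} := ⟨_, by first | (delta Cfsg.Agent.TwoESix.ExtCode.sel; rewrite [Cfsg.Agent.LsF.cond_eq]; exact rfl) | exact rfl⟩
private noncomputable def _root_.Cfsg.Agent.LsF.f1765ec_2 : {f // @Cfsg.Agent.TwoESix.ExtModel.adc = f} := ⟨_, by first | (delta Cfsg.Agent.TwoESix.ExtModel.adc; rewrite [Cfsg.Agent.LsF.f1765ec_1.2]; exact rfl) | exact rfl⟩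
private noncomputable def _root_.Cfsg.Agent.LsF.f1765ec_3 : {f // @Cfsg.Agent.TwoESix.ExtCode.dotN = f} := ⟨_, by first | (delta Cfsg.Agent.TwoESix.ExtCode.dotN; rewrite [Cfsg.Agent.LsF.and_eq, Cfsg.Agent.LsF.bxor_eq]; exact rfl) | exact rfl⟩
private noncomputable def _root_.Cfsg.Agent.LsF.f1765ec_4 : {f // @Cfsg.Agent.TwoESix.ExtCode.dot = f} := ⟨_, by first | (delta Cfsg.Agent.TwoESix.ExtCode.dot; rewrite [Cfsg.Agent.LsF.f1765ec_3.2]; exact rfl) | exact rfl⟩
private noncomputable def _root_.Cfsg.Agent.LsF.f1765ec_5 : {f // @Cfsg.Agent.TwoESix.ExtModel.bilc = f} := ⟨_, by first | (delta Cfsg.Agent.TwoESix.ExtModel.bilc; rewrite [Cfsg.Agent.LsF.f1765ec_4.2]; exact rfl) | exact rfl⟩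
theorem cc_check : allN (fun i => force (adc (cs.getD i 0)) fun X => allN (fun j =>
    and (not (bilc (cs.getD i 0) (cps.getD j 0)))
      (Nat.beq (vmul 78 (cps.getD j 0) X) (cond (Nat.beq i j) yc 0))) 20) 20 = true := by ((try (rewrite [Cfsg.Agent.LsF.f1765ec_0.2, Cfsg.Agent.LsF.f1765ec_2.2, Cfsg.Agent.LsF.f1765ec_5.2, Cfsg.Agent.LsF.and_eq, Cfsg.Agent.LsF.not_eq, Cfsg.Agent.LsF.cond_eq, Cfsg.Agent.LsF.getD_eq])); decide +kernel)

theorem cF_cF' (i j : Fin 20) : A.g (cF i) (cF' j) = if i = j then cF' j + vc yc else cF' j := by
  have h := allN_sound cc_check i i.2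
  rw [force_eq] at h
  have h1 := allN_sound h j j.2
  rw [Bool.and_eq_true, Bool.not_eq_true'] at h1
  rw [Alg.g_apply (cF_ext i), A_B, A_br, cF, cF', bil_vc, br_vc_vc, h1.1, bz_false, zero_smul, add_zero,
    Nat.eq_of_beq_eq_true h1.2]
  by_cases hij : i = j
  · subst hij
    rw [if_pos rfl, Nat.beq_refl]
    rfl
  · rw [if_neg hij]
    have h2 : Nat.beq (i : ℕ) j = false := by
      rw [← Bool.not_eq_true, Nat.beq_eq]
      exact fun h => hij (Fin.ext h)
    rw [h2, cond_false, vc_zero, add_zero]

theorem ce_check : allN (fun j => not (bilc ec (cps.getD j 0))) 20 = true := by decide +kernel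

theorem B_e_cF' (j : Fin 20) : A.B (vc ec) (cF' j) = 0 := by
  have h := allN_sound ce_check j j.2
  rw [Bool.not_eq_true'] at h
  rw [A_B, cF', bil_vc, h, bz_false]

theorem L1_lt : L1.all (fun a => Nat.blt a.2 (Nat.pow 2 78)) = true := by decide +kernel

theorem L1_check : Nat.beq (adc yc) (ktop L1) = true := by decide +kernel

theorem L1_mem : ∀ a ∈ L1, (a.1 ∈ cps ∧ a.2 ∈ cs) ∨ a.2 = yc ∨ a.1 = yc := by decide +kernel

theorem cs_length : cs.length = 20 := by decide +kernel
theorem cps_length : cps.length = 20 := by decide +kernel
theorem aps_length : aps.length = 20 := by decide +kernel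
theorem brs_length : brs.length = 36 := by decide +kernel

theorem mem_cs {v : ℕ} (h : v ∈ cs) : vc v ∈ Set.range cF := by
  obtain ⟨i, hi, rfl⟩ := List.mem_iff_getElem.1 h
  have hi' : i < 20 := by rwa [cs_length] at hi
  exact ⟨⟨i, hi'⟩, by rw [cF, List.getD_eq_getElem _ _ hi]⟩

theorem mem_cps {v : ℕ} (h : v ∈ cps) : ∃ j, vc v = cF' j := by
  obtain ⟨i, hi, rfl⟩ := List.mem_iff_getElem.1 h
  have hi' : i < 20 := by rwa [cps_length] at hi
  exact ⟨⟨i, hi'⟩, by rw [cF', List.getD_eq_getElem _ _ hi]⟩

theorem smul_mem_closure {S : Set V} {v : V} (h : v ∈ AddSubgroup.closure S) (c : ZMod 2) :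
    c • v ∈ AddSubgroup.closure S := by
  rcases z2 c with rfl | rfl
  · rw [zero_smul]; exact AddSubgroup.zero_mem _
  · rwa [one_smul]

theorem sum_mem_closure {S : Set V} {L : List (ℕ × ℕ)} {x : V}
    (h : ∀ a ∈ L, bil (vc a.1) x = 0 ∨ vc a.2 ∈ AddSubgroup.closure S) :
    (L.map fun a => bil (vc a.1) x • vc a.2).sum ∈ AddSubgroup.closure S := by
  apply AddSubgroup.list_sum_mem
  intro z hz
  rw [List.mem_map] at hz
  obtain ⟨a, ha, rfl⟩ := hz
  rcases h a ha with h1 | h1
  · rw [h1, zero_smul]; exact AddSubgroup.zero_mem _
  · exact smul_mem_closure h1 _

theorem br_y (x : V) : A.br (vc yc) x = (L1.map fun a => bil (vc a.1) x • vc a.2).sum := by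
  rw [A_br, br_vc, op_eq_of L1_check, op_ktop L1_lt]

theorem low_aux (x : V) (hx : A.B x (vc yc) = 0) (h : ∀ j, A.B x (cF' j) = 0) :
    A.br x (vc yc) = 0 ∨ A.br x (vc yc) = vc yc := by
  have h1 : A.br x (vc yc) ∈ AddSubgroup.closure ({vc yc} : Set V) := by
    rw [Alg.br_comm, br_y]
    apply sum_mem_closure
    intro a ha
    rcases L1_mem a ha with h1 | h1 | h1
    · left
      obtain ⟨j, hj⟩ := mem_cps h1.1
      rw [hj, ← A_B, Alg.B_comm, h]
    · right
      rw [h1]
      exact ExtLocal.closure_one_mem _
    · left
      rw [h1, ← A_B, Alg.B_comm, hx]
  exact ExtLocal.mem_closure_one h1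

theorem cspan_aux (x : V) (hx : A.B (vc yc) x = 0) :
    A.br (vc yc) x ∈ AddSubgroup.closure (Set.range cF ∪ {vc yc}) := by
  rw [br_y]
  apply sum_mem_closure
  intro a ha
  rcases L1_mem a ha with h1 | h1 | h1
  · right
    exact AddSubgroup.subset_closure (Or.inl (mem_cs h1.2))
  · right
    rw [h1]
    exact AddSubgroup.subset_closure (Or.inr rfl)
  · left
    rw [h1, ← A_B, hx]

theorem aps_check : allN (fun j => and (not (bilc yc (aps.getD j 0)))
    (Nat.beq (vmul 78 (aps.getD j 0) (adc yc)) (cps.getD j 0))) 20 = true := by decide +kernel

theorem cmem_aux (j : Fin 20) : A.B (vc yc) (vc (aps.getD j 0)) = 0 ∧ cF' j = A.br (vc yc) (vc (aps.getD j 0)) := by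
  have h := allN_sound aps_check j j.2
  rw [Bool.and_eq_true, Bool.not_eq_true'] at h
  rw [A_B, A_br, bil_vc, br_vc_vc, h.1, Nat.eq_of_beq_eq_true h.2]
  exact ⟨rfl, rfl⟩

/-! ### The core certificate -/

/-- the operator of the core certificate -/
def Dop (i j : ℕ) : ℕ :=
  force (adc ec) fun E => force (cps.getD i 0) fun a => force (cps.getD j 0) fun b => force (adc a) fun M =>
    force (adc b) fun N => Nat.xor (Nat.xor (mul 78 N (adc (vmul 78 a E))) (mul 78 M (adc (vmul 78 b E))))
      (cond (bilc ec (vmul 78 b M)) (one 78) 0)

theorem op_Dop (i j : Fin 20) (x : V) : op (Dop i j) x =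
    A.br (A.br (vc ec) (cF' i)) (A.br x (cF' j)) + A.br (A.br x (cF' i)) (A.br (vc ec) (cF' j)) +
        A.B (vc ec) (A.br (cF' i) (cF' j)) • x := by
  have h4 : ∀ a b c : ℕ, op (Nat.xor (Nat.xor a b) c) x = op a x + op b x + op c x := by
    intro a b c
    have h5 : op (Nat.xor (Nat.xor a b) c) x = op (Nat.xor a b) x + op c x := op_xor _ _ _
    have h6 : op (Nat.xor a b) x = op a x + op b x := op_xor _ _ _
    rw [h5, h6]
  rw [Dop, force_eq, force_eq, force_eq, force_eq, force_eq, h4, op_mul, op_mul]
  have h7 : ∀ b : Bool, op (cond b (one 78) 0) x = bz b • x := by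
    intro b
    cases b
    · rw [cond_false, op_zero, bz_false, zero_smul]
    · rw [cond_true, op_one, bz_true, one_smul]
  unfold cF'
  rw [h7, ← bil_vc, ← br_vc, ← br_vc, ← br_vc, ← br_vc, ← br_vc_vc, ← br_vc_vc, ← br_vc_vc, A_B, A_br,
    br_comm' x (vc (cps.getD j 0)), br_comm' x (vc (cps.getD i 0)), br_comm' (br (vc (cps.getD i 0)) x) _]

theorem L2_lt : L2.all (fun a => Nat.blt a.2 (Nat.pow 2 78)) = true := by decide +kernel

theorem L2_mem : ∀ a ∈ L2, a.1 ∈ cps ∨ a.1 = yc ∨ a.2 = hc ∨ a.2 = yc := by decide +kernel

theorem core_check : Nat.beq (Nat.xor (Nat.xor (mul 78 (Dop 6 10) TA) (mul 78 (Dop 0 2) TB)) (ktop L2)) (one 78) = true := by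
  decide +kernel

theorem TA_y : Nat.beq (vmul 78 yc TA) 0 = true := by decide +kernel
theorem TB_y : Nat.beq (vmul 78 yc TB) 0 = true := by decide +kernel

theorem op_zero_of {T : ℕ} (hT : Nat.beq (vmul 78 yc T) 0 = true) {z : V}
    (hz : z ∈ AddSubgroup.closure ({vc yc} : Set V)) : op T z = 0 := by
  rcases ExtLocal.mem_closure_one hz with rfl | rfl
  · rw [map_zero]
  · rw [op_vc, Nat.eq_of_beq_eq_true hT, vc_zero]

theorem core_aux (x : V) (hx : A.B x (vc yc) = 0) (h : ∀ j, A.B x (cF' j) = 0)
    (hD : ∀ i j, A.br (A.br (vc ec) (cF' i)) (A.br x (cF' j)) + A.br (A.br x (cF' i)) (A.br (vc ec) (cF' j)) +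
        A.B (vc ec) (A.br (cF' i) (cF' j)) • x ∈ AddSubgroup.closure ({vc yc} : Set V)) :
    x ∈ AddSubgroup.closure ({A.br (vc ec) (vc yc), vc yc} : Set V) := by
  have h1 : x = op (one 78) x := (op_one x).symm
  have h4 : ∀ a b c : ℕ, op (Nat.xor (Nat.xor a b) c) x = op a x + op b x + op c x := by
    intro a b c
    have h5 : op (Nat.xor (Nat.xor a b) c) x = op (Nat.xor a b) x + op c x := op_xor _ _ _
    have h6 : op (Nat.xor a b) x = op a x + op b x := op_xor _ _ _
    rw [h5, h6]
  have hA := hD ⟨6, by norm_num⟩ ⟨10, by norm_num⟩
  have hB := hD ⟨0, by norm_num⟩ ⟨2, by norm_num⟩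
  rw [← op_Dop] at hA hB
  rw [h1, ← op_eq_of core_check, h4, op_mul, op_mul]
  have hA' : op TA (op (Dop 6 10) x) = 0 := op_zero_of TA_y hA
  have hB' : op TB (op (Dop 0 2) x) = 0 := op_zero_of TB_y hB
  rw [hA', hB', zero_add, zero_add, op_ktop L2_lt]
  apply sum_mem_closure
  intro a ha
  rcases L2_mem a ha with h1 | h1 | h1 | h1
  · left
    obtain ⟨j, hj⟩ := mem_cps h1
    rw [hj, ← A_B, Alg.B_comm, h]
  · left
    rw [h1, ← A_B, Alg.B_comm, hx]
  · right
    rw [h1, br_ey]
    exact AddSubgroup.subset_closure (Or.inl rfl)
  · right
    rw [h1]
    exact AddSubgroup.subset_closure (Or.inr rfl)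

/-! ### Generation -/

theorem ape_check : (force (adc ec) fun E => force (adc hc) fun H => allN (fun j => force (aps.getD j 0) fun a =>
    and (and (Nat.beq (vmul 78 a E) 0) (Nat.beq (vmul 78 a H) a)) (not (Nat.beq a 0))) 20) = true := by decide +kernel

theorem ape (j : Fin 20) : A.br (vc ec) (vc (aps.getD j 0)) = 0 ∧ A.br (A.br (vc ec) (vc yc)) (vc (aps.getD j 0)) =
    vc (aps.getD j 0) := by
  have h := ape_check
  rw [force_eq, force_eq] at h
  have h1 := allN_sound h j j.2
  rw [force_eq, Bool.and_eq_true, Bool.and_eq_true] at h1
  rw [br_ey, A_br, br_vc_vc, br_vc_vc, Nat.eq_of_beq_eq_true h1.1.1, Nat.eq_of_beq_eq_true h1.1.2, vc_zero]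
  exact ⟨rfl, rfl⟩

theorem vc_bit_ne {v : ℕ} (i : Fin 78) (h : v.testBit i = true) : vc v ≠ 0 := by
  intro h1
  have h2 := congrFun (congrArg co h1) i
  rw [vc_apply, h, co_zero] at h2
  exact one_ne_zero h2

theorem top_aux : ∃ a, a ≠ 0 ∧ A.br (A.br (vc ec) (vc yc)) a = a ∧ A.br (vc ec) a = 0 :=
  ⟨vc (aps.getD ((0 : Fin 20) : ℕ) 0), vc_bit_ne ⟨28, by norm_num⟩ (by decide +kernel), (ape 0).2, (ape 0).1⟩

/-- generating vectors -/
def genL : List ℕ := ec :: yc :: (aps ++ (cps ++ brs))

theorem genL_lt : genL.all (fun a => Nat.blt a (Nat.pow 2 78)) = true := by decide +kernel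

theorem GI_check : Nat.beq (mul 78 GI (pack genL)) (one 78) = true := by decide +kernel

theorem brs_check : allN (fun q => force (Prod.fst (gp.getD q (0, 0))) fun i => force (Prod.snd (gp.getD q (0, 0))) fun j =>
    and (and (Nat.blt i 20) (Nat.blt j 20)) (Nat.beq (vmul 78 (cps.getD j 0) (adc (aps.getD i 0))) (brs.getD q 0))) 36 = true := by
  decide +kernel

theorem genL_length : genL.length = 78 := by decide +kernel

theorem genL_mem {v : ℕ} (h : v ∈ genL) : v = ec ∨ v = yc ∨ v ∈ aps ∨ v ∈ cps ∨ v ∈ brs := by
  unfold genL at h
  rw [List.mem_cons, List.mem_cons, List.mem_append, List.mem_append] at h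
  exact h

theorem gen_aux (u : V ≃ₗ[ZMod 2] V) (hu : u ∈ A.Aut) (h1 : u (vc ec) = vc ec) (h2 : u (vc yc) = vc yc)
    (h3 : ∀ v, A.br (vc ec) v = 0 → A.br (A.br (vc ec) (vc yc)) v = v → u v = v) : u = 1 := by
  have ha : ∀ j : Fin 20, u (vc (aps.getD j 0)) = vc (aps.getD j 0) := fun j => h3 _ (ape j).1 (ape j).2
  have hc : ∀ j : Fin 20, u (cF' j) = cF' j := by
    intro j
    rw [(cmem_aux j).2, Alg.Aut_br hu, h2, ha]
  have hfix : ∀ v ∈ genL, u (vc v) = vc v := by
    intro v hv
    rcases genL_mem hv with rfl | rfl | hv | hv | hv
    · exact h1
    · exact h2
    · obtain ⟨i, hi, rfl⟩ := List.mem_iff_getElem.1 hv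
      have hi' : i < 20 := by rwa [aps_length] at hi
      have := ha ⟨i, hi'⟩
      rwa [List.getD_eq_getElem _ _ hi] at this
    · obtain ⟨j, hj⟩ := mem_cps hv
      rw [hj, hc]
    · obtain ⟨q, hq, rfl⟩ := List.mem_iff_getElem.1 hv
      have hq' : q < 36 := by rwa [brs_length] at hq
      have h := allN_sound brs_check q hq'
      rw [force_eq, force_eq, Bool.and_eq_true, Bool.and_eq_true, Nat.blt_eq, Nat.blt_eq] at h
      have h4 := Nat.eq_of_beq_eq_true h.2
      rw [List.getD_eq_getElem _ _ hq] at h4
      rw [← h4, ← br_vc_vc, ← A_br, Alg.Aut_br hu]
      have h5 := ha ⟨_, h.1.1⟩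
      have h6 := hc ⟨_, h.1.2⟩
      unfold cF' at h6
      rw [h5, h6]
  refine LinearEquiv.ext fun x => ?_
  have h7 : ∀ x : V, u x = x := by
    intro x
    rw [span_of genL_lt GI_check x, map_sum]
    refine Finset.sum_congr rfl fun j _ => ?_
    rw [map_smul, hfix]
    rw [List.getD_eq_getElem _ _ (by rw [genL_length]; exact j.2)]
    exact List.getElem_mem _
  rw [h7 x]
  rfl

end Cfsg.Agent.TwoESix.ExtModel
end

-- part: TwoESix/ExtModelF
section
/-!
# The algebra satisfies the local and global conditions
-/

set_option autoImplicit false

namespace Cfsg.Agent.TwoESix.ExtModel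

open Cfsg.Agent.Lib Cfsg.Agent.Lib.F2Mat
open Cfsg.Agent.TwoESix.ExtCode Cfsg.Agent.TwoESix.ExtData Cfsg.Agent.TwoESix.ExtData2 Cfsg.Agent.TwoESix.ExtAlg
open Cfsg.Agent.TwoESix.ExtLocal Cfsg.Agent.TwoESix.ExtGlobal
open Cfsg.Agent.TwoESix.Data Cfsg.Agent.TwoESix.Iso

/-- the local certificates -/
noncomputable def loc : Loc A Γ 20 (vc ec) (vc yc) where
  le := Γ_le
  he := ec_ext
  hy := yc_ext
  hey := B_ey
  ge := g_mem_of ec_mem
  gy := g_mem_of yc_mem
  c := cF
  c' := cF'
  hc := cF_ext
  gc i := g_mem_of (cF_mem i)
  cy := cF_y
  cc := cF_cF'
  ce := B_e_cF'
  low := low_aux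
  cmem j := ⟨_, cmem_aux j⟩
  cspan := cspan_aux
  core := core_aux
  top := top_aux
  gen := gen_aux

theorem span_aux (z : V) (hz : z ≠ 0) : ∃ γ ∈ Γ, A.B z (γ (vc yc)) = 1 := by
  by_contra hne
  push Not at hne
  have h1 : ∀ γ ∈ Γ, A.B z (γ (vc yc)) = 0 := fun γ hγ => (z2 _).resolve_right (hne γ hγ)
  apply hz
  apply A.nondeg
  obtain ⟨γ₀, hγ₀, h0⟩ := yc_mem
  have h2 : A.B z = 0 := by
    apply orbit_induction
    intro γ hγ
    have h3 := h1 (γ * γ₀⁻¹) (Γ.mul_mem hγ (Γ.inv_mem hγ₀))
    rw [← h0, LinearEquiv.mul_apply, Alg.inv_apply] at h3
    rw [h3]
    rfl
  intro y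
  rw [h2]
  rfl

/-- **The certificates.** -/
noncomputable def glob : Glob A Γ 20 (vc ec) (vc yc) where
  toLoc := loc
  span := span_aux
  leE := Γ_le_E

end Cfsg.Agent.TwoESix.ExtModel
end

-- part: TwoESix/ExtTwisted
section
/-!
# The root involutions of `²E₆(2)`

`Basic R`: `R` is a class of involutions; the product of two elements of `R` has order 1, 2, 3 or 4; the opposite pairs
form one orbit; `R` is the set of all 2-central involutions.
`exists_rootEquiv`: `twistedE6 K 2`, `|K| = 4`, is the group `Γ` of the 78-dimensional algebra `A`, root involutions are
those of the extremal elements.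
`basic`: `Basic (rootClass K)`.
-/

set_option autoImplicit false

namespace Cfsg.Agent.TwoESix.ExtTwisted

open Cfsg.Lie Cfsg.Agent.BabyU Cfsg.Agent.TwoESix.RootsCfg Cfsg.Agent.TwoESix.Iso
open Cfsg.Agent.TwoESix.ExtCode Cfsg.Agent.TwoESix.ExtAlg Cfsg.Agent.TwoESix.ExtModel
open Cfsg.Agent.TwoESix.ExtAlg.Alg Cfsg.Agent.TwoESix.ExtLocal Cfsg.Agent.TwoESix.ExtGlobal

/-- properties of the class of root involutions -/
structure Basic {E : Type*} [Group E] (R : Set E) : Prop where
  ne : ∀ r ∈ R, r ≠ 1
  sq : ∀ r ∈ R, r * r = 1
  conj : ∀ r ∈ R, ∀ g : E, g * r * g⁻¹ ∈ R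
  one : ∀ r ∈ R, ∀ s ∈ R, ∃ g : E, g * r * g⁻¹ = s
  ord : ∀ r ∈ R, ∀ s ∈ R, (r * s) ^ 4 = 1 ∨ (r * s) ^ 3 = 1
  opp : ∃ r ∈ R, ∃ s ∈ R, r ≠ s ∧ (r * s) ^ 3 = 1
  opp_trans : ∀ r ∈ R, ∀ s ∈ R, ∀ r' ∈ R, ∀ s' ∈ R, r ≠ s → (r * s) ^ 3 = 1 → r' ≠ s' → (r' * s') ^ 3 = 1 →
    ∃ g : E, g * r * g⁻¹ = r' ∧ g * s * g⁻¹ = s'
  central : ∀ x : E, Cfsg.IsTwoCentralInvolution x ↔ x ∈ R

/-! ### Transport -/

theorem twoCentral_map {E E' : Type*} [Group E] [Group E'] [Finite E] (θ : E ≃* E') {x : E}
    (h : Cfsg.IsTwoCentralInvolution x) : Cfsg.IsTwoCentralInvolution (θ x) := by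
  obtain ⟨h1, P, hP, hc⟩ := h
  refine ⟨by rw [← h1]; exact orderOf_injective θ.toMonoidHom θ.injective x, P.mapSurjective (f := θ.toMonoidHom) θ.surjective, ?_, ?_⟩
  · exact ⟨x, hP, rfl⟩
  · rintro _ ⟨y, hy, rfl⟩
    show θ y * θ x = θ x * θ y
    rw [← map_mul, hc y hy, map_mul]

theorem Basic.of_equiv {E E' : Type*} [Group E] [Group E'] [Finite E] {R : Set E} {R' : Set E'} (θ : E ≃* E')
    (h : ∀ x, x ∈ R ↔ θ x ∈ R') (B : Basic R') : Basic R := by
  have : Finite E' := Finite.of_equiv _ θ.toEquiv
  have hc : ∀ (g : E') (x : E) (y : E), g * θ x * g⁻¹ = θ y → θ.symm g * x * (θ.symm g)⁻¹ = y := by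
    intro g x y hg
    apply θ.injective
    rw [map_mul, map_mul, map_inv, θ.apply_symm_apply, hg]
  have hT : ∀ y ∈ R', ∃ x ∈ R, θ x = y := fun y hy =>
    ⟨θ.symm y, (h _).2 (by rwa [θ.apply_symm_apply]), θ.apply_symm_apply y⟩
  have hp : ∀ (x y : E) (n : ℕ), (θ x * θ y) ^ n = 1 ↔ (x * y) ^ n = 1 := by
    intro x y n
    rw [← map_mul, ← map_pow, map_eq_one_iff θ θ.injective]
  refine ⟨?_, ?_, ?_, ?_, ?_, ?_, ?_, ?_⟩
  · rintro r hr rfl
    exact B.ne _ ((h _).1 hr) (map_one θ)
  · intro r hr
    apply θ.injective
    rw [map_mul, map_one, B.sq _ ((h _).1 hr)]
  · intro r hr g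
    rw [h, map_mul, map_mul, map_inv]
    exact B.conj _ ((h _).1 hr) _
  · intro r hr s hs
    obtain ⟨g, hg⟩ := B.one _ ((h _).1 hr) _ ((h _).1 hs)
    exact ⟨_, hc _ _ _ hg⟩
  · intro r hr s hs
    have := B.ord _ ((h _).1 hr) _ ((h _).1 hs)
    rwa [hp, hp] at this
  · obtain ⟨a, ha, b, hb, hab, h3⟩ := B.opp
    obtain ⟨a, ha', rfl⟩ := hT a ha
    obtain ⟨b, hb', rfl⟩ := hT b hb
    rw [hp] at h3
    exact ⟨a, ha', b, hb', fun e => hab (by rw [e]), h3⟩
  · intro a ha b hb a' ha' b' hb' hn h1 hn' h2
    rw [← hp] at h1 h2
    obtain ⟨g, hg, hg'⟩ := B.opp_trans _ ((h _).1 ha) _ ((h _).1 hb) _ ((h _).1 ha') _ ((h _).1 hb')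
      (fun e => hn (θ.injective e)) h1 (fun e => hn' (θ.injective e)) h2
    exact ⟨_, hc _ _ _ hg, hc _ _ _ hg'⟩
  · intro x
    rw [h, ← B.central]
    constructor
    · exact twoCentral_map θ
    · intro hx
      have := twoCentral_map θ.symm hx
      rwa [θ.symm_apply_apply] at this

theorem Basic.auto {E E' : Type*} [Group E] [Group E'] [Finite E] {R : Set E} {R' : Set E'} (B : Basic R)
    (B' : Basic R') (θ : E ≃* E') (x : E) : x ∈ R ↔ θ x ∈ R' := by
  have : Finite E' := Finite.of_equiv _ θ.toEquiv
  rw [← B.central, ← B'.central]
  constructor
  · exact twoCentral_map θ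
  · intro hx
    have := twoCentral_map θ.symm hx
    rwa [θ.symm_apply_apply] at this

/-! ### In the model -/

/-- root involutions of the model -/
def RΓ : Set Γ := {x | (x : V ≃ₗ[ZMod 2] V) ∈ A.R}

theorem basic_Γ : Basic RΓ := by
  refine ⟨?_, ?_, ?_, ?_, ?_, ?_, ?_, ?_⟩
  · rintro r ⟨z, hz, h⟩ rfl
    exact g_ne_one hz h
  · rintro r ⟨z, hz, h⟩
    apply Subtype.ext
    show (r : V ≃ₗ[ZMod 2] V) * r = 1
    rw [← h, g_sq]
  · intro r hr g
    exact R_conj (Γ_le g.2) hr
  · rintro r ⟨z, hz, h⟩ s ⟨w, hw, h'⟩
    obtain ⟨γ, hγ, h1⟩ := glob.trans hz
    obtain ⟨δ, hδ, h2⟩ := glob.trans hw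
    refine ⟨⟨δ, hδ⟩ * ⟨γ, hγ⟩⁻¹, Subtype.ext ?_⟩
    show δ * γ⁻¹ * r * (δ * γ⁻¹)⁻¹ = s
    rw [← h, ← h', ← g_map hz (A.Aut.mul_mem (Γ_le hδ) (A.Aut.inv_mem (Γ_le hγ))), LinearEquiv.mul_apply, ← h1,
      inv_apply, h2]
  · rintro r ⟨z, hz, h⟩ s ⟨w, hw, h'⟩
    rcases z2 (A.B z w) with h0 | h1
    · left
      apply Subtype.ext
      show ((r : V ≃ₗ[ZMod 2] V) * s) ^ 4 = 1
      rw [← h, ← h', pow_four hz hw h0]
    · right
      apply Subtype.ext
      show ((r : V ≃ₗ[ZMod 2] V) * s) ^ 3 = 1
      rw [← h, ← h', ((opp_iff hz hw).1 h1).1]
  · have h1 := (opp_iff ec_ext yc_ext).1 B_ey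
    refine ⟨⟨_, glob.ge⟩, ⟨_, ec_ext, rfl⟩, ⟨_, glob.gy⟩, ⟨_, yc_ext, rfl⟩, fun e => h1.2 (congrArg Subtype.val e), ?_⟩
    exact Subtype.ext h1.1
  · rintro r ⟨z, hz, h⟩ s ⟨w, hw, h'⟩ r' ⟨z', hz', k⟩ s' ⟨w', hw', k'⟩ hn h3 hn' h3'
    have h4 : A.B z w = 1 := (opp_iff hz hw).2 ⟨by rw [h, h']; exact congrArg Subtype.val h3, by
      rw [h, h']; exact fun e => hn (Subtype.ext e)⟩
    have h5 : A.B z' w' = 1 := (opp_iff hz' hw').2 ⟨by rw [k, k']; exact congrArg Subtype.val h3', by
      rw [k, k']; exact fun e => hn' (Subtype.ext e)⟩
    obtain ⟨γ, hγ, h6, h7⟩ := glob.opp_trans hz hw h4 hz' hw' h5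
    refine ⟨⟨γ, hγ⟩, Subtype.ext ?_, Subtype.ext ?_⟩
    · show γ * r * γ⁻¹ = r'
      rw [← h, ← g_map hz (Γ_le hγ), h6, k]
    · show γ * s * γ⁻¹ = s'
      rw [← h', ← g_map hw (Γ_le hγ), h7, k']
  · exact fun x => glob.twoCentral_iff x

/-- conjugates of the first generator are the root involutions -/
theorem gl_TG (x : GL (Fin 78) (ZMod 2)) : x ∈ TG ↔ gl x ∈ A.R := by
  constructor
  · rintro ⟨g, hg, rfl⟩
    have h1 : gl g ∈ A.Aut := Γ_le ⟨g, hg, rfl⟩
    rw [map_mul, map_mul, map_inv]
    refine R_conj h1 ⟨vc b0, b0_ext, g_b0⟩
  · rintro ⟨z, hz, h⟩
    obtain ⟨γ, hγ, h1⟩ := glob.trans hz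
    obtain ⟨γ₀, hγ₀, h2⟩ := yc_mem
    obtain ⟨g, hg, h3⟩ := Γ.mul_mem hγ hγ₀
    have h3' : gl g = γ * γ₀ := h3
    refine ⟨g, hg, ?_⟩
    apply gl.injective
    rw [map_mul, map_mul, map_inv, ← h, ← h1, ← h2, ← LinearEquiv.mul_apply, ← h3',
      g_map b0_ext (Γ_le ⟨g, hg, rfl⟩ : gl g ∈ A.Aut), g_b0]
    rfl

/-- `Gam` is `Γ` -/
noncomputable def gamEquiv : Gam ≃* Γ := Gam.equivMapOfInjective gl.toMonoidHom gl.injective

theorem gamEquiv_apply (x : Gam) : ((gamEquiv x : Γ) : V ≃ₗ[ZMod 2] V) = gl x := rfl

/-- **The group `²E₆(2)` acts on the algebra.** -/
theorem exists_rootEquiv (K : Type*) [Field K] [Fintype K] (hK : Fintype.card K = 4) :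
    ∃ θ : twistedE6 K 2 ≃* Γ, ∀ x, x ∈ rootClass K ↔ ((θ x : Γ) : V ≃ₗ[ZMod 2] V) ∈ A.R := by
  obtain ⟨θ, h⟩ := Cfsg.Agent.TwoESix.ClassIso.exists_equiv K hK
  refine ⟨θ.trans gamEquiv, fun x => ?_⟩
  rw [h, gl_TG, MulEquiv.trans_apply, gamEquiv_apply]

/-- **The root involutions of `²E₆(2)`.** -/
theorem basic (K : Type*) [Field K] [Fintype K] (hK : Fintype.card K = 4) : Basic (rootClass K) := by
  obtain ⟨θ, h⟩ := exists_rootEquiv K hK
  exact Basic.of_equiv θ h basic_Γ

/-- **(o3)** Isomorphisms preserve the root involutions. -/
theorem auto (K K' : Type*) [Field K] [Fintype K] [Field K'] [Fintype K'] (hK : Fintype.card K = 4)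
    (hK' : Fintype.card K' = 4) (θ : twistedE6 K 2 ≃* twistedE6 K' 2) (x : twistedE6 K 2) :
    x ∈ rootClass K ↔ θ x ∈ rootClass K' :=
  (basic K hK).auto (basic K' hK') θ x

/-! ### Double covers -/

/-- An automorphism of a central extension with kernel of order two, mapping the kernel to itself, preserves the
preimages of root involutions. -/
theorem cover_auto {M : Type*} [Group M] {E : Type*} [Group E] [Finite E] {R : Set E} (B : Basic R) {π : M →* E}
    (hπ : Function.Surjective π) (α : M ≃* M) (hk : ∀ m, π m = 1 ↔ π (α m) = 1) (m : M) :
    π m ∈ R ↔ π (α m) ∈ R := by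
  have h1 : π.ker = (π.comp α.toMonoidHom).ker := by
    ext m
    exact hk m
  have h2 : Function.Surjective (π.comp α.toMonoidHom) := hπ.comp α.surjective
  let θ : E ≃* E := ((QuotientGroup.quotientKerEquivOfSurjective π hπ).symm.trans
    (QuotientGroup.quotientMulEquivOfEq h1)).trans (QuotientGroup.quotientKerEquivOfSurjective _ h2)
  have h3 : ∀ m, θ (π m) = π (α m) := by
    intro m
    have h4 : (QuotientGroup.quotientKerEquivOfSurjective π hπ).symm (π m) = (m : M ⧸ π.ker) := by
      rw [MulEquiv.symm_apply_eq]
      rfl
    show (QuotientGroup.quotientKerEquivOfSurjective _ h2) ((QuotientGroup.quotientMulEquivOfEq h1)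
      ((QuotientGroup.quotientKerEquivOfSurjective π hπ).symm (π m))) = π (α m)
    rw [h4]
    rfl
  rw [← h3]
  exact B.auto B θ _

/-- the centraliser of `t` preserves the root involutions -/
theorem setup_inv {G : Type*} [Group G] {t : G} {M : Subgroup G} {E : Type*} [Group E] [Finite E] {π : M →* E} {R : Set E}
    (B : Basic R) (S : Setup t M π) (g : G) (hg : g * t = t * g) (m m' : M) (h : (m' : G) = g * m * g⁻¹)
    (hm : π m ∈ R) : π m' ∈ R := by
  have hg' : g⁻¹ * t = t * g⁻¹ := by
    calc g⁻¹ * t = g⁻¹ * (t * g) * g⁻¹ := by group
      _ = g⁻¹ * (g * t) * g⁻¹ := by rw [hg]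
      _ = t * g⁻¹ := by group
  let α : M ≃* M :=
    { toFun := fun x => ⟨g * x * g⁻¹, S.norm g hg x x.2⟩
      invFun := fun x => ⟨g⁻¹ * x * g, by
        have := S.norm g⁻¹ hg' x x.2
        rwa [inv_inv] at this⟩
      left_inv := fun x => Subtype.ext (by show g⁻¹ * (g * x * g⁻¹) * g = x; group)
      right_inv := fun x => Subtype.ext (by show g * (g⁻¹ * x * g) * g⁻¹ = x; group)
      map_mul' := fun x y => Subtype.ext (by show g * (x * y) * g⁻¹ = g * x * g⁻¹ * (g * y * g⁻¹); group) }
  have h1 : m' = α m := Subtype.ext h
  rw [h1]
  refine (cover_auto B S.surj α (fun x => ?_) m).1 hm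
  rw [S.ker, S.ker]
  have h2 : ((α x : M) : G) = g * x * g⁻¹ := rfl
  rw [h2]
  constructor
  · rintro (h | h)
    · left; rw [h]; group
    · right; rw [h, hg]; group
  · rintro (h | h)
    · left
      calc (x : G) = g⁻¹ * (g * x * g⁻¹) * g := by group
        _ = 1 := by rw [h]; group
    · right
      calc (x : G) = g⁻¹ * (g * x * g⁻¹) * g := by group
        _ = t := by rw [h, hg']; group

end Cfsg.Agent.TwoESix.ExtTwisted
end

private theorem dce_894e1f18f202 : _root_.True := by
  try have : _root_.True := by simp only [_root_.Cfsg.Agent.TwoESix.ExtModel.cF.eq_1]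
  try have : _root_.True := by simp only [_root_.Cfsg.Agent.TwoESix.ExtModel.cF'.eq_1]
  try have : _root_.True := by simp only [_root_.Cfsg.Agent.TwoESix.ExtModel.Dop.eq_1]
  try have : _root_.True := by simp only [_root_.Cfsg.Agent.TwoESix.ExtModel.gc.eq_1]
  exact _root_.True.intro
end

-- part: BabyU/IdentGen
section
set_option linter.all false
open scoped Cfsg.Agent.FastGrp

/-!
# Generation from stage A

Every family of ten elements of `E = ²E₆(2)` satisfying the relators of the Baby Monster on `t2, …, t11` and `e 0 ≠ 1`
generates `E` (`closure_eq_top`); the lifts generate the double cover (`closure_lift`).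
-/

set_option autoImplicit false

namespace Cfsg.Agent.BabyU.IdentGen

open Cfsg Cfsg.Agent.TwoESix.Cox10 Cfsg.Agent.TwoESix.Lift Cfsg.Agent.TwoESix.Cover Cfsg.Agent.R01.Lifts

/-- The presented group `HB` is simple if `E` is. -/
theorem isSimple_HB [Finite HB] {E : Type*} [Group E] [IsSimpleGroup E] {e0 : Fin 10 → E} (he0 : Good e0)
    (hgen : Subgroup.closure (Set.range e0) = ⊤) (hcard : Nat.card HB ≤ Nat.card E) : IsSimpleGroup HB := by
  have hb := toHom_bijective he0 hgen hcard
  exact (MulEquiv.ofBijective _ hb).isSimpleGroup_congr.2 inferInstance

theorem card_HB [Finite HB] {E : Type*} [Group E] {e0 : Fin 10 → E} (he0 : Good e0)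
    (hgen : Subgroup.closure (Set.range e0) = ⊤) (hcard : Nat.card HB ≤ Nat.card E) : Nat.card HB = Nat.card E :=
  Nat.card_congr (Equiv.ofBijective _ (toHom_bijective he0 hgen hcard))

/-- All nodes are conjugate: if one is trivial, all are. -/
theorem node_ne_one {G : Type*} [Group G] {s : Fin 10 → G} (hs : M10.IsLiftable s) (h0 : s 0 ≠ 1) : ∀ i, s i ≠ 1 := by
  refine all_nodes (fun i => s i ≠ 1) ?_ ?_
  · intro i j hij hi hj
    have h := braid hs hij
    rw [hj, mul_one, one_mul, mul_one, sq hs i] at h
    exact hi (h.symm ▸ rfl)
  · -- node `3` from node `0`
    intro h3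
    have e2 : s 2 = 1 := by
      have h := braid hs (i := 2) (j := 3) (by decide)
      rw [h3, mul_one, one_mul, mul_one, sq hs 2] at h
      exact h.symm
    have e1 : s 1 = 1 := by
      have h := braid hs (i := 1) (j := 2) (by decide)
      rw [e2, mul_one, one_mul, mul_one, sq hs 1] at h
      exact h.symm
    have e0 : s 0 = 1 := by
      have h := braid hs (i := 0) (j := 1) (by decide)
      rw [e1, mul_one, one_mul, mul_one, sq hs 0] at h
      exact h.symm
    exact h0 e0

section

variable {E : Type*} [Group E] [Finite E]

/-- **Generation.** -/
theorem closure_eq_top [Finite HB] [IsSimpleGroup E] {e0 : Fin 10 → E} (he0 : Good e0)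
    (hgen : Subgroup.closure (Set.range e0) = ⊤) (hcard : Nat.card HB ≤ Nat.card E)
    {e : Fin 10 → E} (hs : M10.IsLiftable e) (hsp : ev e spider ^ 10 = 1)
    (h231 : ev e W231 ^ 9 = 1) (h213 : ev e W213 ^ 9 = 1) (hne : e 0 ≠ 1) :
    Subgroup.closure (Set.range e) = ⊤ := by
  classical
  have hsimp := isSimple_HB he0 hgen hcard
  have hc := card_HB he0 hgen hcard
  set z : E := ev e W321 ^ 9 with hz
  have hZ : ZRels e z := ⟨hs, hsp, rfl, h231, h213⟩
  set N : Subgroup E := Subgroup.closure (Set.range e) with hN
  -- a nontrivial homomorphism from `HB` is injective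
  have hinj : ∀ {H : Type _} [Group H] (f : HB →* H), (∃ x, f x ≠ 1) → Function.Injective f := by
    intro H _ f ⟨x, hx⟩
    rw [← MonoidHom.ker_eq_bot_iff]
    rcases hsimp.eq_bot_or_eq_top_of_normal f.ker inferInstance with h | h
    · exact h
    · exact absurd ((h ▸ Subgroup.mem_top x : x ∈ f.ker)) hx
  have hmem : ∀ i, e i ∈ N := fun i => Subgroup.subset_closure ⟨i, rfl⟩
  have hevN : ∀ w, ev e w ∈ N := by
    intro w
    induction w with
    | nil => exact N.one_mem
    | cons i w ih => rw [ev_cons]; exact N.mul_mem (hmem i) ih
  have hzN : z ∈ N := N.pow_mem (hevN _) 9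
  by_cases hz1 : z = 1
  · have hG : Good e := by rw [hz1] at hZ; exact hZ.good
    have h1 : Function.Injective (toHom hG) := hinj _ ⟨s0 0, by rw [toHom_s0]; exact hne⟩
    have h2 : Function.Surjective (toHom hG) := by
      have := (Nat.bijective_iff_injective_and_card (toHom hG)).2 ⟨h1, hc⟩
      exact this.2
    rw [eq_top_iff]
    rintro x -
    obtain ⟨y, rfl⟩ := h2 x
    have : y ∈ Subgroup.closure (Set.range s0) := by rw [closure_s0]; trivial
    refine Subgroup.closure_induction (p := fun y _ => toHom hG y ∈ N) ?_ ?_ ?_ ?_ this
    · rintro _ ⟨i, rfl⟩
      rw [toHom_s0]; exact hmem i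
    · rw [map_one]; exact N.one_mem
    · intro a b _ _ ha hb; rw [map_mul]; exact N.mul_mem ha hb
    · intro a _ ha; rw [map_inv]; exact N.inv_mem ha
  · exfalso
    -- the family in `N`
    let e' : Fin 10 → N := fun i => ⟨e i, hmem i⟩
    let z' : N := ⟨z, hzN⟩
    have hcoe : ∀ w, ((ev e' w : N) : E) = ev e w := fun w => by
      have := ev_map N.subtype e' w
      exact this
    have hZ' : ZRels e' z' := by
      refine ⟨fun i j => ?_, ?_, ?_, ?_, ?_⟩
      · apply Subtype.ext
        have := hs i j
        exact this
      · apply Subtype.ext
        rw [Subgroup.coe_pow, hcoe]; exact hsp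
      · apply Subtype.ext
        rw [Subgroup.coe_pow, hcoe]
      · apply Subtype.ext
        rw [Subgroup.coe_pow, hcoe]; exact h231
      · apply Subtype.ext
        rw [Subgroup.coe_pow, hcoe]; exact h213
    have htop : Subgroup.closure (Set.range e') = ⊤ := by
      have h0 : (N.subtype '' Set.range e') = Set.range e := by
        ext x
        constructor
        · rintro ⟨_, ⟨i, rfl⟩, rfl⟩; exact ⟨i, rfl⟩
        · rintro ⟨i, rfl⟩; exact ⟨e' i, ⟨i, rfl⟩, rfl⟩
      have h1 : (Subgroup.closure (Set.range e')).map N.subtype = N := by
        rw [MonoidHom.map_closure, h0]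
      rw [eq_top_iff]
      rintro ⟨x, hx⟩ -
      rw [← h1] at hx
      obtain ⟨y, hy, hyx⟩ := hx
      have : y = ⟨x, by rw [← hyx]; exact y.2⟩ := Subtype.ext hyx
      rw [this] at hy
      exact hy
    have hz'1 : z' ≠ 1 := fun h => hz1 (congrArg Subtype.val h)
    have hcen : ∀ g : N, Commute g z' := fun g => hZ'.z_central htop g
    let Z : Subgroup N := Subgroup.zpowers z'
    have hZn : Z.Normal := by
      constructor
      intro a ha g
      have h1 : Commute g a := by
        obtain ⟨k, rfl⟩ := Subgroup.mem_zpowers_iff.1 ha
        exact (hcen g).zpow_right k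
      rw [h1.eq, mul_inv_cancel_right]
      exact ha
    have hcardZ : Nat.card Z = 2 := by
      rw [Nat.card_zpowers]
      exact orderOf_eq_prime (by rw [pow_two]; exact hZ'.zz) hz'1
    have hGood : Good (fun i => (QuotientGroup.mk' Z) (e' i)) := by
      have h1 := hZ'.map (QuotientGroup.mk' Z)
      have h2 : QuotientGroup.mk' Z z' = 1 :=
        (QuotientGroup.eq_one_iff z').2 (Subgroup.mem_zpowers z')
      rw [h2] at h1
      exact h1.good
    have hnt : ∃ x, toHom hGood x ≠ 1 := by
      by_contra hcon
      push Not at hcon
      have hall : ∀ i, e' i ∈ Z := by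
        intro i
        have := hcon (s0 i)
        rw [toHom_s0] at this
        exact (QuotientGroup.eq_one_iff (e' i)).1 this
      -- every node is `z'`
      have hall2 : ∀ i, e' i = z' := by
        intro i
        have h1 : e' i ∈ Subgroup.zpowers z' := hall i
        have h2 : e' i ≠ 1 := fun h => node_ne_one hs hne i (congrArg Subtype.val h)
        obtain ⟨k, hk⟩ := Subgroup.mem_zpowers_iff.1 h1
        rcases Int.even_or_odd' k with ⟨l, rfl | rfl⟩
        · exfalso; apply h2
          rw [← hk, zpow_mul, zpow_ofNat, pow_two, hZ'.zz, one_zpow]
        · rw [← hk, zpow_add, zpow_mul, zpow_ofNat, pow_two, hZ'.zz, one_zpow, one_mul, zpow_one]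
      have h3 := hZ'.e231
      simp only [W231, ev, List.map_cons, List.map_nil, List.prod_cons, List.prod_nil, mul_one, hall2] at h3
      have h4 : z' * (z' * (z' * (z' * (z' * (z' * z'))))) = z' := by
        have := hZ'.zz
        calc z' * (z' * (z' * (z' * (z' * (z' * z'))))) = (z' * z') * ((z' * z') * ((z' * z') * z')) := by
              simp only [mul_assoc]
          _ = z' := by rw [this, one_mul, one_mul, one_mul]
      rw [h4] at h3
      apply hz'1
      have h5 : z' ^ 9 = z' := by
        have h6 : z' ^ 2 = 1 := by rw [pow_two]; exact hZ'.zz
        calc z' ^ 9 = (z' ^ 2) ^ 4 * z' := by rw [← pow_mul, ← pow_succ]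
          _ = z' := by rw [h6, one_pow, one_mul]
      rw [← h5, h3]
    have hi := hinj (toHom hGood) hnt
    have h1 : Nat.card HB ≤ Nat.card (N ⧸ Z) := Nat.card_le_card_of_injective _ hi
    have h2 : Nat.card N = Nat.card (N ⧸ Z) * Nat.card Z := Subgroup.card_eq_card_quotient_mul_card_subgroup Z
    have h3 : Nat.card N ≤ Nat.card E := Subgroup.card_le_card_group N
    have h4 : 0 < Nat.card E := Nat.card_pos
    rw [hcardZ] at h2
    omega

end

/-- Lifts of generators generate a nonsplit double cover. -/
theorem closure_lift {E M : Type*} [Group E] [Group M] {π : M →* E} {z : M} (h : Ext π z)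
    (hno : ∀ σ : E →* M, ¬ ∀ x, π (σ x) = x) {ι : Type*} {m : ι → M}
    (hgen : Subgroup.closure (Set.range fun i => π (m i)) = ⊤) : Subgroup.closure (Set.range m) = ⊤ := by
  classical
  set N : Subgroup M := Subgroup.closure (Set.range m) with hN
  have hmap : N.map π = ⊤ := by
    rw [hN, MonoidHom.map_closure, ← hgen]
    congr 1
    ext x
    constructor
    · rintro ⟨_, ⟨i, rfl⟩, rfl⟩; exact ⟨i, rfl⟩
    · rintro ⟨i, rfl⟩; exact ⟨m i, ⟨i, rfl⟩, rfl⟩
  by_cases hz : z ∈ N
  · rw [eq_top_iff]
    rintro x -
    have : π x ∈ N.map π := by rw [hmap]; trivial
    obtain ⟨y, hy, hyx⟩ := this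
    rcases h.map_eq.1 hyx with h1 | h1
    · rw [← h1]; exact hy
    · have : x = y * z := by rw [h1, h.mul_z_mul_z]
      rw [this]; exact N.mul_mem hy hz
  · exfalso
    have hinj : Function.Injective (π.comp N.subtype) := by
      rw [injective_iff_map_eq_one]
      intro x hx
      rcases (h.ker _).1 hx with h1 | h1
      · exact Subtype.ext h1
      · exact absurd (h1 ▸ x.2 : z ∈ N) hz
    have hsurj : Function.Surjective (π.comp N.subtype) := by
      intro x
      have : x ∈ N.map π := by rw [hmap]; trivial
      obtain ⟨y, hy, hyx⟩ := this
      exact ⟨⟨y, hy⟩, hyx⟩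
    let f : N ≃* E := MulEquiv.ofBijective _ ⟨hinj, hsurj⟩
    refine hno (N.subtype.comp f.symm.toMonoidHom) fun x => ?_
    show π ((f.symm x : N) : M) = x
    exact f.apply_symm_apply x

end Cfsg.Agent.BabyU.IdentGen

private theorem dce_e6b59ebfdd9f : _root_.True := by
  try have : _root_.True := by simp only [_root_.Cfsg.Agent.TwoESix.Cover.toHom.congr_simp]
  try have : _root_.True := by simp only [_root_.Cfsg.Agent.TwoESix.Cox10.W231.eq_1]
  exact _root_.True.intro
end

-- part: TwoESix/LeviCard
section
prune_inst 0x3420710444001000001805800100200464000192006b00010840024003084340a0000f4104e0131210282a4000000048111000d0001000000000080000000000002a00061200a104200000809084000000000000000000000000000000000004000000000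
set_option linter.all false
open scoped Cfsg.Agent.FastGrp

/-!
# ²E₆(2): the `2`-part of the order of the Levi subgroup `L = C_E(r0, s0)` is `2¹⁵`
-/

set_option autoImplicit false

namespace Cfsg.Agent.TwoESix.LeviCard

open Cfsg.Lie
open Cfsg.Agent.ChevalleyStructure
open Cfsg.Agent.ChevalleyStructure.Elts hiding x_add x_zero x_eq_one_iff
open Cfsg.Agent.ChevalleyStructure.TwE6Basic
open Cfsg.Agent.ChevalleyStructure.TwE6BN
open Cfsg.Agent.ChevalleyStructure.TwistedU
open Cfsg.Agent.ChevalleyStructure.TwistedFix
open Cfsg.Agent.ChevalleyStructure.TwistedFixOrbit
open Cfsg.Agent.TwoESix.LeviA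
open Cfsg.Agent.TwoESix.LeviB
open Cfsg.Agent.TwoESix.LeviC
open Cfsg.Agent.TwoESix.LeviD

universe u

variable {K : Type u} [Field K]

/-- The `ρ`-orbits of positive roots of `L`. -/
def LJ : List (List ℕ) := [[39], [56, 36], [42, 37], [38, 57], [40, 43], [41, 58], [44], [45, 59], [60]]

theorem LJ_sub : ∀ o ∈ LJ, o ∈ TwistedE6U.L := by decide

theorem LJ_flat : ∀ r ∈ LJ.flatten, r ∈ TwistedE6U.L.flatten := by decide

theorem LJ_filter : (TwistedE6U.L.flatten.filter fun r => decide (r ∈ LJ.flatten)) = LJ.flatten := by decide +kernel

theorem LJ_levi : ∀ r : Fin 72, 36 ≤ r.val → (chevE6.InRootSub {j | j ∈ Jn} r.val ↔ r.val ∈ LJ.flatten) := by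
  decide +kernel

theorem LJ_pos : ∀ r ∈ LJ.flatten, r < 72 ∧ 36 ≤ r := by decide

/-- The setup for the positive roots of `L`. -/
theorem setupJ [Fintype K] (φ : K →+* K) :
    Setup (TwistedE6U.X (K := K)) LJ (TwistedE6Sigma.sig GraphSymm.symmE6 φ) TwistedE6Sigma.rho
      TwistedE6Sigma.rho (fun r t => ((TwistedE6Sigma.eps r : ℤ) : K) * φ t) where
  hadd := TwistedE6U.X_add
  nodup := by decide
  good := TwistedE6U.good_of_check (fun r hr => (LJ_pos r hr).1) (by decide +kernel)
  inj := fun t t' h r hr => by
    have h1 := TwistedE6U.lprod_inj (K := K) (fun r => if r ∈ LJ.flatten then t r else 0)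
      (fun r => if r ∈ LJ.flatten then t' r else 0) (by
        rw [lprod_filter TwistedE6U.X_add (fun r => r ∈ LJ.flatten),
          lprod_filter TwistedE6U.X_add (fun r => r ∈ LJ.flatten), LJ_filter]
        exact h) r (LJ_flat r hr)
    rwa [if_pos hr, if_pos hr] at h1
  hσ r hr t := (TwistedE6U.setup φ).hσ r (LJ_flat r hr) t
  perm := by decide +kernel
  comm o ho := (TwistedE6U.setup φ).comm o (LJ_sub o ho)
  left_inv r hr := (TwistedE6U.setup φ).left_inv r (LJ_flat r hr)

section Four

variable [Fintype K] {φ : K →+* K} (F : Four K φ)
include F

/-- `U ∩ L` -/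
theorem U_LL_eq : chevE6.posUnipotent K ⊓ LL K =
    rspan (TwistedE6U.X (K := K)) {k | k ∈ LJ.flatten} ⊓ fixS (TwistedE6Sigma.sig GraphSymm.symmE6 φ) := by
  apply le_antisymm
  · intro g hg
    obtain ⟨h1, h2⟩ := Subgroup.mem_inf.1 hg
    obtain ⟨h3, h4⟩ := Subgroup.mem_inf.1 h2
    refine Subgroup.mem_inf.2 ⟨U_LR_le (fun r hr hr' t => ?_) h1 h3, F.le_fix h4⟩
    exact mem_rspan _ (S := {k | k ∈ LJ.flatten}) ((LJ_levi r hr).1 hr') t
  · intro g hg
    obtain ⟨h1, h2⟩ := Subgroup.mem_inf.1 hg
    have h3 : g ∈ chevE6.posUnipotent K :=
      (rspan_le _ fun r hr t => mem_U (r := ⟨r, (LJ_pos r hr).1⟩) (LJ_pos r hr).2 t :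
        rspan (TwistedE6U.X (K := K)) {k | k ∈ LJ.flatten} ≤ chevE6.posUnipotent K) h1
    have h4 : g ∈ LR K Jn :=
      (rspan_le _ fun r hr t => x_mem_LR ((LJ_levi ⟨r, (LJ_pos r hr).1⟩ (LJ_pos r hr).2).2 hr) t :
        rspan (TwistedE6U.X (K := K)) {k | k ∈ LJ.flatten} ≤ LR K Jn) h1
    exact Subgroup.mem_inf.2 ⟨h3, Subgroup.mem_inf.2 ⟨h4, F.mem_E h3 h2⟩⟩

/-- The fixed field has two elements. -/
theorem card_fixed : Nat.card {t : K // φ t = t} = 2 := by
  classical
  have e : {t : K // φ t = t} ≃ Fin 2 :=
    { toFun := fun t => if t.1 = 0 then 0 else 1
      invFun := fun i => if i = 0 then ⟨0, map_zero φ⟩ else ⟨1, map_one φ⟩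
      left_inv := by
        rintro ⟨t, ht⟩
        rcases zero_or_one F ht with rfl | rfl
        · simp
        · simp
      right_inv := by
        intro i
        (revert i; simp only [_root_.Fin.forall_fin_succ, Fin.isValue, ↓reduceIte, _root_.Fin.succ_ne_zero, _root_.one_ne_zero, _root_.Fin.succ_zero_eq_one, _root_.IsEmpty.forall_iff, _root_.and_self]) }
  rw [Nat.card_congr e, Nat.card_eq_fintype_card, Fintype.card_fin]

/-- The compatible families of coordinates. -/
theorem card_families :
    Nat.card {t : ℕ → K // (∀ r, r ∉ LJ.flatten → t r = 0) ∧
        ∀ r ∈ LJ.flatten, t (TwistedE6Sigma.rho r) = ((TwistedE6Sigma.eps r : ℤ) : K) * φ (t r)} = 2 ^ 15 := by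
  classical
  have := F.charP
  have heps : ∀ r : ℕ, r < 72 → ((TwistedE6Sigma.eps r : ℤ) : K) = 1 := by
    intro r hr
    rcases eps_or ⟨r, hr⟩ with h | h
    · have h' : TwistedE6Sigma.eps r = 1 := h
      rw [h', Int.cast_one]
    · have h' : TwistedE6Sigma.eps r = -1 := h
      rw [h', Int.cast_neg, Int.cast_one, LeviA.neg_eq_self]
  let α := ({t : K // φ t = t} × {t : K // φ t = t} × {t : K // φ t = t}) × (K × K × K × K × K × K)
  let g : α → ℕ → K := fun a r =>
    if r = 39 then a.1.1.1 else if r = 44 then a.1.2.1.1 else if r = 60 then a.1.2.2.1 else
    if r = 56 then a.2.1 else if r = 36 then φ a.2.1 else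
    if r = 42 then a.2.2.1 else if r = 37 then φ a.2.2.1 else
    if r = 38 then a.2.2.2.1 else if r = 57 then φ a.2.2.2.1 else
    if r = 40 then a.2.2.2.2.1 else if r = 43 then φ a.2.2.2.2.1 else
    if r = 41 then a.2.2.2.2.2.1 else if r = 58 then φ a.2.2.2.2.2.1 else
    if r = 45 then a.2.2.2.2.2.2 else if r = 59 then φ a.2.2.2.2.2.2 else 0
  have hflat : LJ.flatten = [39, 56, 36, 42, 37, 38, 57, 40, 43, 41, 58, 44, 45, 59, 60] := by decide
  have hg1 : ∀ a r, r ∉ LJ.flatten → g a r = 0 := by
    intro a r hr
    rw [hflat] at hr
    simp only [List.mem_cons, List.not_mem_nil, or_false, not_or] at hr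
    obtain ⟨h1, h2, h3, h4, h5, h6, h7, h8, h9, h10, h11, h12, h13, h14, h15⟩ := hr
    show (if r = 39 then _ else _) = _
    rw [if_neg h1, if_neg h12, if_neg h15, if_neg h2, if_neg h3, if_neg h4, if_neg h5, if_neg h6, if_neg h7,
      if_neg h8, if_neg h9, if_neg h10, if_neg h11, if_neg h13, if_neg h14]
  have hg2 : ∀ a, ∀ r ∈ LJ.flatten, g a (TwistedE6Sigma.rho r) = ((TwistedE6Sigma.eps r : ℤ) : K) * φ (g a r) := by
    intro a r hr
    rw [heps r (LJ_pos r hr).1, one_mul]
    have c39 := a.1.1.2
    have c44 := a.1.2.1.2
    have c60 := a.1.2.2.2
    rw [hflat] at hr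
    simp only [List.mem_cons, List.not_mem_nil, or_false] at hr
    rcases hr with rfl | rfl | rfl | rfl | rfl | rfl | rfl | rfl | rfl | rfl | rfl | rfl | rfl | rfl | rfl
    · rw [show TwistedE6Sigma.rho 39 = 39 by decide +kernel]; exact c39.symm
    · rw [show TwistedE6Sigma.rho 56 = 36 by decide +kernel]; rfl
    · rw [show TwistedE6Sigma.rho 36 = 56 by decide +kernel]; exact (F.inv _).symm
    · rw [show TwistedE6Sigma.rho 42 = 37 by decide +kernel]; rfl
    · rw [show TwistedE6Sigma.rho 37 = 42 by decide +kernel]; exact (F.inv _).symm
    · rw [show TwistedE6Sigma.rho 38 = 57 by decide +kernel]; rfl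
    · rw [show TwistedE6Sigma.rho 57 = 38 by decide +kernel]; exact (F.inv _).symm
    · rw [show TwistedE6Sigma.rho 40 = 43 by decide +kernel]; rfl
    · rw [show TwistedE6Sigma.rho 43 = 40 by decide +kernel]; exact (F.inv _).symm
    · rw [show TwistedE6Sigma.rho 41 = 58 by decide +kernel]; rfl
    · rw [show TwistedE6Sigma.rho 58 = 41 by decide +kernel]; exact (F.inv _).symm
    · rw [show TwistedE6Sigma.rho 44 = 44 by decide +kernel]; exact c44.symm
    · rw [show TwistedE6Sigma.rho 45 = 59 by decide +kernel]; rfl
    · rw [show TwistedE6Sigma.rho 59 = 45 by decide +kernel]; exact (F.inv _).symm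
    · rw [show TwistedE6Sigma.rho 60 = 60 by decide +kernel]; exact c60.symm
  have key : Function.Bijective (fun a : α => (⟨g a, hg1 a, hg2 a⟩ :
      {t : ℕ → K // (∀ r, r ∉ LJ.flatten → t r = 0) ∧
        ∀ r ∈ LJ.flatten, t (TwistedE6Sigma.rho r) = ((TwistedE6Sigma.eps r : ℤ) : K) * φ (t r)})) := by
    constructor
    · intro a b hab
      have h : g a = g b := congrArg Subtype.val hab
      obtain ⟨⟨a1, a2, a3⟩, a4, a5, a6, a7, a8, a9⟩ := a
      obtain ⟨⟨b1, b2, b3⟩, b4, b5, b6, b7, b8, b9⟩ := b
      have e1 : a1 = b1 := Subtype.ext (congrFun h 39)
      have e2 : a2 = b2 := Subtype.ext (congrFun h 44)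
      have e3 : a3 = b3 := Subtype.ext (congrFun h 60)
      have e4 : a4 = b4 := congrFun h 56
      have e5 : a5 = b5 := congrFun h 42
      have e6 : a6 = b6 := congrFun h 38
      have e7 : a7 = b7 := congrFun h 40
      have e8 : a8 = b8 := congrFun h 41
      have e9 : a9 = b9 := congrFun h 45
      rw [e1, e2, e3, e4, e5, e6, e7, e8, e9]
    · rintro ⟨t, ht0, ht⟩
      have hc : ∀ r ∈ LJ.flatten, t (TwistedE6Sigma.rho r) = φ (t r) := by
        intro r hr
        rw [ht r hr, heps r (LJ_pos r hr).1, one_mul]
      have c39 : φ (t 39) = t 39 := by
        rw [← hc 39 (by decide), show TwistedE6Sigma.rho 39 = 39 by decide +kernel]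
      have c44 : φ (t 44) = t 44 := by
        rw [← hc 44 (by decide), show TwistedE6Sigma.rho 44 = 44 by decide +kernel]
      have c60 : φ (t 60) = t 60 := by
        rw [← hc 60 (by decide), show TwistedE6Sigma.rho 60 = 60 by decide +kernel]
      refine ⟨((⟨t 39, c39⟩, ⟨t 44, c44⟩, ⟨t 60, c60⟩), (t 56, t 42, t 38, t 40, t 41, t 45)), ?_⟩
      apply Subtype.ext
      funext r
      show g _ r = t r
      by_cases hr : r ∈ LJ.flatten
      · have hr' := hr
        rw [hflat] at hr
        simp only [List.mem_cons, List.not_mem_nil, or_false] at hr
        rcases hr with rfl | rfl | rfl | rfl | rfl | rfl | rfl | rfl | rfl | rfl | rfl | rfl | rfl | rfl | rfl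
        · rfl
        · rfl
        · have := hc 56 (by decide); rw [show TwistedE6Sigma.rho 56 = 36 by decide +kernel] at this; exact this.symm
        · rfl
        · have := hc 42 (by decide); rw [show TwistedE6Sigma.rho 42 = 37 by decide +kernel] at this; exact this.symm
        · rfl
        · have := hc 38 (by decide); rw [show TwistedE6Sigma.rho 38 = 57 by decide +kernel] at this; exact this.symm
        · rfl
        · have := hc 40 (by decide); rw [show TwistedE6Sigma.rho 40 = 43 by decide +kernel] at this; exact this.symm
        · rfl
        · have := hc 41 (by decide); rw [show TwistedE6Sigma.rho 41 = 58 by decide +kernel] at this; exact this.symm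
        · rfl
        · rfl
        · have := hc 45 (by decide); rw [show TwistedE6Sigma.rho 45 = 59 by decide +kernel] at this; exact this.symm
        · rfl
      · rw [hg1 _ r hr, ht0 r hr]
  rw [← Nat.card_congr (Equiv.ofBijective _ key)]
  show Nat.card (({t : K // φ t = t} × {t : K // φ t = t} × {t : K // φ t = t}) × (K × K × K × K × K × K)) = _
  simp only [Nat.card_prod, card_fixed F, Nat.card_eq_fintype_card (α := K), F.card]
  norm_num

theorem card_U : Nat.card ↥(chevE6.posUnipotent K ⊓ LL K) = 2 ^ 15 := by
  rw [U_LL_eq F, (setupJ φ).card_fix, card_families F]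

/-- `H ∩ E` has exponent three. -/
theorem H_cube {h : GL chevE6.Idx K} (hh : h ∈ chevE6.diagonalSubgroup K) (hE : h ∈ twistedE6 K 2) : h ^ 3 = 1 := by
  have h1 := E6H1.H1_eq (K := K) (q := 2) (φ := φ) (by rw [F.card]; norm_num) F.sq simpleDiag diag_eq
  have h2 : h ∈ (E6H1.fA φ).range := h1 ▸ Subgroup.mem_inf.2 ⟨hh, hE⟩
  obtain ⟨c, rfl⟩ := h2
  rw [← map_pow]
  have h3 : c ^ 3 = 1 := by
    apply Subtype.ext
    funext i
    exact cube_units F (c.1 i)
  rw [h3, map_one]

/-- `U ∩ L` as a subgroup of `L` -/
theorem card_U' : Nat.card ↥((chevE6.posUnipotent K).subgroupOf (LL K)) = 2 ^ 15 := by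
  rw [← card_U F, ← Subgroup.inf_subgroupOf_right]
  exact Nat.card_congr (Subgroup.subgroupOfEquivOfLe inf_le_right).toEquiv

/-- **The `2`-part of `|L|` is `2¹⁵`.** -/
theorem factorization_LL : (Nat.card ↥(LL K)).factorization 2 = 15 := by
  classical
  have hfin : Finite ↥(LL K) := inferInstance
  have hp : Fact (Nat.Prime 2) := ⟨Nat.prime_two⟩
  set S : Subgroup ↥(LL K) := (chevE6.posUnipotent K).subgroupOf (LL K) with hS
  have hcard : Nat.card S = 2 ^ 15 := card_U' F
  obtain ⟨P, hB, hPS, -⟩ := exists_bnL F
  -- the normaliser of `S`
  have hBN : P.B ≤ Subgroup.normalizer (S : Set ↥(LL K)) := by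
    rw [hB]
    intro b hb
    obtain ⟨u, hu, huL, h, hh, hhL, e⟩ := ((TL F).mem_B_iff _ b.2).1 (Subgroup.mem_subgroupOf.1 hb)
    have huN : (⟨u, huL⟩ : ↥(LL K)) ∈ Subgroup.normalizer (S : Set ↥(LL K)) :=
      Subgroup.le_normalizer (Subgroup.mem_subgroupOf.2 hu)
    have hhN : (⟨h, hhL⟩ : ↥(LL K)) ∈ Subgroup.normalizer (S : Set ↥(LL K)) := by
      rw [Subgroup.mem_normalizer_iff]
      intro y
      constructor
      · intro hy
        exact Subgroup.mem_subgroupOf.2 ((TL F).conj_H_U h hh _ (Subgroup.mem_subgroupOf.1 hy))
      · intro hy
        have h1 := (TL F).conj_H_U h⁻¹ (inv_mem hh) _ (Subgroup.mem_subgroupOf.1 hy)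
        apply Subgroup.mem_subgroupOf.2
        have e2 : (y : GL chevE6.Idx K) =
            h⁻¹ * (((⟨h, hhL⟩ : ↥(LL K)) * y * (⟨h, hhL⟩ : ↥(LL K))⁻¹ : ↥(LL K)) : GL chevE6.Idx K) * h⁻¹⁻¹ := by
          show (y : GL chevE6.Idx K) = h⁻¹ * (h * y * h⁻¹) * h⁻¹⁻¹
          group
        rw [e2]
        exact h1
    have e2 : b = (⟨u, huL⟩ : ↥(LL K)) * ⟨h, hhL⟩ := Subtype.ext e
    rw [e2]
    exact mul_mem huN hhN
  have hN := Cfsg.Agent.LieExceptional.BNPairCore.eq_parabolic hBN
  have hNB : Subgroup.normalizer (S : Set ↥(LL K)) ≤ P.B := by
    rw [hN]
    refine sup_le le_rfl ((Subgroup.closure_le _).2 ?_)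
    rintro m ⟨hm, hm'⟩
    exfalso
    rw [hPS] at hm
    obtain ⟨i, rfl⟩ := hm
    obtain ⟨y, hy, hyL, hyn⟩ := (TL F).not_le i
    apply hyn
    have h1 := (Subgroup.mem_normalizer_iff.1 hm' ⟨y, hyL⟩).1 (Subgroup.mem_subgroupOf.2 hy)
    exact U_le_B (Subgroup.mem_subgroupOf.1 h1)
  -- a Sylow `2`-subgroup containing `S`
  have hpS : IsPGroup 2 S := IsPGroup.of_card hcard
  obtain ⟨Q, hQ⟩ := hpS.exists_le_sylow
  have hSQ : (Q : Subgroup ↥(LL K)) = S := by
    by_contra hne
    have hlt : S < (Q : Subgroup ↥(LL K)) := lt_of_le_of_ne hQ (Ne.symm hne)
    -- normaliser condition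
    have hnil : Group.IsNilpotent (Q : Subgroup ↥(LL K)) := Q.isPGroup'.isNilpotent
    have hnc := Group.normalizerCondition_of_isNilpotent (G := (Q : Subgroup ↥(LL K)))
    have hlt' : S.subgroupOf (Q : Subgroup ↥(LL K)) < ⊤ := by
      rw [lt_top_iff_ne_top]
      intro h
      exact hne (le_antisymm (Subgroup.subgroupOf_eq_top.1 h) hQ)
    have h1 := hnc _ hlt'
    obtain ⟨g, hg, hgS⟩ := SetLike.exists_of_lt h1
    have hgN : (g : ↥(LL K)) ∈ Subgroup.normalizer (S : Set ↥(LL K)) := by
      rw [Subgroup.mem_normalizer_iff] at hg ⊢
      intro y
      constructor
      · intro hy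
        exact (hg ⟨y, hQ hy⟩).1 hy
      · intro hy
        have hyQ : y ∈ (Q : Subgroup ↥(LL K)) := by
          have h2 : (g : ↥(LL K))⁻¹ * ((g : ↥(LL K)) * y * (g : ↥(LL K))⁻¹) * (g : ↥(LL K)) ∈
              (Q : Subgroup ↥(LL K)) := mul_mem (mul_mem (inv_mem g.2) (hQ hy)) g.2
          have e : (g : ↥(LL K))⁻¹ * ((g : ↥(LL K)) * y * (g : ↥(LL K))⁻¹) * (g : ↥(LL K)) = y := by group
          rwa [e] at h2
        exact (hg ⟨y, hyQ⟩).2 hy
    apply hgS
    show (g : ↥(LL K)) ∈ S
    have hgB := hNB hgN
    rw [hB] at hgB
    obtain ⟨u, hu, huL, h, hh, hhL, e⟩ := ((TL F).mem_B_iff _ (g : ↥(LL K)).2).1 (Subgroup.mem_subgroupOf.1 hgB)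
    -- `g ^ 3 ∈ S`
    have h3 : (g : ↥(LL K)) ^ 3 ∈ S := by
      apply Subgroup.mem_subgroupOf.2
      have e3 : (((g : ↥(LL K)) ^ 3 : ↥(LL K)) : GL chevE6.Idx K) =
          u * (h * u * h⁻¹) * (h ^ 2 * u * (h ^ 2)⁻¹) * h ^ 3 := by
        have e4 : ((g : ↥(LL K)) : GL chevE6.Idx K) = u * h := e
        rw [Subgroup.coe_pow, e4, pow_three]
        group
      rw [e3, H_cube F hh (Subgroup.mem_inf.1 hhL).2, mul_one]
      exact mul_mem (mul_mem hu ((TL F).conj_H_U h hh _ hu)) ((TL F).conj_H_U _ (pow_mem hh 2) _ hu)
    obtain ⟨k, hk⟩ := Q.isPGroup' g
    have hk' : (g : ↥(LL K)) ^ 2 ^ k = 1 := by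
      have h7 := congrArg (fun x : ↥(Q : Subgroup ↥(LL K)) => (x : ↥(LL K))) hk
      simpa only [_root_.SubmonoidClass.coe_pow, _root_.OneMemClass.coe_one] using h7
    have hcop : Nat.Coprime (2 ^ k) 3 := Nat.Coprime.pow_left k (by norm_num)
    have h5 : (g : ↥(LL K)) ∈ Subgroup.zpowers ((g : ↥(LL K)) ^ 3) := by
      rw [mem_zpowers_pow_iff]
      exact Nat.Coprime.coprime_dvd_right (orderOf_dvd_of_pow_eq_one hk') hcop.symm
    exact (Subgroup.zpowers_le.2 h3) h5
  have h6 : Nat.card (Q : Subgroup ↥(LL K)) = 2 ^ (Nat.card ↥(LL K)).factorization 2 := Q.card_eq_multiplicity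
  rw [hSQ, hcard] at h6
  exact (Nat.pow_right_injective le_rfl h6).symm

end Four

end Cfsg.Agent.TwoESix.LeviCard
end

-- part: TwoESix/LeviF
section
set_option linter.all false
open scoped Cfsg.Agent.FastGrp

/-!
# ²E₆(2): the map from the centraliser of a root involution onto the Levi subgroup, and `PSU(6, 2)`
-/

set_option autoImplicit false
set_option linter.unusedSectionVars false

namespace Cfsg.Agent.TwoESix.LeviF

open Cfsg Cfsg.Lie
open Cfsg.Agent.ChevalleyStructure
open Cfsg.Agent.ChevalleyStructure.Elts hiding x_add x_zero x_eq_one_iff
open Cfsg.Agent.ChevalleyStructure.TwE6Basic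
open Cfsg.Agent.ChevalleyStructure.TwE6BN
open Cfsg.Agent.TwoESix.LeviA
open Cfsg.Agent.TwoESix.LeviB
open Cfsg.Agent.TwoESix.LeviC
open Cfsg.Agent.TwoESix.LeviD
open Cfsg.Agent.TwoESix.LeviE
open Cfsg.Agent.TwoESix.LongPairs
open Cfsg.Agent.R01.PSUSix

universe u

variable {K : Type u} [Field K] [Fintype K] {φ : K →+* K} (F : Four K φ)
include F

/-- A fixed root element as an element of `E`. -/
def xE (r : Fin 72) (hr : rho r = r) : ↥(twistedE6 K 2) := ⟨x r.val 1, x_mem_E F hr⟩

/-- `x_71(1)`, `x_0(1)`, `x_70(1)`, `x_60(1)`, `x_25(1)` as elements of `E` -/
def r0 : ↥(twistedE6 K 2) := xE F 71 (by decide +kernel)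
def s0 : ↥(twistedE6 K 2) := xE F 0 (by decide +kernel)
def p70 : ↥(twistedE6 K 2) := xE F 70 (by decide +kernel)
def p60 : ↥(twistedE6 K 2) := xE F 60 (by decide +kernel)
def p25 : ↥(twistedE6 K 2) := xE F 25 (by decide +kernel)

theorem r0_sq : r0 F * r0 F = 1 := by
  have := F.charP
  exact Subtype.ext (x_sq 71)

theorem r0_ne : r0 F ≠ 1 := fun h => x_ne_one (K := K) (r := 71) (by norm_num) (congrArg Subtype.val h)

/-- pairs -/
theorem pair (g : ↥(twistedE6 K 2)) : ∃ b : ↥(twistedE6 K 2), b * r0 F = r0 F * b ∧
    (b * (g * r0 F * g⁻¹) * b⁻¹ = r0 F ∨ b * (g * r0 F * g⁻¹) * b⁻¹ = p70 F ∨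
      b * (g * r0 F * g⁻¹) * b⁻¹ = p60 F ∨ b * (g * r0 F * g⁻¹) * b⁻¹ = p25 F ∨
      b * (g * r0 F * g⁻¹) * b⁻¹ = s0 F) := by
  obtain ⟨b, hb, h1, γ, hγ, h2⟩ := pair5 F g.2
  refine ⟨⟨b, hb⟩, Subtype.ext (mul_inv_eq_iff_eq_mul.1 h1), ?_⟩
  simp only [List.mem_cons, List.not_mem_nil, or_false] at hγ
  rcases hγ with rfl | rfl | rfl | rfl | rfl
  · exact Or.inl (Subtype.ext h2)
  · exact Or.inr (Or.inl (Subtype.ext h2))
  · exact Or.inr (Or.inr (Or.inl (Subtype.ext h2)))
  · exact Or.inr (Or.inr (Or.inr (Or.inl (Subtype.ext h2))))
  · exact Or.inr (Or.inr (Or.inr (Or.inr (Subtype.ext h2))))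

/-- Fixed root elements are conjugate. -/
theorem xE_conj (r : Fin 72) (hr : rho r = r) : ∃ g : ↥(twistedE6 K 2), xE F r hr = g * r0 F * g⁻¹ := by
  have := F.charP
  obtain ⟨w, -, rfl⟩ := exists_fixW r hr
  refine ⟨⟨wn w, wn_mem F w⟩, Subtype.ext ?_⟩
  exact (wn_conj w 71 1).symm

theorem s0_conj : ∃ g, s0 F = g * r0 F * g⁻¹ := xE_conj F 0 _
theorem p60_conj : ∃ g, p60 F = g * r0 F * g⁻¹ := xE_conj F 60 _

theorem p70_comm : p70 F * r0 F = r0 F * p70 F := by
  have := F.charP
  exact Subtype.ext (comm70 (K := K)).symm

theorem p60_comm : p60 F * r0 F = r0 F * p60 F := by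
  have := F.charP
  exact Subtype.ext (comm60 (K := K)).symm

theorem sq_r0_p25 : (r0 F * p25 F) ^ 2 ≠ 1 := by
  have := F.charP
  intro h
  have h1 : (x 71 (1 : K) * x 25 1) ^ 2 = 1 := congrArg Subtype.val h
  rw [sq25] at h1
  exact x_ne_one (K := K) (r := 70) (by norm_num) h1

theorem four_r0_p25 : (r0 F * p25 F) ^ 4 = 1 := by
  have := F.charP
  apply Subtype.ext
  show (x 71 (1 : K) * x 25 1) ^ 4 = 1
  have e : (x 71 (1 : K) * x 25 1) ^ 4 = ((x 71 (1 : K) * x 25 1) ^ 2) ^ 2 := by rw [← pow_mul]
  rw [e, sq25, pow_two, x_sq]

theorem r0_ne_s0 : r0 F ≠ s0 F := fun h =>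
  x_ne (K := K) (r := 71) (s := 0) (by norm_num) (by norm_num) (by norm_num) (congrArg Subtype.val h)

theorem cube_r0_s0 : (r0 F * s0 F) ^ 3 = 1 := by
  have := F.charP
  exact Subtype.ext cube0

/-! ### The map onto the Levi subgroup -/

theorem mem_PR_of_cent (g : ↥(Subgroup.centralizer ({r0 F} : Set ↥(twistedE6 K 2)))) :
    ((g : ↥(twistedE6 K 2)) : GL chevE6.Idx K) ∈ PR K Jn :=
  (cent_top F g.1.2).1 (congrArg Subtype.val (Subgroup.mem_centralizer_singleton_iff.1 g.2))

theorem lv_mem_LL {g : GL chevE6.Idx K} (hg : g ∈ PR K Jn) (hE : g ∈ twistedE6 K 2) : lv Jn g ∈ LL K := by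
  obtain ⟨u, hu, -, l, hl, hlE, rfl⟩ := F.decomp stable_Jn hg hE
  rw [lv_eq hu hl]
  exact Subgroup.mem_inf.2 ⟨hl, hlE⟩

/-- The map of the centraliser of `r0` onto the Levi subgroup. -/
noncomputable def lvHom : ↥(Subgroup.centralizer ({r0 F} : Set ↥(twistedE6 K 2))) →* ↥(LL K) where
  toFun g := ⟨lv Jn ((g : ↥(twistedE6 K 2)) : GL chevE6.Idx K), lv_mem_LL F (mem_PR_of_cent F g) g.1.2⟩
  map_one' := Subtype.ext (lv_of_UR (one_mem _))
  map_mul' a b := Subtype.ext (lv_mul (mem_PR_of_cent F a) (mem_PR_of_cent F b))

/-- the kernel is a `2`-group -/
theorem lvHom_ker {g : ↥(Subgroup.centralizer ({r0 F} : Set ↥(twistedE6 K 2)))} (h : lvHom F g = 1) :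
    ∃ k : ℕ, g ^ 2 ^ k = 1 := by
  have h1 : ((g : ↥(twistedE6 K 2)) : GL chevE6.Idx K) ∈ UR K Jn :=
    mem_UR_of_lv (mem_PR_of_cent F g) (congrArg Subtype.val h)
  obtain ⟨k, hk⟩ := isPGroup_U F ⟨_, UR_le_U h1⟩
  refine ⟨k, Subtype.ext (Subtype.ext ?_)⟩
  have := congrArg Subtype.val hk
  simpa using this

/-- an element commuting with `r0` and `s0` is its own Levi component -/
theorem lvHom_of_comm {g : ↥(Subgroup.centralizer ({r0 F} : Set ↥(twistedE6 K 2)))}
    (h : (g : ↥(twistedE6 K 2)) * s0 F = s0 F * g) :
    (lvHom F g : GL chevE6.Idx K) = ((g : ↥(twistedE6 K 2)) : GL chevE6.Idx K) := by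
  refine lv_of_LR ((cent_pair F g.1.2).1 ⟨?_, congrArg Subtype.val h⟩)
  exact congrArg Subtype.val (Subgroup.mem_centralizer_singleton_iff.1 g.2)

/-- the elements of the Levi subgroup as elements of the centraliser -/
theorem exists_of_LL (l : ↥(LL K)) : ∃ g : ↥(Subgroup.centralizer ({r0 F} : Set ↥(twistedE6 K 2))),
    (g : ↥(twistedE6 K 2)) * s0 F = s0 F * g ∧ lvHom F g = l := by
  have hE : (l : GL chevE6.Idx K) ∈ twistedE6 K 2 := (Subgroup.mem_inf.1 l.2).2
  have h := (cent_pair F hE).2 (Subgroup.mem_inf.1 l.2).1
  have hs : (⟨l, hE⟩ : ↥(twistedE6 K 2)) * s0 F = s0 F * ⟨l, hE⟩ := Subtype.ext h.2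
  have hr : (⟨l, hE⟩ : ↥(twistedE6 K 2)) * r0 F = r0 F * ⟨l, hE⟩ := Subtype.ext h.1
  refine ⟨⟨⟨l, hE⟩, Subgroup.mem_centralizer_singleton_iff.2 hr⟩, hs, Subtype.ext ?_⟩
  exact lv_of_LR (Subgroup.mem_inf.1 l.2).1

theorem lvHom_p70 (h : p70 F ∈ Subgroup.centralizer ({r0 F} : Set ↥(twistedE6 K 2))) :
    lvHom F ⟨p70 F, h⟩ = 1 :=
  Subtype.ext (lv_of_UR (x_mem_UR (r := 70) (by decide) (by decide +kernel) 1))

theorem lvHom_p60 (h : p60 F ∈ Subgroup.centralizer ({r0 F} : Set ↥(twistedE6 K 2))) :
    lvHom F ⟨p60 F, h⟩ = d0 F :=
  Subtype.ext (lv_of_LR (x_mem_LR (r := 60) (by decide +kernel) 1))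

/-- the elements of the class `DD` are root involutions of `E` -/
theorem DD_root {l : ↥(LL K)} (h : l ∈ DD F) {g : ↥(twistedE6 K 2)}
    (hg : (l : GL chevE6.Idx K) = (g : GL chevE6.Idx K)) : ∃ c, g = c * r0 F * c⁻¹ := by
  obtain ⟨c, rfl⟩ := (mem_DD F).1 h
  obtain ⟨a, ha⟩ := p60_conj F
  refine ⟨⟨c, (Subgroup.mem_inf.1 c.2).2⟩ * a, Subtype.ext ?_⟩
  have h1 : x 60 (1 : K) = (a : GL chevE6.Idx K) * x 71 1 * (a : GL chevE6.Idx K)⁻¹ := congrArg Subtype.val ha
  have h2 : (g : GL chevE6.Idx K) = (c : GL chevE6.Idx K) * x 60 1 * (c : GL chevE6.Idx K)⁻¹ := hg.symm
  show (g : GL chevE6.Idx K) = (c : GL chevE6.Idx K) * (a : GL chevE6.Idx K) * x 71 1 *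
    ((c : GL chevE6.Idx K) * (a : GL chevE6.Idx K))⁻¹
  rw [h2, h1]
  group

section Chart

variable {F' : Type*} [Field F'] [Fintype F'] (hF' : Fintype.card F' = 2 ^ 2)

/-- The recognition of the Levi subgroup. -/
theorem exists_e (h15 : (Nat.card ↥(LL K)).factorization 2 = 15) :
    ∃ e : ↥(LL K) ≃* PSU 6 F' 2, ∀ g, g ∈ DD F ↔ e g ∈ TT hF' 6 := by
  have hs := (simple_LL F).1
  have hfin : Finite ↥(LL K) := inferInstance
  exact RecSix.exists_equiv_of_simple (commutator_LL F) (isClass F) (d0_mem F) (pCore_not_central F) h15 hF'

end Chart

end Cfsg.Agent.TwoESix.LeviF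
end

-- part: TwoESix/LeviG
section
prune_inst 0x24203c0400221000000005820300200444000192006b0001196003400306536100042f417ca01b1291282a20200a8048110001d9421000000a008a0040000000042a50461300b10420000080f884000000000000000000000000000000041004000000000
set_option linter.all false
open scoped Cfsg.Agent.FastGrp

/-!
# ²E₆(2): `RootFacts` for the class of root involutions
-/

set_option autoImplicit false
set_option linter.unusedSectionVars false

namespace Cfsg.Agent.TwoESix.LeviG

open Cfsg Cfsg.Agent.R01.PSUSix Cfsg.Agent.BabyU Cfsg.Agent.BabyU.RootCfg

section Abstract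

variable {E : Type*} [Group E] {F : Type*} [Field F] [Fintype F]

/-- The facts at one root involution `r0` and one opposite root involution `s0`. -/
structure Base (hF : Fintype.card F = 2 ^ 2) (r0 s0 p70 p60 p25 : E)
    (ψ : ↥(Subgroup.centralizer ({r0} : Set E)) →* PSU 6 F 2) : Prop where
  sq : r0 * r0 = 1
  ne : r0 ≠ 1
  pair : ∀ g : E, ∃ b : E, b * r0 = r0 * b ∧ (b * (g * r0 * g⁻¹) * b⁻¹ = r0 ∨ b * (g * r0 * g⁻¹) * b⁻¹ = p70 ∨
    b * (g * r0 * g⁻¹) * b⁻¹ = p60 ∨ b * (g * r0 * g⁻¹) * b⁻¹ = p25 ∨ b * (g * r0 * g⁻¹) * b⁻¹ = s0)
  c70 : p70 * r0 = r0 * p70
  c60 : p60 * r0 = r0 * p60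
  s0c : ∃ g, s0 = g * r0 * g⁻¹
  n25 : (r0 * p25) ^ 2 ≠ 1
  q25 : (r0 * p25) ^ 4 = 1
  nes : r0 ≠ s0
  cub : (r0 * s0) ^ 3 = 1
  ψ0 : ∀ h, ψ ⟨r0, h⟩ = 1
  ψ70 : ∀ h, ψ ⟨p70, h⟩ = 1
  ψ60 : ∀ h, ψ ⟨p60, h⟩ ∈ TT hF 6
  ker : ∀ x, ψ x = 1 → ∃ k : ℕ, x ^ 2 ^ k = 1
  surj0 : ∀ u, ∃ x : ↥(Subgroup.centralizer ({r0} : Set E)), (x : E) * s0 = s0 * x ∧ ψ x = u
  inj0 : ∀ x : ↥(Subgroup.centralizer ({r0} : Set E)), (x : E) * s0 = s0 * x → ψ x = 1 → x = 1
  back0 : ∀ x : ↥(Subgroup.centralizer ({r0} : Set E)), (x : E) * s0 = s0 * x → ψ x ∈ TT hF 6 →
    ∃ g, (x : E) = g * r0 * g⁻¹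

theorem TT_conj {hF : Fintype.card F = 2 ^ 2} {x : PSU 6 F 2} (hx : x ∈ TT hF 6) (u : PSU 6 F 2) :
    u * x * u⁻¹ ∈ TT hF 6 := by
  obtain ⟨-, ⟨d, hd, hDd⟩, -⟩ := isThreeTranspositionClass_TT (F := F) hF (n := 6) (by norm_num)
  rw [hDd] at hx ⊢
  have hx' : IsConj d x := hx
  exact hx'.trans (isConj_iff.2 ⟨u, rfl⟩)

/-- conjugation between centralisers -/
def cc (g r0 : E) : ↥(Subgroup.centralizer ({g * r0 * g⁻¹} : Set E)) →* ↥(Subgroup.centralizer ({r0} : Set E)) where
  toFun x := ⟨g⁻¹ * x * g, by
    have h := Subgroup.mem_centralizer_singleton_iff.1 x.2
    rw [Subgroup.mem_centralizer_singleton_iff]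
    calc g⁻¹ * (x : E) * g * r0 = g⁻¹ * ((x : E) * (g * r0 * g⁻¹)) * g := by group
      _ = g⁻¹ * ((g * r0 * g⁻¹) * (x : E)) * g := by rw [h]
      _ = _ := by group⟩
  map_one' := Subtype.ext (by show g⁻¹ * (1 : E) * g = 1; group)
  map_mul' a b := Subtype.ext (by
    show g⁻¹ * ((a : E) * (b : E)) * g = g⁻¹ * (a : E) * g * (g⁻¹ * (b : E) * g)
    group)

theorem coe_cc (g r0 : E) (x : ↥(Subgroup.centralizer ({g * r0 * g⁻¹} : Set E))) :
    (cc g r0 x : E) = g⁻¹ * x * g := rfl

variable {hF : Fintype.card F = 2 ^ 2} {r0 s0 p70 p60 p25 : E}
  {ψ : ↥(Subgroup.centralizer ({r0} : Set E)) →* PSU 6 F 2}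

namespace Base

variable (B : Base hF r0 s0 p70 p60 p25 ψ)
include B

theorem sq_conj (g : E) : (g * r0 * g⁻¹) * (g * r0 * g⁻¹) = 1 := by
  have e : (g * r0 * g⁻¹) * (g * r0 * g⁻¹) = g * (r0 * r0) * g⁻¹ := by group
  rw [e, B.sq, mul_one, mul_inv_cancel]

/-- the product with `r0`, transported -/
theorem prod_eq {b h : E} (hb : b * r0 = r0 * b) : b * (r0 * (h * r0 * h⁻¹)) * b⁻¹ = r0 * (b * (h * r0 * h⁻¹) * b⁻¹) := by
  calc b * (r0 * (h * r0 * h⁻¹)) * b⁻¹ = (b * r0) * (h * r0 * h⁻¹) * b⁻¹ := by group
    _ = _ := by rw [hb]; group

theorem pow_iff {b h p : E} (hb : b * r0 = r0 * b) (hp : b * (h * r0 * h⁻¹) * b⁻¹ = p) (n : ℕ) :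
    (r0 * (h * r0 * h⁻¹)) ^ n = 1 ↔ (r0 * p) ^ n = 1 := by
  rw [← hp, ← B.prod_eq hb, conj_pow, mul_inv_eq_one]
  constructor
  · intro h1; rw [h1, mul_one]
  · intro h1; exact mul_eq_left.1 h1

theorem sq_of_comm {b h p : E} (hp : b * (h * r0 * h⁻¹) * b⁻¹ = p) (hc : p * r0 = r0 * p) : (r0 * p) ^ 2 = 1 := by
  have h1 : p * p = 1 := by
    rw [← hp]
    have e : b * (h * r0 * h⁻¹) * b⁻¹ * (b * (h * r0 * h⁻¹) * b⁻¹) = (b * h) * (r0 * r0) * (b * h)⁻¹ := by group
    rw [e, B.sq, mul_one, mul_inv_cancel]
  calc (r0 * p) ^ 2 = r0 * (p * r0) * p := by rw [pow_two]; group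
    _ = (r0 * r0) * (p * p) := by rw [hc]; group
    _ = 1 := by rw [B.sq, h1, one_mul]

/-- an opposite conjugate is conjugate to `s0` under the centraliser of `r0` -/
theorem opp_of {h : E} (hne : r0 ≠ h * r0 * h⁻¹) (h3 : (r0 * (h * r0 * h⁻¹)) ^ 3 = 1) :
    ∃ b : E, b * r0 = r0 * b ∧ b * (h * r0 * h⁻¹) * b⁻¹ = s0 := by
  obtain ⟨b, hb, hp⟩ := B.pair h
  refine ⟨b, hb, ?_⟩
  have hne' : ∀ p, b * (h * r0 * h⁻¹) * b⁻¹ = p → (r0 * p) ^ 2 = 1 → False := by
    intro p hp h2
    have h3' : (r0 * p) ^ 3 = 1 := (B.pow_iff hb hp 3).1 h3
    rw [pow_succ, h2, one_mul] at h3'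
    have h4 : (r0 * (h * r0 * h⁻¹)) ^ 1 = 1 := (B.pow_iff hb hp 1).2 (by rw [pow_one]; exact h3')
    rw [pow_one] at h4
    apply hne
    have h5 : r0⁻¹ = r0 := inv_eq_of_mul_eq_one_left B.sq
    rw [← inv_eq_of_mul_eq_one_right h4, h5]
  rcases hp with hp | hp | hp | hp | hp
  · exact (hne' _ hp (B.sq_of_comm hp rfl)).elim
  · exact (hne' _ hp (B.sq_of_comm hp B.c70)).elim
  · exact (hne' _ hp (B.sq_of_comm hp B.c60)).elim
  · exfalso
    have h3' : (r0 * p25) ^ 3 = 1 := (B.pow_iff hb hp 3).1 h3
    have h4 := B.q25
    rw [pow_succ, h3', one_mul] at h4
    apply B.n25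
    rw [h4, one_pow]
  · exact hp

theorem root_of {h : E} (hm : h * r0 * h⁻¹ ∈ Subgroup.centralizer ({r0} : Set E)) :
    ψ ⟨h * r0 * h⁻¹, hm⟩ = 1 ∨ ψ ⟨h * r0 * h⁻¹, hm⟩ ∈ TT hF 6 := by
  obtain ⟨b, hb, hp⟩ := B.pair h
  have hbm : b ∈ Subgroup.centralizer ({r0} : Set E) := Subgroup.mem_centralizer_singleton_iff.2 hb
  have hpm : b * (h * r0 * h⁻¹) * b⁻¹ ∈ Subgroup.centralizer ({r0} : Set E) :=
    mul_mem (mul_mem hbm hm) (inv_mem hbm)
  have hψ : ψ ⟨b * (h * r0 * h⁻¹) * b⁻¹, hpm⟩ = ψ ⟨b, hbm⟩ * ψ ⟨h * r0 * h⁻¹, hm⟩ * (ψ ⟨b, hbm⟩)⁻¹ := by
    rw [← map_inv, ← map_mul, ← map_mul]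
    rfl
  have hψ' : ψ ⟨h * r0 * h⁻¹, hm⟩ = (ψ ⟨b, hbm⟩)⁻¹ * ψ ⟨b * (h * r0 * h⁻¹) * b⁻¹, hpm⟩ * ((ψ ⟨b, hbm⟩)⁻¹)⁻¹ := by
    rw [hψ]; group
  have hcomm := Subgroup.mem_centralizer_singleton_iff.1 hpm
  have one_case : ψ ⟨b * (h * r0 * h⁻¹) * b⁻¹, hpm⟩ = 1 → ψ ⟨h * r0 * h⁻¹, hm⟩ = 1 := by
    intro h1; rw [hψ', h1]; group
  rcases hp with hp | hp | hp | hp | hp
  · left
    apply one_case
    have := B.ψ0 (Subgroup.mem_centralizer_singleton_iff.2 rfl)
    rw [← this]; congr 1; exact Subtype.ext hp
  · left
    apply one_case
    have := B.ψ70 (hp ▸ hpm)
    rw [← this]; congr 1; exact Subtype.ext hp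
  · right
    have h1 : ψ ⟨b * (h * r0 * h⁻¹) * b⁻¹, hpm⟩ ∈ TT hF 6 := by
      have := B.ψ60 (hp ▸ hpm)
      have e : (⟨b * (h * r0 * h⁻¹) * b⁻¹, hpm⟩ : ↥(Subgroup.centralizer ({r0} : Set E))) = ⟨p60, hp ▸ hpm⟩ :=
        Subtype.ext hp
      rw [e]; exact this
    rw [hψ']
    exact TT_conj h1 _
  · exfalso
    rw [hp] at hcomm
    exact B.n25 (B.sq_of_comm hp hcomm)
  · exfalso
    rw [hp] at hcomm
    have h2 := B.sq_of_comm hp hcomm
    have h3 := B.cub
    rw [pow_succ, h2, one_mul] at h3
    apply B.nes
    have h5 : r0⁻¹ = r0 := inv_eq_of_mul_eq_one_left B.sq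
    rw [← inv_eq_of_mul_eq_one_right h3, h5]

theorem pow_pair (g h : E) (n : ℕ) :
    ((g * r0 * g⁻¹) * (h * r0 * h⁻¹)) ^ n = 1 ↔ (r0 * ((g⁻¹ * h) * r0 * (g⁻¹ * h)⁻¹)) ^ n = 1 := by
  have e : (g * r0 * g⁻¹) * (h * r0 * h⁻¹) = g * (r0 * ((g⁻¹ * h) * r0 * (g⁻¹ * h)⁻¹)) * g⁻¹ := by group
  rw [e, conj_pow, mul_inv_eq_one]
  constructor
  · intro h1; exact mul_eq_left.1 h1
  · intro h1; rw [h1, mul_one]

theorem chartAt (g : E) : ChartAt hF {x | ∃ g, x = g * r0 * g⁻¹} (g * r0 * g⁻¹) (ψ.comp (cc g r0)) := by
  have hopp : ∀ s, (∃ h, s = h * r0 * h⁻¹) → RootCfg.Opp (g * r0 * g⁻¹) s →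
      ∃ b : E, b * r0 = r0 * b ∧ b * (g⁻¹ * s * g) * b⁻¹ = s0 := by
    rintro s ⟨h, rfl⟩ ⟨hne, h3⟩
    have hne' : r0 ≠ g⁻¹ * h * r0 * (g⁻¹ * h)⁻¹ := by
      intro e
      apply hne
      have e1 : g * r0 * g⁻¹ = g * (g⁻¹ * h * r0 * (g⁻¹ * h)⁻¹) * g⁻¹ := congrArg (fun y => g * y * g⁻¹) e
      rw [e1]; group
    obtain ⟨b, hb, e⟩ := B.opp_of hne' ((B.pow_pair g h 3).1 h3)
    refine ⟨b, hb, ?_⟩
    rw [← e]; group
  -- transport of elements commuting with `s`
  have tr : ∀ (s b : E), b * r0 = r0 * b → b * (g⁻¹ * s * g) * b⁻¹ = s0 →
      ∀ x : ↥(Subgroup.centralizer ({g * r0 * g⁻¹} : Set E)), (x : E) * s = s * x →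
      ∀ hb : b ∈ Subgroup.centralizer ({r0} : Set E),
      (((⟨b, hb⟩ : ↥(Subgroup.centralizer ({r0} : Set E))) * cc g r0 x * (⟨b, hb⟩)⁻¹ :
        ↥(Subgroup.centralizer ({r0} : Set E))) : E) * s0 =
        s0 * (((⟨b, hb⟩ : ↥(Subgroup.centralizer ({r0} : Set E))) * cc g r0 x * (⟨b, hb⟩)⁻¹ :
        ↥(Subgroup.centralizer ({r0} : Set E))) : E) := by
    intro s b hb e x hx hbm
    show b * (g⁻¹ * (x : E) * g) * b⁻¹ * s0 = s0 * (b * (g⁻¹ * (x : E) * g) * b⁻¹)
    rw [← e]
    calc b * (g⁻¹ * (x : E) * g) * b⁻¹ * (b * (g⁻¹ * s * g) * b⁻¹) = b * g⁻¹ * ((x : E) * s) * g * b⁻¹ := by group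
      _ = b * g⁻¹ * (s * (x : E)) * g * b⁻¹ := by rw [hx]
      _ = _ := by group
  refine ⟨?_, ?_, ?_, ?_, ?_⟩
  · intro x hx
    obtain ⟨k, hk⟩ := B.ker _ hx
    refine ⟨k, Subtype.ext ?_⟩
    have h1 : (g⁻¹ * (x : E) * g) ^ 2 ^ k = 1 := congrArg Subtype.val hk
    have h2 : (x : E) ^ 2 ^ k = g * (g⁻¹ * (x : E) * g) ^ 2 ^ k * g⁻¹ := by
      have e : g⁻¹ * (x : E) * g = g⁻¹ * (x : E) * g⁻¹⁻¹ := by rw [inv_inv]
      rw [e, conj_pow]; group
    show (x : E) ^ 2 ^ k = 1
    rw [h2, h1, mul_one, mul_inv_cancel]
  · rintro x ⟨h, hx⟩
    have e : (cc g r0 x : E) = (g⁻¹ * h) * r0 * (g⁻¹ * h)⁻¹ := by rw [coe_cc, hx]; group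
    have hm : (g⁻¹ * h) * r0 * (g⁻¹ * h)⁻¹ ∈ Subgroup.centralizer ({r0} : Set E) := e ▸ (cc g r0 x).2
    have e2 : cc g r0 x = ⟨(g⁻¹ * h) * r0 * (g⁻¹ * h)⁻¹, hm⟩ := Subtype.ext e
    show ψ (cc g r0 x) = 1 ∨ ψ (cc g r0 x) ∈ TT hF 6
    rw [e2]
    exact B.root_of hm
  · intro s hs ho u
    obtain ⟨b, hb, e⟩ := hopp s hs ho
    have hbm : b ∈ Subgroup.centralizer ({r0} : Set E) := Subgroup.mem_centralizer_singleton_iff.2 hb
    obtain ⟨y, hy, e1⟩ := B.surj0 (ψ ⟨b, hbm⟩ * u * (ψ ⟨b, hbm⟩)⁻¹)
    have hy0 := Subgroup.mem_centralizer_singleton_iff.1 y.2
    have hb' : b⁻¹ * r0 = r0 * b⁻¹ := (show Commute b r0 from hb).inv_left.eq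
    have hxm : g * (b⁻¹ * (y : E) * b) * g⁻¹ ∈ Subgroup.centralizer ({g * r0 * g⁻¹} : Set E) := by
      rw [Subgroup.mem_centralizer_singleton_iff]
      have hc : (b⁻¹ * (y : E) * b) * r0 = r0 * (b⁻¹ * (y : E) * b) :=
        (((show Commute b⁻¹ r0 from hb').mul_left (show Commute (y : E) r0 from hy0)).mul_left
          (show Commute b r0 from hb)).eq
      calc g * (b⁻¹ * (y : E) * b) * g⁻¹ * (g * r0 * g⁻¹) = g * ((b⁻¹ * (y : E) * b) * r0) * g⁻¹ := by group
        _ = g * (r0 * (b⁻¹ * (y : E) * b)) * g⁻¹ := by rw [hc]
        _ = _ := by group
    refine ⟨⟨_, hxm⟩, ?_, ?_⟩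
    · show g * (b⁻¹ * (y : E) * b) * g⁻¹ * s = s * (g * (b⁻¹ * (y : E) * b) * g⁻¹)
      have es : s = g * (b⁻¹ * s0 * b) * g⁻¹ := by rw [← e]; group
      rw [es]
      calc g * (b⁻¹ * (y : E) * b) * g⁻¹ * (g * (b⁻¹ * s0 * b) * g⁻¹) = g * b⁻¹ * ((y : E) * s0) * b * g⁻¹ := by group
        _ = g * b⁻¹ * (s0 * (y : E)) * b * g⁻¹ := by rw [hy]
        _ = _ := by group
    · show ψ (cc g r0 ⟨_, hxm⟩) = u
      have e2 : cc g r0 ⟨_, hxm⟩ = (⟨b, hbm⟩ : ↥(Subgroup.centralizer ({r0} : Set E)))⁻¹ * y * ⟨b, hbm⟩ := by
        apply Subtype.ext
        show g⁻¹ * (g * (b⁻¹ * (y : E) * b) * g⁻¹) * g = b⁻¹ * (y : E) * b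
        group
      rw [e2, map_mul, map_mul, map_inv, e1]
      group
  · intro s hs ho x hx h1
    obtain ⟨b, hb, e⟩ := hopp s hs ho
    have hbm : b ∈ Subgroup.centralizer ({r0} : Set E) := Subgroup.mem_centralizer_singleton_iff.2 hb
    have h2 := B.inj0 _ (tr s b hb e x hx hbm) (by
      rw [map_mul, map_mul, map_inv]
      have h3 : ψ (cc g r0 x) = 1 := h1
      rw [h3, mul_one, mul_inv_cancel])
    have h3 : b * (g⁻¹ * (x : E) * g) * b⁻¹ = 1 := congrArg Subtype.val h2
    apply Subtype.ext
    show (x : E) = 1
    have h4 : (x : E) = g * b⁻¹ * (b * (g⁻¹ * (x : E) * g) * b⁻¹) * b * g⁻¹ := by group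
    rw [h4, h3]; group
  · intro s hs ho x hx h1
    obtain ⟨b, hb, e⟩ := hopp s hs ho
    have hbm : b ∈ Subgroup.centralizer ({r0} : Set E) := Subgroup.mem_centralizer_singleton_iff.2 hb
    obtain ⟨c, hc⟩ := B.back0 _ (tr s b hb e x hx hbm) (by
      rw [map_mul, map_mul, map_inv]
      exact TT_conj h1 _)
    have h3 : b * (g⁻¹ * (x : E) * g) * b⁻¹ = c * r0 * c⁻¹ := hc
    refine ⟨g * b⁻¹ * c, ?_⟩
    have h4 : (x : E) = g * b⁻¹ * (b * (g⁻¹ * (x : E) * g) * b⁻¹) * b * g⁻¹ := by group
    rw [h4, h3]; group

/-- **`RootFacts` from the facts at one pair.** -/
theorem rootFacts : RootFacts hF {x | ∃ g, x = g * r0 * g⁻¹} where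
  sq := by rintro _ ⟨g, rfl⟩; exact B.sq_conj g
  ne := by
    rintro _ ⟨g, rfl⟩ h
    apply B.ne
    rw [mul_inv_eq_one] at h
    exact mul_eq_left.1 h
  conj := by
    rintro _ ⟨g, rfl⟩ h
    exact ⟨h * g, by group⟩
  one := by
    rintro _ ⟨g, rfl⟩ _ ⟨h, rfl⟩
    exact ⟨h * g⁻¹, by group⟩
  ord := by
    rintro _ ⟨g, rfl⟩ _ ⟨h, rfl⟩
    rw [B.pow_pair, B.pow_pair]
    obtain ⟨b, hb, hp⟩ := B.pair (g⁻¹ * h)
    have key : ∀ p, b * ((g⁻¹ * h) * r0 * (g⁻¹ * h)⁻¹) * b⁻¹ = p → p * r0 = r0 * p →
        (r0 * ((g⁻¹ * h) * r0 * (g⁻¹ * h)⁻¹)) ^ 4 = 1 := by
      intro p hp hc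
      rw [B.pow_iff hb hp 4, show (4 : ℕ) = 2 * 2 from rfl, pow_mul, B.sq_of_comm hp hc, one_pow]
    rcases hp with hp | hp | hp | hp | hp
    · exact Or.inl (key _ hp rfl)
    · exact Or.inl (key _ hp B.c70)
    · exact Or.inl (key _ hp B.c60)
    · left; rw [B.pow_iff hb hp 4]; exact B.q25
    · right; rw [B.pow_iff hb hp 3]; exact B.cub
  opp := ⟨r0, ⟨1, by group⟩, s0, B.s0c, B.nes, B.cub⟩
  chart := by
    rintro _ ⟨g, rfl⟩
    exact ⟨_, B.chartAt g⟩

end Base

end Abstract

/-! ### The twisted group -/

section Concrete

open Cfsg.Lie
open Cfsg.Agent.ChevalleyStructure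
open Cfsg.Agent.ChevalleyStructure.Elts hiding x_add x_zero x_eq_one_iff
open Cfsg.Agent.ChevalleyStructure.TwE6Basic
open Cfsg.Agent.ChevalleyStructure.TwE6BN
open Cfsg.Agent.TwoESix.LeviA
open Cfsg.Agent.TwoESix.LeviB
open Cfsg.Agent.TwoESix.LeviC
open Cfsg.Agent.TwoESix.LeviE
open Cfsg.Agent.TwoESix.LeviF

universe u

variable {K : Type u} [Field K] [Fintype K] {φ : K →+* K} (F : Four K φ)
include F

/-- The class of root involutions is the class of `r0`. -/
theorem rootClass_eq : rootClass K = {x | ∃ g, x = g * r0 F * g⁻¹} := by
  have h46 : ∃ g, xE F 46 (by decide +kernel) = g * r0 F * g⁻¹ := xE_conj F 46 _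
  obtain ⟨a, ha⟩ := h46
  ext y
  constructor
  · rintro ⟨g, r, hr, rfl⟩
    have e : r = xE F 46 (by decide +kernel) := by
      apply Subtype.ext
      apply Units.ext
      exact hr
    refine ⟨g * a, ?_⟩
    rw [e, ha]; group
  · rintro ⟨g, rfl⟩
    refine ⟨g * a⁻¹, xE F 46 (by decide +kernel), rfl, ?_⟩
    rw [ha]; group

/-- **`RootFacts` for the root involutions of `²E₆(2)`.** -/
theorem rootFacts_four {F' : Type*} [Field F'] [Fintype F'] (hF' : Fintype.card F' = 2 ^ 2) :
    RootFacts hF' (rootClass K) := by
  obtain ⟨e, he⟩ := exists_e F hF' (LeviCard.factorization_LL F)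
  have B : Base hF' (r0 F) (s0 F) (p70 F) (p60 F) (p25 F) (e.toMonoidHom.comp (lvHom F)) := by
    refine ⟨r0_sq F, r0_ne F, pair F, p70_comm F, p60_comm F, s0_conj F, sq_r0_p25 F, four_r0_p25 F, r0_ne_s0 F,
      cube_r0_s0 F, ?_, ?_, ?_, ?_, ?_, ?_, ?_⟩
    · intro h
      have h1 : lvHom F ⟨r0 F, h⟩ = 1 := Subtype.ext (lv_of_UR (x_mem_UR (r := 71) (by decide) (by decide +kernel) 1))
      show e (lvHom F ⟨r0 F, h⟩) = 1
      rw [h1, map_one]
    · intro h
      show e (lvHom F ⟨p70 F, h⟩) = 1
      rw [lvHom_p70, map_one]
    · intro h
      show e (lvHom F ⟨p60 F, h⟩) ∈ TT hF' 6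
      rw [lvHom_p60, ← he]
      exact d0_mem F
    · intro x hx
      exact lvHom_ker F ((map_eq_one_iff e e.injective).1 hx)
    · intro u
      obtain ⟨g, hg, h1⟩ := exists_of_LL F (e.symm u)
      refine ⟨g, hg, ?_⟩
      show e (lvHom F g) = u
      rw [h1, e.apply_symm_apply]
    · intro x hx h1
      have h2 : lvHom F x = 1 := (map_eq_one_iff e e.injective).1 h1
      have h3 := lvHom_of_comm F hx
      rw [h2] at h3
      exact Subtype.ext (Subtype.ext h3.symm)
    · intro x hx h1
      exact DD_root F ((he _).2 h1) (lvHom_of_comm F hx)
  rw [rootClass_eq F]
  exact B.rootFacts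

end Concrete

/-- **`RootFacts` for the root involutions of `²E₆(2)`.** -/
theorem rootFacts {K : Type*} [Field K] [Fintype K] (hK : Fintype.card K = 4) {F' : Type*} [Field F']
    [Fintype F'] (hF' : Fintype.card F' = 2 ^ 2) : RootFacts hF' (rootClass K) := by
  obtain ⟨-, φ, F⟩ := LeviA.exists_four K hK
  exact rootFacts_four F hF'

end Cfsg.Agent.TwoESix.LeviG

private theorem dce_b9c8387edbff : _root_.True := by
  try have : _root_.True := by simp only [_root_.Cfsg.Agent.TwoESix.LeviF.r0.congr_simp]
  exact _root_.True.intro
end
end
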